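import Cfsg.Agent.Lib.Invol.MinNonCA.Basic
import Cfsg.Agent.Lib.Grp.Pyramidal.TopCase
import Cfsg.Agent.Lib.Invol.MaxNorm.GroupFacts

/-!
# Automorphisms trivial modulo the centre (for S4369)
-/

set_option autoImplicit false
set_option linter.style.haveILetI false

namespace Cfsg.Agent.Invol.MinNonCA

open Subgroup

universe u

variable {G : Type u} [Group G]

theorem normal_of_conj_mem {P : Subgroup G} (h : ∀ x ∈ P, ∀ g : G, g * x * g⁻¹ ∈ P) : P.Normal := ⟨h⟩

/-- The elements acting trivially on `P` modulo the centre. -/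
def Wmod (P : Subgroup G) : Subgroup G := ⨅ v ∈ P, Jz v

theorem mem_Wmod {P : Subgroup G} {g : G} : g ∈ Wmod P ↔ ∀ v ∈ P, g * v * g⁻¹ * v⁻¹ ∈ center G := by
  simp [Wmod, mem_iInf, mem_Jz]

theorem wmod_normal (P : Subgroup G) [hP : P.Normal] : (Wmod P).Normal := by
  refine ⟨fun w hw g => mem_Wmod.2 fun v hv => ?_⟩
  have h := mem_Wmod.1 hw (g⁻¹ * v * g⁻¹⁻¹) (hP.conj_mem v hv g⁻¹)
  have h' : g * (w * (g⁻¹ * v * g⁻¹⁻¹) * w⁻¹ * (g⁻¹ * v * g⁻¹⁻¹)⁻¹) * g⁻¹ ∈ center G :=
    (inferInstance : (center G).Normal).conj_mem _ h g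
  rwa [show g * (w * (g⁻¹ * v * g⁻¹⁻¹) * w⁻¹ * (g⁻¹ * v * g⁻¹⁻¹)⁻¹) * g⁻¹ =
    g * w * g⁻¹ * v * (g * w * g⁻¹)⁻¹ * v⁻¹ by group] at h'

theorem jz_mul {a b v : G} (hb : b ∈ Jz v) :
    a * b * v * (a * b)⁻¹ * v⁻¹ = (a * v * a⁻¹ * v⁻¹) * (b * v * b⁻¹ * v⁻¹) := by
  have hb' : a * (b * v * b⁻¹ * v⁻¹) * a⁻¹ = b * v * b⁻¹ * v⁻¹ := conj_eq_of_comm (mem_center_iff.1 hb a)
  rw [show a * b * v * (a * b)⁻¹ * v⁻¹ = a * (b * v * b⁻¹ * v⁻¹) * a⁻¹ * (a * v * a⁻¹ * v⁻¹) by group, hb']
  exact (mem_center_iff.1 hb _).symm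

/-- The commutator map of an element. -/
def commHom (v : G) : Jz v →* center G :=
  MonoidHom.mk' (fun g => ⟨(g : G) * v * (g : G)⁻¹ * v⁻¹, g.2⟩) fun a b => Subtype.ext (jz_mul b.2)

theorem commHom_apply (v : G) (g : Jz v) : (commHom v g : G) = (g : G) * v * (g : G)⁻¹ * v⁻¹ := rfl

theorem commHom_eq_one {v : G} {g : Jz v} : commHom v g = 1 ↔ (g : G) * v = v * g := by
  rw [← OneMemClass.coe_eq_one, commHom_apply, mul_inv_eq_one, mul_inv_eq_iff_eq_mul]

theorem jz_pow {w v : G} (h : w ∈ Jz v) (n : ℕ) :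
    w ^ n * v * (w ^ n)⁻¹ * v⁻¹ = (w * v * w⁻¹ * v⁻¹) ^ n := by
  have := congrArg (Subtype.val) (map_pow (commHom v) ⟨w, h⟩ n)
  simpa [commHom_apply] using this

theorem isSolvable_jz [Finite G] {v : G} (h : Group.IsSolvable (centralizer ({v} : Set G))) :
    Group.IsSolvable (Jz v) := by
  let j : (commHom v).ker →* centralizer ({v} : Set G) := MonoidHom.mk'
    (fun g => ⟨((g : Jz v) : G), mem_centralizer_singleton_iff.2 (commHom_eq_one.1 g.2)⟩) fun _ _ => rfl
  haveI : Group.IsSolvable (commHom v).ker :=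
    Grp.isSolvable_of_injective j (fun a b hab => Subtype.ext (Subtype.ext (congrArg (fun y : centralizer ({v} : Set G) => (y : G)) hab))) h
  haveI : Group.IsSolvable (center G) := Group.isSolvable_of_comm fun a b => Subtype.ext (mem_center_iff.1 b.2 a)
  exact solvable_of_ker_le_range (commHom v).ker.subtype (commHom v) (by rw [range_subtype])

theorem wmod_comm_mem {P : Subgroup G} {a b : G} (ha : a ∈ Wmod P) (hb : b ∈ Wmod P) :
    a * b * a⁻¹ * b⁻¹ ∈ centralizer (P : Set G) := by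
  refine mem_centralizer_iff.2 fun v hv => ?_
  let A : Jz v := ⟨a, mem_Wmod.1 ha v hv⟩
  let B : Jz v := ⟨b, mem_Wmod.1 hb v hv⟩
  have h : commHom v (A * B * A⁻¹ * B⁻¹) = 1 := by
    rw [map_mul, map_mul, map_mul, map_inv, map_inv]
    have hc : ∀ x y : center G, x * y = y * x := fun x y => Subtype.ext (mem_center_iff.1 y.2 x)
    rw [hc (commHom v A), mul_assoc, mul_assoc, ← mul_assoc (commHom v A), mul_inv_cancel, one_mul, mul_inv_cancel]
  exact (commHom_eq_one.1 h).symm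

theorem isSolvable_comap [Finite G] (N : Subgroup G) [N.Normal] (hN : Group.IsSolvable N) {K : Subgroup (G ⧸ N)}
    (hK : Group.IsSolvable K) : Group.IsSolvable (K.comap (QuotientGroup.mk' N)) := by
  haveI := hN
  let f : K.comap (QuotientGroup.mk' N) →* K :=
    MonoidHom.mk' (fun g => ⟨QuotientGroup.mk' N g, g.2⟩) fun a b => Subtype.ext (map_mul _ _ _)
  refine solvable_of_ker_le_range (inclusion (show N ≤ K.comap (QuotientGroup.mk' N) from fun x hx => ?_)) f ?_
  · rw [mem_comap, QuotientGroup.mk'_apply, (QuotientGroup.eq_one_iff x).2 hx]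
    exact one_mem K
  · intro x hx
    exact ⟨⟨x, (QuotientGroup.eq_one_iff (x : G)).1 (congrArg Subtype.val hx)⟩, Subtype.ext rfl⟩

theorem isSolvable_wmod [Finite G] {P : Subgroup G} [P.Normal] (hC : Group.IsSolvable (centralizer (P : Set G))) :
    Group.IsSolvable (Wmod P) := by
  set C := centralizer (P : Set G)
  haveI : C.Normal := inferInstance
  have hK : Group.IsSolvable ((Wmod P).map (QuotientGroup.mk' C)) := Group.isSolvable_of_comm fun a b => by
    obtain ⟨x, hx, hxa⟩ := a.2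
    obtain ⟨y, hy, hyb⟩ := b.2
    refine Subtype.ext ?_
    show (a : G ⧸ C) * b = b * a
    rw [← hxa, ← hyb]
    refine mul_inv_eq_one.1 ?_
    rw [mul_inv_rev, ← mul_assoc, ← map_inv, ← map_inv, ← map_mul, ← map_mul, ← map_mul]
    exact (QuotientGroup.eq_one_iff _).2 (wmod_comm_mem hx hy)
  exact Grp.isSolvable_of_le (le_comap_map _ _) (isSolvable_comap C hC hK)

theorem isSolvable_sup_normalizer [Finite G] {N H : Subgroup G} (hle : H ≤ normalizer (N : Set G))
    (hN : Group.IsSolvable N) (hH : Group.IsSolvable H) : Group.IsSolvable ↥(N ⊔ H) := by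
  have hM : N ⊔ H ≤ normalizer (N : Set G) := sup_le le_normalizer hle
  haveI : (N.subgroupOf (N ⊔ H)).Normal := by
    refine ⟨fun x hx g => ?_⟩
    rw [mem_subgroupOf] at hx ⊢
    exact (mem_normalizer_iff.1 (hM g.2) (x : G)).1 hx
  have h := isSolvable_sup (N := N.subgroupOf (N ⊔ H)) (H := H.subgroupOf (N ⊔ H))
    (Grp.isSolvable_of_injective (subgroupOfEquivOfLe le_sup_left).toMonoidHom (MulEquiv.injective _) hN)
    (Grp.isSolvable_of_injective (subgroupOfEquivOfLe le_sup_right).toMonoidHom (MulEquiv.injective _) hH)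
  rw [← subgroupOf_sup le_sup_left le_sup_right, subgroupOf_self] at h
  exact Grp.isSolvable_of_injective (Subgroup.topEquiv (G := ↥(N ⊔ H))).symm.toMonoidHom (MulEquiv.injective _) h

/-- A group generated by two involutions is solvable. -/
theorem isSolvable_pair [Finite G] {t u : G} (ht : t * t = 1) (hu : u * u = 1) :
    Group.IsSolvable (closure ({t, u} : Set G)) := by
  have hti : t⁻¹ = t := inv_eq_of_mul_eq_one_right ht
  have hui : u⁻¹ = u := inv_eq_of_mul_eq_one_right hu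
  have hr : t * (t * u) * t⁻¹ = (t * u)⁻¹ := by
    rw [mul_inv_rev, hui, hti, ← mul_assoc t t u, ht, one_mul]
  have hle : zpowers t ≤ normalizer (zpowers (t * u) : Set G) := by
    rw [zpowers_le]
    refine Grp.Wielandt.mem_normalizer_of_le ?_
    rw [← Grp.map_conj_eq_smul, MonoidHom.map_zpowers, zpowers_le]
    show t * (t * u) * t⁻¹ ∈ _
    rw [hr]
    exact inv_mem (mem_zpowers _)
  refine Grp.isSolvable_of_le ?_ (isSolvable_sup_normalizer hle inferInstance inferInstance)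
  rw [closure_le]
  rintro x (rfl | rfl)
  · exact mem_sup_right (mem_zpowers _)
  · have h := mul_mem (mem_sup_right (mem_zpowers t) : t ∈ zpowers (t * x) ⊔ zpowers t)
      (mem_sup_left (mem_zpowers (t * x)))
    rwa [← mul_assoc, ht, one_mul] at h

end Cfsg.Agent.Invol.MinNonCA
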