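import Cfsg.Agent.Lib.Invol.MinNonCA.Forward
import Cfsg.Agent.Lib.Fus.SmallSimple
import Cfsg.Agent.Lib.Classical.SLNormal
import Cfsg.Agent.S0799

/-!
# The admissible linear groups are minimal non-CA (for S4369)
-/

set_option autoImplicit false
set_option linter.style.haveILetI false

namespace Cfsg.Agent.Invol.MinNonCA

open Subgroup Matrix
open Cfsg.Agent.Grp.SL2

universe u

theorem GoodCard.mod_eight {q : ℕ} (h : GoodCard q) : (q % 8 = 3 ∨ q % 8 = 5) ∧ 7 ≤ q := by
  rcases h with ⟨hq, h5, h16⟩ | ⟨p, hp, hp2, e⟩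
  · obtain ⟨k, hk⟩ := hq.odd_of_ne_two (by omega)
    refine ⟨?_, by omega⟩
    by_contra hc
    obtain ⟨a, ha⟩ : ∃ a, q = 8 * a + 1 ∨ q = 8 * a + 7 := ⟨q / 8, by omega⟩
    refine h16 ?_
    rcases ha with rfl | rfl
    · exact ⟨a * (4 * a + 1), by rw [show (8 * a + 1) ^ 2 = 16 * (a * (4 * a + 1)) + 1 by ring]; omega⟩
    · exact ⟨4 * a ^ 2 + 7 * a + 3, by rw [show (8 * a + 7) ^ 2 = 16 * (4 * a ^ 2 + 7 * a + 3) + 1 by ring]; omega⟩
  · obtain ⟨j, rfl⟩ := hp.odd_of_ne_two hp2
    have hj : 1 ≤ j := by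
      have := hp.two_le
      omega
    rcases e with rfl | rfl
    · have h1 : 3 ^ 3 ≤ 3 ^ (2 * j + 1) := Nat.pow_le_pow_right (by omega) (by omega)
      refine ⟨Or.inl ?_, le_trans (by norm_num) h1⟩
      rw [pow_succ, pow_mul, Nat.mul_mod, Nat.pow_mod]
      norm_num
    · have h1 : 5 ^ 3 ≤ 5 ^ (2 * j + 1) := Nat.pow_le_pow_right (by omega) (by omega)
      refine ⟨Or.inr ?_, le_trans (by norm_num) h1⟩
      rw [pow_succ, pow_mul, Nat.mul_mod, Nat.pow_mod]
      norm_num

theorem GoodCard.root {k m q : ℕ} (h : GoodCard q) (hk : 1 < k) (e : k ^ m = q) : m = 1 ∨ k = 3 ∨ k = 5 := by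
  rcases h with ⟨hq, -, -⟩ | ⟨p, hp, -, rfl | rfl⟩
  · exact Or.inl ((Nat.Prime.pow_eq_iff hq).1 e).2
  all_goals
    have hm : m ≠ 0 := fun h0 => by
      rw [h0, pow_zero] at e
      exact absurd e (Nat.one_lt_pow hp.ne_zero (by norm_num)).ne
    obtain ⟨a, -, rfl⟩ := (Nat.dvd_prime_pow (by norm_num)).1 (e ▸ dvd_pow_self k hm)
    rw [← pow_mul] at e
    have ham := Nat.pow_right_injective (by norm_num) e
    rcases hp.eq_one_or_self_of_dvd a ⟨m, ham.symm⟩ with rfl | rfl
    · simp
    · left
      exact Nat.eq_of_mul_eq_mul_left hp.pos (ham.trans (mul_one a).symm)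

theorem dihedral_ca (n : ℕ) : CA (DihedralGroup n) := ca_of_comm fun x a b hx ha hb => by
  rcases x with i | i
  · have h2 : i + i ≠ 0 := fun e => hx (mem_center_iff.2 fun g => by
      rcases g with j | j
      · rw [DihedralGroup.r_mul_r, DihedralGroup.r_mul_r, add_comm]
      · rw [DihedralGroup.sr_mul_r, DihedralGroup.r_mul_sr]
        congr 1
        linear_combination e)
    rcases a with j | j
    · rcases b with l | l
      · rw [DihedralGroup.r_mul_r, DihedralGroup.r_mul_r, add_comm]
      · rw [DihedralGroup.sr_mul_r, DihedralGroup.r_mul_sr, DihedralGroup.sr.injEq] at hb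
        exact absurd (by linear_combination hb) h2
    · rw [DihedralGroup.sr_mul_r, DihedralGroup.r_mul_sr, DihedralGroup.sr.injEq] at ha
      exact absurd (by linear_combination ha) h2
  · rcases a with j | j <;> rcases b with l | l
    · rw [DihedralGroup.r_mul_r, DihedralGroup.r_mul_r, add_comm]
    · rw [DihedralGroup.r_mul_sr, DihedralGroup.sr_mul_r, DihedralGroup.sr.injEq] at ha
      rw [DihedralGroup.r_mul_sr, DihedralGroup.sr_mul_r]
      congr 1
      linear_combination ha
    · rw [DihedralGroup.r_mul_sr, DihedralGroup.sr_mul_r, DihedralGroup.sr.injEq] at hb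
      rw [DihedralGroup.r_mul_sr, DihedralGroup.sr_mul_r]
      congr 1
      linear_combination (-1 : ZMod n) * hb
    · rw [DihedralGroup.sr_mul_sr, DihedralGroup.sr_mul_sr, DihedralGroup.r.injEq] at ha hb
      rw [DihedralGroup.sr_mul_sr, DihedralGroup.sr_mul_sr]
      congr 1
      linear_combination ha - hb

section Linear

variable {F : Type} [Field F] [Fintype F]

local notation "PS₂" => Matrix.ProjectiveSpecialLinearGroup (Fin 2) F

theorem small_ca (hq : Fintype.card F = 3 ∨ Fintype.card F = 5) : CA PS₂ := by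
  rcases hq with hq | hq
  · have hodd : Odd (Fintype.card F) := by rw [hq]; decide
    obtain ⟨p, hp⟩ := CharP.exists F
    haveI := Fact.mk (CharP.char_is_prime F p)
    refine ca_of_comm fun x a b hx ha hb => ?_
    have hx1 : x ≠ 1 := fun e => hx (e ▸ one_mem _)
    by_cases hx2 : x * x = 1
    · haveI : Fact (Nat.Prime 2) := ⟨Nat.prime_two⟩
      have hc := (Transfer.SelfCentNoncyclic.card_centralizer_involution p hodd
        (orderOf_eq_prime (by rw [pow_two, hx2]) hx1)).2 (by omega)
      exact congrArg Subtype.val (IsPGroup.commutative_of_card_eq_prime_sq (p := 2) (by rw [hc, hq]; rfl)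
        (⟨a, mem_centralizer_singleton_iff.2 ha⟩ : centralizer ({x} : Set _))
        ⟨b, mem_centralizer_singleton_iff.2 hb⟩)
    · exact psl_comm hx1 (Or.inl hx2) ha hb
  · exact five_ca hq

theorem alt_five_ca : CA (alternatingGroup (Fin 5)) := by
  haveI : Fact (Nat.Prime 5) := ⟨by norm_num⟩
  haveI := Classical.PSL_isSimple (F := ZMod 5) (n := 2) le_rfl fun _ => by simp
  have hc := GW.card_PSLTwo (F := ZMod 5) (by simp; decide)
  obtain ⟨e⟩ := Fus.alternating_five_of_card (G := Matrix.ProjectiveSpecialLinearGroup (Fin 2) (ZMod 5))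
    (by rw [ZMod.card] at hc; norm_num at hc ⊢; omega)
  exact (five_ca (ZMod.card 5)).congr e

set_option maxRecDepth 10000 in
theorem alt_four_ca : CA (alternatingGroup (Fin 4)) := ca_of_comm fun x a b hx => by
  have key : ∀ x : Equiv.Perm (Fin 4), Equiv.Perm.sign x = 1 → x ≠ 1 → ∀ a : Equiv.Perm (Fin 4),
      Equiv.Perm.sign a = 1 → a * x = x * a → ∀ b : Equiv.Perm (Fin 4), Equiv.Perm.sign b = 1 → b * x = x * b →
        a * b = b * a := by
    decide +kernel
  intro ha hb
  exact Subtype.ext (key x (Equiv.Perm.mem_alternatingGroup.1 x.2) (fun e => hx ((show x = 1 from Subtype.ext e) ▸ one_mem _))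
    a (Equiv.Perm.mem_alternatingGroup.1 a.2) (congrArg Subtype.val ha) b (Equiv.Perm.mem_alternatingGroup.1 b.2)
    (congrArg Subtype.val hb))

/-- A subgroup without four-groups is CA. -/
theorem ca_of_no_four (h0 : (2 : F) ≠ 0) (H : Subgroup PS₂)
    (h : ∀ x ∈ H, ∀ a ∈ H, x ≠ 1 → a ≠ 1 → x * x = 1 → a * a = 1 → a * x = x * a → a = x) : CA H := by
  refine ca_of_comm fun x a b hx ha hb => Subtype.ext ?_
  have hx1 : (x : PS₂) ≠ 1 := fun e => hx ((show x = 1 from Subtype.ext e) ▸ one_mem _)
  have ha' : (a : PS₂) * x = x * a := congrArg Subtype.val ha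
  have hb' : (b : PS₂) * x = x * b := congrArg Subtype.val hb
  rw [Subgroup.coe_mul, Subgroup.coe_mul]
  by_cases hx2 : (x : PS₂) * x = 1
  · obtain ⟨x', hx'⟩ := Classical.slToPSL_surjective (x : PS₂)
    have hxs : ¬ IsScalar x' := fun hs => hx1 (hx' ▸ mk_eq_one.2 hs)
    have key : ∀ g : H, (g : PS₂) * x = x * g → ∃ g', Classical.slToPSL 2 F g' = g ∧ g' * x' = x' * g' := by
      intro g hg
      obtain ⟨g', hg'⟩ := Classical.slToPSL_surjective (g : PS₂)
      refine ⟨g', hg', (psl_commute (by rw [hg', hx', hg])).elim id fun hneg => absurd ?_ hxs⟩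
      have e1 : x' * g' * x'⁻¹ = -g' := by
        have e2 : g' * x' = -x' * g' := mul_inv_eq_iff_eq_mul.1 hneg
        rw [show x' * g' = -(g' * x') by rw [e2, neg_mul, neg_neg], neg_mul, mul_inv_cancel_right]
      have ht : tr g' = 0 := by
        have := tr_conj x' g'
        rw [e1, tr_neg] at this
        exact (mul_eq_zero.1 (show (2 : F) * tr g' = 0 by linear_combination (-1 : F) * this)).resolve_left h0
      have hgg : (g : PS₂) * g = 1 := by
        rw [← hg', ← map_mul, mk_eq_one]
        refine Or.inr (Subtype.ext ?_)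
        have := cayley g'
        rw [ht, zero_smul, zero_sub] at this
        rwa [Matrix.SpecialLinearGroup.coe_mul, Matrix.SpecialLinearGroup.coe_neg,
          Matrix.SpecialLinearGroup.coe_one]
      have hcomm : g' * x' = x' * g' → IsScalar x' := fun hc => by
        rw [← hc, mul_inv_cancel_right] at e1
        exact absurd (congrArg (fun z : Matrix.SpecialLinearGroup (Fin 2) F => z.1) e1) fun e3 => by
          rw [Matrix.SpecialLinearGroup.coe_neg] at e3
          have h00 := fun i j => congrFun (congrFun e3 i) j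
          simp only [Matrix.neg_apply] at h00
          have hz : ∀ i j, g'.1 i j = 0 := fun i j => (mul_eq_zero.1
            (show (2 : F) * g'.1 i j = 0 by linear_combination h00 i j)).resolve_left h0
          have hdet := g'.2
          rw [Matrix.det_fin_two, hz 0 0, hz 0 1, zero_mul, zero_mul, sub_zero] at hdet
          exact zero_ne_one hdet
      refine hcomm ?_
      rcases mk_eq_iff.1 (show Classical.slToPSL 2 F g' = Classical.slToPSL 2 F x' by
        rw [hg', hx']
        refine h x x.2 g g.2 hx1 (fun e => ?_) hx2 hgg hg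
        rw [← hg', mk_eq_one] at e
        rcases e with rfl | rfl
        · simp [tr] at ht
          exact h0 (by linear_combination ht)
        · simp [tr, Matrix.SpecialLinearGroup.coe_neg] at ht
          exact h0 (by linear_combination (-1 : F) * ht)) with rfl | rfl
      · rfl
      · rw [neg_mul, mul_neg]
    obtain ⟨a', ea, ca⟩ := key a ha'
    obtain ⟨b', eb, cb⟩ := key b hb'
    rw [← ea, ← eb, ← map_mul, ← map_mul, (commute_trans hxs ca (Commute.symm cb)).eq]
  · exact psl_comm hx1 (Or.inl hx2) ha' hb'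

theorem ca_of_not_four_dvd (h0 : (2 : F) ≠ 0) (H : Subgroup PS₂) (h4 : ¬ 4 ∣ Nat.card H) : CA H := by
  refine ca_of_no_four h0 H fun x hx a ha hx1 ha1 hx2 ha2 hax => Classical.byContradiction fun hne => h4 ?_
  let V : Subgroup PS₂ :=
    { carrier := {g | g = 1 ∨ g = x ∨ g = a ∨ g = x * a}
      one_mem' := Or.inl rfl
      inv_mem' := by
        rintro g (rfl | rfl | rfl | rfl)
        · simp
        · exact Or.inr (Or.inl (inv_eq_of_mul_eq_one_right hx2))
        · exact Or.inr (Or.inr (Or.inl (inv_eq_of_mul_eq_one_right ha2)))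
        · refine Or.inr (Or.inr (Or.inr ?_))
          rw [_root_.mul_inv_rev, inv_eq_of_mul_eq_one_right hx2, inv_eq_of_mul_eq_one_right ha2, hax]
      mul_mem' := by
        have h1 : ∀ c, x * (x * c) = c := fun c => by rw [← mul_assoc, hx2, one_mul]
        have h2 : ∀ c, a * (a * c) = c := fun c => by rw [← mul_assoc, ha2, one_mul]
        have h3 : ∀ c, a * (x * c) = x * (a * c) := fun c => by rw [← mul_assoc, hax, mul_assoc]
        rintro g k (rfl | rfl | rfl | rfl) (rfl | rfl | rfl | rfl) <;>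
          simp [mul_assoc, hx2, ha2, hax, h1, h3] }
  have hV : Nat.card V = 4 := by
    classical
    rw [show (4 : ℕ) = ({1, x, a, x * a} : Finset PS₂).card from ?_, ← SetLike.coe_sort_coe, Nat.card_coe_set_eq,
      ← Set.ncard_coe_finset]
    · refine congrArg Set.ncard ?_
      ext g
      simp [V]
    · symm
      rw [Finset.card_insert_of_notMem, Finset.card_insert_of_notMem, Finset.card_insert_of_notMem,
        Finset.card_singleton]
      · simp only [Finset.mem_singleton]
        intro e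
        exact hx1 (mul_eq_right.1 e.symm)
      · simp only [Finset.mem_insert, Finset.mem_singleton]
        rintro (e | e)
        · exact hne e.symm
        · exact ha1 (mul_eq_left.1 e.symm)
      · simp only [Finset.mem_insert, Finset.mem_singleton]
        rintro (e | e | e)
        · exact hx1 e.symm
        · exact ha1 e.symm
        · exact hne (by rw [← inv_eq_of_mul_eq_one_right hx2]; exact (inv_eq_of_mul_eq_one_right e.symm).symm)
  rw [← hV]
  refine card_dvd_of_le ?_
  rintro g (rfl | rfl | rfl | rfl)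
  · exact one_mem _
  · exact hx
  · exact ha
  · exact mul_mem hx ha

theorem card_not_eight (h8 : Fintype.card F % 8 = 3 ∨ Fintype.card F % 8 = 5) : ¬ 8 ∣ Nat.card PS₂ := by
  have h := GW.card_PSLTwo (F := F) (Nat.odd_iff.2 (by omega))
  generalize Nat.card PS₂ = P at h
  generalize Fintype.card F = q at h h8
  rintro ⟨i, rfl⟩
  obtain ⟨a, ha⟩ : ∃ a, q = 8 * a + 3 ∨ q = 8 * a + 5 := ⟨q / 8, by omega⟩
  rcases ha with rfl | rfl
  · rw [show 8 * a + 3 - 1 = 8 * a + 2 by omega] at h
    have h2 : (8 * a + 3) * ((4 * a + 1) * (2 * a + 1)) = 2 * i := by linarith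
    have : Odd ((8 * a + 3) * ((4 * a + 1) * (2 * a + 1))) :=
      (Nat.odd_iff.2 (by omega)).mul ((Nat.odd_iff.2 (by omega)).mul (Nat.odd_iff.2 (by omega)))
    exact Nat.not_even_iff_odd.2 this ⟨i, by omega⟩
  · rw [show 8 * a + 5 - 1 = 8 * a + 4 by omega] at h
    have h2 : (8 * a + 5) * ((2 * a + 1) * (4 * a + 3)) = 2 * i := by linarith
    have : Odd ((8 * a + 5) * ((2 * a + 1) * (4 * a + 3))) :=
      (Nat.odd_iff.2 (by omega)).mul ((Nat.odd_iff.2 (by omega)).mul (Nat.odd_iff.2 (by omega)))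
    exact Nat.not_even_iff_odd.2 this ⟨i, by omega⟩

theorem borel_not_four (p : ℕ) [Fact p.Prime] [CharP F p]
    (h8 : Fintype.card F % 8 = 3 ∨ Fintype.card F % 8 = 5) (P : Sylow p PS₂) :
    ¬ 4 ∣ Nat.card (normalizer ((P : Subgroup PS₂) : Set PS₂)) := by
  have ha : Classical.slToPSL 2 F (up 1) ≠ 1 := fun e => by
    rcases mk_eq_one.1 e with h | h
    · have := congrArg (fun z : Matrix.SpecialLinearGroup (Fin 2) F => z.1 0 1) h
      simp [up] at this
    · have := congrArg (fun z : Matrix.SpecialLinearGroup (Fin 2) F => z.1 0 1) h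
      simp only [Matrix.SpecialLinearGroup.coe_neg] at this
      simp [up] at this
  have hap : Classical.slToPSL 2 F (up 1) ^ p = 1 := by
    rw [← map_pow, up_pow, mul_one, CharP.cast_eq_zero, up_zero, map_one]
  obtain ⟨Q, hQ⟩ := (Dickson.pslData (F := F) p).exists_sylow (Fact.out : p.Prime) ha hap
  have hb := Dickson.card_borel p ha hap
  have hi : (normalizer ((P : Subgroup PS₂) : Set PS₂)).index = (normalizer ((Q : Subgroup PS₂) : Set PS₂)).index :=
    (Sylow.card_eq_index_normalizer P).symm.trans (Sylow.card_eq_index_normalizer Q)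
  have hc : Nat.card (normalizer ((P : Subgroup PS₂) : Set PS₂)) =
      Nat.card (normalizer ((Q : Subgroup PS₂) : Set PS₂)) := by
    have h1 := (normalizer ((P : Subgroup PS₂) : Set PS₂)).card_mul_index
    rw [hi, ← (normalizer ((Q : Subgroup PS₂) : Set PS₂)).card_mul_index] at h1
    exact Nat.eq_of_mul_eq_mul_right (Nat.pos_of_ne_zero index_ne_zero_of_finite) h1
  rw [hc, hQ]
  rintro ⟨i, hi4⟩
  rw [show (Dickson.pslData (F := F) p).T = Dickson.tor from rfl] at hi4
  rw [hi4, show Dickson.del F = 2 from (Dickson.del_cases (F := F)).elim (fun hh => absurd hh.2 (Nat.not_even_iff_odd.2 (Nat.odd_iff.2 (by omega)))) And.left] at hb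
  have h8q : 8 ∣ Fintype.card F * (Fintype.card F - 1) := ⟨i, by omega⟩
  have hco : Nat.Coprime 8 (Fintype.card F) :=
    (Nat.Coprime.pow_left 3 (Nat.coprime_two_left.2 (Nat.odd_iff.2 (by omega))))
  have := (Nat.Coprime.dvd_of_dvd_mul_left hco h8q)
  omega

/-- The proper subgroups of an admissible linear group are CA. -/
theorem subCA_psl (hg : GoodCard (Fintype.card F)) : SubCA PS₂ := by
  obtain ⟨h8, h7⟩ := hg.mod_eight
  have hodd : Odd (Fintype.card F) := Nat.odd_iff.2 (by omega)
  have h0 := two_ne_zero_of_odd hodd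
  obtain ⟨p, hp⟩ := CharP.exists F
  haveI := Fact.mk (CharP.char_is_prime F p)
  intro H hH
  have h8' := card_not_eight h8
  have hdvd : Nat.card H ∣ Nat.card PS₂ := card_subgroup_dvd_card H
  rcases Cfsg.Agent.S0799.result (F := F) rfl p H with
    ⟨k, -, ⟨hcyc, -⟩ | ⟨⟨e⟩⟩⟩ | ⟨P, K, hK, ⟨e⟩⟩ | ⟨⟨e⟩⟩ | ⟨⟨e⟩⟩ | ⟨⟨e⟩⟩ | ⟨K, iK, iKt, m, hm, he⟩
  · haveI := hcyc
    exact ca_of_comm fun _ a b _ _ _ => mul_comm' a b
  · exact (dihedral_ca k).congr e.symm
  · exact (ca_of_not_four_dvd h0 K fun h => borel_not_four p h8 P (h.trans (card_dvd_of_le hK))).congr e.symm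
  · exact alt_four_ca.congr e.symm
  · exfalso
    rw [Nat.card_congr e.toEquiv, Nat.card_perm, Nat.card_fin] at hdvd
    exact h8' (dvd_trans (by decide) hdvd)
  · exact alt_five_ca.congr e.symm
  · rcases he with ⟨⟨e⟩⟩ | ⟨⟨e⟩⟩
    · rcases hg.root Fintype.one_lt_card hm with rfl | hk
      · exfalso
        rw [pow_one] at hm
        refine hH (eq_top_of_card_eq _ ?_)
        have h1 := GW.card_PSLTwo (F := F) hodd
        have h2 := GW.card_PSLTwo (F := K) (hm ▸ hodd)
        rw [hm] at h2
        rw [Nat.card_congr e.toEquiv]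
        omega
      · exact (small_ca hk).congr e.symm
    · exfalso
      have hkodd : Odd (Fintype.card K) := by
        have hm' := hm ▸ hodd
        refine (Nat.odd_pow_iff fun h0' => ?_).1 hm'
        rw [h0', pow_zero] at hm; omega
      rw [Nat.card_congr e.toEquiv, Classical.natCard_PGL_eq_SL, Fus.PSLTwo.natCard_SL_two] at hdvd
      obtain ⟨j, hj⟩ := hkodd
      refine h8' (dvd_trans ?_ hdvd)
      obtain ⟨i, hi⟩ : Even (j * (j + 1)) := Nat.even_mul_succ_self j
      refine ⟨(2 * j + 1) * i, ?_⟩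
      rw [hj, show 2 * j + 1 - 1 = 2 * j by omega]
      calc (2 * j + 1) * (2 * j * (2 * j + 1 + 1)) = (2 * j + 1) * (4 * (j * (j + 1))) := by ring
        _ = _ := by rw [hi]; ring

theorem psl_not_solvable (h7 : 7 ≤ Fintype.card F) : ¬ Group.IsSolvable PS₂ := by
  haveI := Classical.PSL_isSimple (F := F) (n := 2) le_rfl fun _ => by omega
  intro hs
  have hc : IsMulCommutative PS₂ := IsSimpleGroup.comm_iff_isSolvable.2 hs |> fun h => ⟨⟨h⟩⟩
  rcases mk_eq_iff.1 (show Classical.slToPSL 2 F (up 1 * low 1) = Classical.slToPSL 2 F (low 1 * up 1) by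
    rw [map_mul, map_mul]; exact hc.is_comm.comm _ _) with h | h
  all_goals
    have h00 := congrArg (fun z : Matrix.SpecialLinearGroup (Fin 2) F => z.1 0 1) h
    have h01 := congrArg (fun z : Matrix.SpecialLinearGroup (Fin 2) F => z.1 0 0) h
    simp only [Matrix.SpecialLinearGroup.coe_mul, Matrix.SpecialLinearGroup.coe_neg] at h00 h01
    simp [up, low, Matrix.mul_apply, Fin.sum_univ_two] at h00 h01
  exact one_ne_zero (show (1 : F) = 0 by linear_combination h01 - h00)

end Linear

/-- The admissible linear groups are nonsolvable minimal non-CA groups. -/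
theorem backward {G : Type u} [Group G] [Finite G] {F : Type} [Field F] [Fintype F]
    (e : G ≃* Matrix.ProjectiveSpecialLinearGroup (Fin 2) F) (hg : GoodCard (Fintype.card F)) :
    ¬ Group.IsSolvable G ∧ ¬ CA G ∧ SubCA G := by
  obtain ⟨h8, h7⟩ := hg.mod_eight
  refine ⟨fun hs => psl_not_solvable h7 (Group.isSolvable_of_surjective (f := e.toMonoidHom) e.surjective),
    fun hc => psl_not_ca h7 (two_ne_zero_of_odd (Nat.odd_iff.2 (by omega))) (hc.congr e),
    (subCA_psl hg).congr e.symm⟩

end Cfsg.Agent.Invol.MinNonCA
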