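import Cfsg.Agent.Lib.Grp.Basic
import Cfsg.Agent.Lib.Grp.Cores
import Cfsg.Agent.Lib.Grp.Wielandt.Basic
import Cfsg.Agent.S0205

/-!
# Groups whose proper subgroups have abelian centralisers of noncentral elements (for S4369)
-/

set_option autoImplicit false
set_option linter.style.haveILetI false

namespace Cfsg.Agent.Invol.MinNonCA

open Subgroup

universe u v

/-- The centraliser of every noncentral element is abelian. -/
def CA (G : Type u) [Group G] : Prop :=
  ∀ x : G, x ∉ Subgroup.center G → IsMulCommutative (Subgroup.centralizer ({x} : Set G))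

/-- All proper subgroups are CA. -/
def SubCA (G : Type u) [Group G] : Prop :=
  ∀ H : Subgroup G, H ≠ ⊤ → CA H

variable {G : Type u} [Group G]

theorem ca_of_comm (h : ∀ x a b : G, x ∉ center G → a * x = x * a → b * x = x * b → a * b = b * a) : CA G :=
  fun x hx => ⟨⟨fun a b => Subtype.ext (h x a b hx (mem_centralizer_singleton_iff.1 a.2)
    (mem_centralizer_singleton_iff.1 b.2))⟩⟩

theorem CA.comm (h : CA G) {x a b : G} (hx : x ∉ center G) (ha : a * x = x * a) (hb : b * x = x * b) :
    a * b = b * a :=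
  congrArg Subtype.val ((h x hx).is_comm.comm ⟨a, mem_centralizer_singleton_iff.2 ha⟩
    ⟨b, mem_centralizer_singleton_iff.2 hb⟩)

theorem SubCA.comm_of_mem (h : SubCA G) {H : Subgroup G} (hH : H ≠ ⊤) {x a b y : G} (hx : x ∈ H) (hy : y ∈ H)
    (hxy : x * y ≠ y * x) (ha : a ∈ H) (hb : b ∈ H) (hax : a * x = x * a) (hbx : b * x = x * b) :
    a * b = b * a :=
  congrArg Subtype.val ((h H hH).comm (x := ⟨x, hx⟩) (a := ⟨a, ha⟩) (b := ⟨b, hb⟩)
    (fun hc => hxy (congrArg Subtype.val (mem_center_iff.1 hc ⟨y, hy⟩)).symm) (Subtype.ext hax) (Subtype.ext hbx))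

theorem CA.of_injective (h : CA G) {H : Type v} [Group H] (f : H →* G) (hf : Function.Injective f) : CA H :=
  ca_of_comm fun x a b hx ha hb => hf (by
    rw [map_mul, map_mul]
    refine h.comm (x := f x) (fun hc => hx (mem_center_iff.2 fun y => hf ?_)) ?_ ?_
    · rw [map_mul, map_mul]; exact mem_center_iff.1 hc (f y)
    · rw [← map_mul, ← map_mul, ha]
    · rw [← map_mul, ← map_mul, hb])

theorem CA.congr (h : CA G) {H : Type v} [Group H] (e : G ≃* H) : CA H :=
  h.of_injective e.symm.toMonoidHom e.symm.injective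

theorem SubCA.congr (h : SubCA G) {H : Type v} [Group H] (e : G ≃* H) : SubCA H := by
  intro K hK
  have hK' : K.comap e.toMonoidHom ≠ ⊤ := fun h' => hK (top_le_iff.1 fun y _ => by
    obtain ⟨x, rfl⟩ := e.surjective y
    exact (h'.symm ▸ mem_top x : x ∈ K.comap e.toMonoidHom))
  let f : K →* K.comap e.toMonoidHom := MonoidHom.mk'
    (fun k => ⟨e.symm k, mem_comap.2 ((e.apply_symm_apply (k : H)).symm ▸ k.2)⟩)
    (fun a b => Subtype.ext (map_mul e.symm (a : H) b))
  exact (h _ hK').of_injective f fun a b hab => Subtype.ext (e.symm.injective (congrArg Subtype.val hab))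

theorem SubCA.subgroup (h : SubCA G) {D : Subgroup G} : SubCA D := fun H hH => by
  have h1 : H.map D.subtype ≠ ⊤ := fun h' => hH (top_le_iff.1 fun x _ => by
    obtain ⟨y, hy, hyx⟩ := (h'.symm ▸ mem_top (x : G) : (x : G) ∈ H.map D.subtype)
    exact Subtype.ext hyx ▸ hy)
  exact (h _ h1).of_injective (H.equivMapOfInjective D.subtype D.subtype_injective).toMonoidHom
    (MulEquiv.injective _)

theorem comm_eq_of_conj {g x : G} (h : g * x * g⁻¹ = x) : g * x = x * g := mul_inv_eq_iff_eq_mul.1 h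

theorem conj_eq_of_comm {g x : G} (h : g * x = x * g) : g * x * g⁻¹ = x := mul_inv_eq_iff_eq_mul.2 h

/-- The elements commuting with `x` modulo the centre. -/
def Jz (x : G) : Subgroup G where
  carrier := {g | g * x * g⁻¹ * x⁻¹ ∈ center G}
  one_mem' := by simp
  mul_mem' {a b} ha hb := by
    show a * b * x * (a * b)⁻¹ * x⁻¹ ∈ center G
    have hb' : a * (b * x * b⁻¹ * x⁻¹) * a⁻¹ = b * x * b⁻¹ * x⁻¹ :=
      conj_eq_of_comm (mem_center_iff.1 hb a)
    rw [show a * b * x * (a * b)⁻¹ * x⁻¹ = a * (b * x * b⁻¹ * x⁻¹) * a⁻¹ * (a * x * a⁻¹ * x⁻¹) by group, hb']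
    exact mul_mem hb ha
  inv_mem' {a} ha := by
    show a⁻¹ * x * a⁻¹⁻¹ * x⁻¹ ∈ center G
    have ha' : a⁻¹ * (a * x * a⁻¹ * x⁻¹) * a = a * x * a⁻¹ * x⁻¹ := by
      rw [mul_assoc, ← mem_center_iff.1 ha a, ← mul_assoc, inv_mul_cancel, one_mul]
    rw [show a⁻¹ * x * a⁻¹⁻¹ * x⁻¹ = (a⁻¹ * (a * x * a⁻¹ * x⁻¹) * a)⁻¹ by group, ha']
    exact inv_mem ha

theorem mem_Jz {x g : G} : g ∈ Jz x ↔ g * x * g⁻¹ * x⁻¹ ∈ center G := Iff.rfl

theorem centralizer_le_Jz (x : G) : centralizer ({x} : Set G) ≤ Jz x := fun g hg => by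
  rw [mem_Jz, conj_eq_of_comm (mem_centralizer_singleton_iff.1 hg), mul_inv_cancel]
  exact one_mem _

theorem center_le_centralizer (x : G) : center G ≤ centralizer ({x} : Set G) := fun g hg =>
  mem_centralizer_singleton_iff.2 (mem_center_iff.1 hg x).symm

/-- A nonabelian centraliser is only contained in subgroups centralising the element. -/
theorem le_centralizer_of_witness (h : SubCA G) {x a b : G} (ha : a * x = x * a) (hb : b * x = x * b)
    (hab : a * b ≠ b * a) {M : Subgroup G} (hM : M ≠ ⊤) (hle : centralizer ({x} : Set G) ≤ M) :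
    M ≤ centralizer ({x} : Set G) := by
  intro y hy
  refine mem_centralizer_singleton_iff.2 (Classical.byContradiction fun hxy => hab ?_)
  exact h.comm_of_mem hM (hle (mem_centralizer_singleton_iff.2 rfl)) hy (fun e => hxy e.symm)
    (hle (mem_centralizer_singleton_iff.2 ha)) (hle (mem_centralizer_singleton_iff.2 hb)) ha hb

theorem witness_not_center {x a b : G} (ha : a * x = x * a) (hb : b * x = x * b) (hab : a * b ≠ b * a)
    (h : SubCA G) {M : Subgroup G} (hM : M ≠ ⊤) (hx : x ∈ M) (haM : a ∈ M) (hbM : b ∈ M) {y : G} (hy : y ∈ M) :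
    x * y = y * x :=
  Classical.byContradiction fun hxy => hab (h.comm_of_mem hM hx hy hxy haM hbM ha hb)

theorem exists_noncomm {x : G} (h : ¬ IsMulCommutative (centralizer ({x} : Set G))) :
    ∃ a b : G, a * x = x * a ∧ b * x = x * b ∧ a * b ≠ b * a := by
  by_contra hc
  push Not at hc
  exact h ⟨⟨fun a b => Subtype.ext (hc a b (mem_centralizer_singleton_iff.1 a.2)
    (mem_centralizer_singleton_iff.1 b.2))⟩⟩

section Solvable

variable [Finite G]

theorem isSolvable_ext (N : Subgroup G) [N.Normal] (hN : Group.IsSolvable N) (hQ : Group.IsSolvable (G ⧸ N)) :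
    Group.IsSolvable G :=
  haveI := hN; haveI := hQ
  solvable_of_ker_le_range N.subtype (QuotientGroup.mk' N) (by rw [QuotientGroup.ker_mk', range_subtype])

theorem isSolvable_of_odd_index (N : Subgroup G) [N.Normal] (hN : Group.IsSolvable N) (h : Odd N.index) :
    Group.IsSolvable G :=
  isSolvable_ext N hN (Cfsg.Agent.S0205.result (by rwa [← Subgroup.index_eq_card]))

/-- A group whose Sylow 2-subgroup is central in its normaliser is solvable. -/
theorem isSolvable_of_burnside [Fact (Nat.Prime 2)] (P : Sylow 2 G)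
    (h : normalizer ((P : Subgroup G) : Set G) ≤ centralizer ((P : Subgroup G) : Set G)) :
    Group.IsSolvable G := by
  have hc := MonoidHom.ker_transferSylow_isComplement' P h
  refine isSolvable_ext (MonoidHom.transferSylow P h).ker (Cfsg.Agent.S0205.result ?_) ?_
  · refine Nat.not_even_iff_odd.1 fun he => P.not_dvd_index ?_
    rw [hc.index_eq_card]
    exact he.two_dvd
  · haveI := (P.isPGroup').isNilpotent
    exact Grp.isSolvable_of_injective (QuotientGroup.kerLift (MonoidHom.transferSylow P h))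
      (QuotientGroup.kerLift_injective _) inferInstance

theorem isSolvable_sylow_normalizer [Fact (Nat.Prime 2)] (P : Sylow 2 G) :
    Group.IsSolvable (normalizer ((P : Subgroup G) : Set G)) := by
  set N := normalizer ((P : Subgroup G) : Set G)
  haveI := (P.isPGroup').isNilpotent
  refine isSolvable_of_odd_index ((P : Subgroup G).subgroupOf N)
    ?_ (Nat.not_even_iff_odd.1 fun he => ?_)
  · haveI : Group.IsSolvable ↥(P : Subgroup G) := inferInstance
    exact Grp.isSolvable_of_injective (subgroupOfEquivOfLe (le_normalizer (H := (P : Subgroup G)))).toMonoidHom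
      (MulEquiv.injective _) ‹_›
  exact P.not_dvd_index ((he.two_dvd).trans (relIndex_dvd_index_of_le le_normalizer))

/-- A nonsolvable group has a nonabelian solvable subgroup. -/
theorem exists_solvable_noncomm (K : Subgroup G) (hK : ¬ Group.IsSolvable K) :
    ∃ N : Subgroup G, N ≤ K ∧ Group.IsSolvable N ∧ ∃ a ∈ N, ∃ b ∈ N, a * b ≠ b * a := by
  haveI : Fact (Nat.Prime 2) := ⟨Nat.prime_two⟩
  obtain ⟨P⟩ : Nonempty (Sylow 2 K) := inferInstance
  set N := normalizer ((P : Subgroup K) : Set K) with hN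
  refine ⟨N.map K.subtype, map_subtype_le N, Grp.isSolvable_map (isSolvable_sylow_normalizer P) _, ?_⟩
  by_contra hc
  push Not at hc
  refine hK (isSolvable_of_burnside P fun n hn => mem_centralizer_iff.2 fun y hy => Subtype.ext ?_)
  exact hc (y : G) ⟨y, le_normalizer hy, rfl⟩ (n : G) ⟨n, hn, rfl⟩

theorem isSolvable_sup {N H : Subgroup G} [N.Normal] (hN : Group.IsSolvable N) (hH : Group.IsSolvable H) :
    Group.IsSolvable ↥(N ⊔ H) := by
  let f : ↥(N ⊔ H) →* G ⧸ N := (QuotientGroup.mk' N).comp (N ⊔ H).subtype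
  haveI := hN
  haveI : Group.IsSolvable f.range := by
    refine Grp.isSolvable_of_le (K := H.map (QuotientGroup.mk' N)) ?_ (Grp.isSolvable_map hH _)
    rintro _ ⟨x, rfl⟩
    obtain ⟨n, hn, h, hh, he⟩ := mem_sup_of_normal_left.1 x.2
    refine ⟨h, hh, ?_⟩
    show QuotientGroup.mk' N h = QuotientGroup.mk' N (x : G)
    rw [← he, map_mul, (QuotientGroup.eq_one_iff n).2 hn |> (show QuotientGroup.mk' N n = 1 from ·), one_mul]
  refine solvable_of_ker_le_range (inclusion (le_sup_left : N ≤ N ⊔ H)) f.rangeRestrict ?_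
  intro x hx
  rw [MonoidHom.ker_rangeRestrict] at hx
  exact ⟨⟨x, (QuotientGroup.eq_one_iff (x : G)).1 hx⟩, Subtype.ext rfl⟩

omit [Finite G] in
theorem commutator_mul_central {z w a b : G} (hz : z ∈ center G) (hw : w ∈ center G) :
    z * a * (w * b) * (z * a)⁻¹ * (w * b)⁻¹ = a * b * a⁻¹ * b⁻¹ := by
  have h1 : z * a * (w * b) = z * w * (a * b) := by
    rw [mul_assoc, ← mul_assoc a w b, mem_center_iff.1 hw a, mul_assoc w a b, ← mul_assoc]
  have h2 : w * b * (z * a) = z * w * (b * a) := by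
    rw [mul_assoc, ← mul_assoc b z a, mem_center_iff.1 hz b, mul_assoc z b a, ← mul_assoc,
      mem_center_iff.1 hz w]
  rw [show z * a * (w * b) * (z * a)⁻¹ * (w * b)⁻¹ = z * a * (w * b) * (w * b * (z * a))⁻¹ by group, h1, h2,
    show z * w * (a * b) * (z * w * (b * a))⁻¹ = z * w * (a * b * a⁻¹ * b⁻¹) * (z * w)⁻¹ by group]
  exact mul_inv_eq_iff_eq_mul.2 (mem_center_iff.1 (mul_mem hz hw) _).symm

omit [Finite G] in
/-- A subgroup of a perfect group that is commuted into the centre is central. -/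
theorem commute_of_perfect {D : Subgroup G} (hD : ⁅D, D⁆ = D) {g : G}
    (h : ∀ d ∈ D, g * d * g⁻¹ * d⁻¹ ∈ center G) {d : G} (hd : d ∈ D) : g * d = d * g := by
  suffices D ≤ centralizer ({g} : Set G) from (mem_centralizer_singleton_iff.1 (this hd)).symm
  conv_lhs => rw [← hD]
  rw [commutator_le]
  intro a ha b hb
  refine mem_centralizer_singleton_iff.2 (comm_eq_of_conj ?_).symm
  rw [commutatorElement_def, show g * (a * b * a⁻¹ * b⁻¹) * g⁻¹ = (g * a * g⁻¹ * a⁻¹) * a *
      ((g * b * g⁻¹ * b⁻¹) * b) * ((g * a * g⁻¹ * a⁻¹) * a)⁻¹ * ((g * b * g⁻¹ * b⁻¹) * b)⁻¹ by group]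
  exact commutator_mul_central (h a ha) (h b hb)

end Solvable

end Cfsg.Agent.Invol.MinNonCA
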