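import Cfsg.Agent.Lib.Invol.MinNonCA.LinearFacts

/-!
# Linear groups in odd characteristic which are not CA (for S4369)
-/

set_option autoImplicit false
set_option linter.style.haveILetI false

namespace Cfsg.Agent.Invol.MinNonCA

open Subgroup Matrix
open Cfsg.Agent.Grp.SL2

/-- The image of `SL(2, E)` in `PSL(2, F)`. -/
def subImage {E F : Type} [Field E] [Field F] (f : E →+* F) :
    Subgroup (Matrix.ProjectiveSpecialLinearGroup (Fin 2) F) :=
  ((Classical.slToPSL 2 F).comp (Matrix.SpecialLinearGroup.map f)).range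

theorem exists_xy {E : Type} [Field E] [Fintype E] (hq : 7 ≤ Fintype.card E) (h2 : (2 : E) ≠ 0) :
    ∃ x y : E, x * x + y * y = 1 ∧ x ≠ 0 ∧ y ≠ 0 := by
  classical
  obtain ⟨g, hg⟩ := IsCyclic.exists_ofOrder_eq_natCard (α := Eˣ)
  rw [Nat.card_units, Nat.card_eq_fintype_card] at hg
  have h4 : (g : E) ^ 4 ≠ 1 := fun e => by
    have := Nat.le_of_dvd (by norm_num) (orderOf_dvd_of_pow_eq_one (show g ^ 4 = 1 from Units.ext (by simpa using e)))
    omega
  set t : E := (g : E)
  have ht0 : t ≠ 0 := g.ne_zero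
  have hp : 1 + t ^ 2 ≠ 0 := fun e => h4 (by linear_combination (t ^ 2 - 1) * e)
  have hm : 1 - t ^ 2 ≠ 0 := fun e => h4 (by linear_combination (-(t ^ 2 + 1)) * e)
  refine ⟨(1 - t ^ 2) / (1 + t ^ 2), 2 * t / (1 + t ^ 2), ?_, div_ne_zero hm hp, div_ne_zero (mul_ne_zero h2 ht0) hp⟩
  field_simp
  ring

theorem exists_uv {E : Type} [Field E] [Fintype E] : ∃ u v : E, u * u + v * v = -1 := by
  obtain ⟨p, hp⟩ := CharP.exists E
  haveI : Fact p.Prime := ⟨CharP.char_is_prime E p⟩
  haveI : NeZero p := ⟨(Fact.out : p.Prime).ne_zero⟩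
  obtain ⟨a, b, hab⟩ := CharP.sq_add_sq E p (-1)
  exact ⟨a, b, by push_cast at hab; linear_combination hab⟩

/-- For odd `q ≥ 7` the image of `SL(2, q)` is not CA. -/
theorem subImage_not_ca {E F : Type} [Field E] [Field F] [Fintype E] (f : E →+* F) (hq : 7 ≤ Fintype.card E)
    (h2 : (2 : F) ≠ 0) : ¬ CA (subImage f) := by
  classical
  have h2E : (2 : E) ≠ 0 := fun e => h2 (by rw [← map_ofNat f 2, e, map_zero])
  obtain ⟨x, y, hxy, hx, hy⟩ := exists_xy hq h2E
  obtain ⟨u, v, huv⟩ := exists_uv (E := E)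
  let w : Matrix.SpecialLinearGroup (Fin 2) E := ⟨!![0, 1; -1, 0], by simp [Matrix.det_fin_two]⟩
  let a : Matrix.SpecialLinearGroup (Fin 2) E := ⟨!![x, y; -y, x], by
    simp [Matrix.det_fin_two]; linear_combination hxy⟩
  let b : Matrix.SpecialLinearGroup (Fin 2) E := ⟨!![u, v; v, -u], by
    simp [Matrix.det_fin_two]; linear_combination (-1 : E) * huv⟩
  let π := (Classical.slToPSL 2 F).comp (Matrix.SpecialLinearGroup.map f)
  have hmem : ∀ g, π g ∈ subImage f := fun g => ⟨g, rfl⟩
  have hπ : ∀ g k : Matrix.SpecialLinearGroup (Fin 2) E, π g = π k → g = k ∨ g = -k := by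
    intro g k e
    have hinj : Function.Injective (Matrix.SpecialLinearGroup.map (n := Fin 2) f) := fun g k e => Subtype.ext (by
      ext i j
      exact f.injective (congrArg (fun z : Matrix.SpecialLinearGroup (Fin 2) F => z.1 i j) e))
    rcases mk_eq_iff.1 e with h | h
    · exact Or.inl (hinj h)
    · refine Or.inr (hinj ?_)
      rw [h]
      refine Subtype.ext ?_
      ext i j
      simp [Matrix.SpecialLinearGroup.coe_neg]
  have hsq : π w * π w = 1 := by
    rw [← map_mul]
    refine mk_eq_one.2 (Or.inr (Subtype.ext ?_))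
    simp only [Matrix.SpecialLinearGroup.coe_mul, Matrix.SpecialLinearGroup.coe_neg, Matrix.SpecialLinearGroup.map_apply_coe]
    ext i j
    fin_cases i <;> fin_cases j <;> simp [w, Matrix.SpecialLinearGroup.coe_neg, Matrix.mul_apply, Fin.sum_univ_two]
  have haw : π a * π w = π w * π a := by
    rw [← map_mul, ← map_mul]
    refine congrArg π (Subtype.ext ?_)
    simp only [Matrix.SpecialLinearGroup.coe_mul, Matrix.SpecialLinearGroup.coe_neg, Matrix.SpecialLinearGroup.map_apply_coe]
    ext i j
    fin_cases i <;> fin_cases j <;> simp [a, w, Matrix.mul_apply, Fin.sum_univ_two]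
  have hbw : π b * π w = π w * π b := by
    rw [← map_mul, ← map_mul]
    refine mk_eq_iff.2 (Or.inr (Subtype.ext ?_))
    simp only [Matrix.SpecialLinearGroup.coe_mul, Matrix.SpecialLinearGroup.coe_neg, Matrix.SpecialLinearGroup.map_apply_coe]
    ext i j
    fin_cases i <;> fin_cases j <;>
      simp [b, w, Matrix.SpecialLinearGroup.coe_neg, Matrix.mul_apply, Fin.sum_univ_two]
  have hab : π a * π b ≠ π b * π a := by
    rw [← map_mul, ← map_mul]
    intro e
    have e00 := fun h : a * b = b * a => congrArg (fun z : Matrix.SpecialLinearGroup (Fin 2) E => z.1 0 0) h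
    have e01 := fun h : a * b = b * a => congrArg (fun z : Matrix.SpecialLinearGroup (Fin 2) E => z.1 0 1) h
    have n00 := fun h : a * b = -(b * a) => congrArg (fun z : Matrix.SpecialLinearGroup (Fin 2) E => z.1 0 0) h
    have n01 := fun h : a * b = -(b * a) => congrArg (fun z : Matrix.SpecialLinearGroup (Fin 2) E => z.1 0 1) h
    have hne : ¬ (u = 0 ∧ v = 0) := fun ⟨hu, hv⟩ => by
      rw [hu, hv, mul_zero, add_zero] at huv
      exact one_ne_zero (show (1 : E) = 0 by linear_combination huv)
    rcases hπ _ _ e with h | h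
    · have h1 := e00 h
      have h2' := e01 h
      simp only [Matrix.SpecialLinearGroup.coe_mul, Matrix.SpecialLinearGroup.coe_neg] at h1 h2'
      simp [a, b, Matrix.mul_apply, Fin.sum_univ_two] at h1 h2'
      refine hne ⟨?_, ?_⟩
      · exact ((mul_eq_zero.1 (show (2 * y) * u = 0 by linear_combination (-1 : E) * h2')).resolve_left
          (mul_ne_zero h2E hy))
      · exact ((mul_eq_zero.1 (show (2 * y) * v = 0 by linear_combination h1)).resolve_left (mul_ne_zero h2E hy))
    · have h1 := n00 h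
      have h2' := n01 h
      simp only [Matrix.SpecialLinearGroup.coe_mul, Matrix.SpecialLinearGroup.coe_neg] at h1 h2'
      simp [a, b, Matrix.mul_apply, Fin.sum_univ_two] at h1 h2'
      refine hne ⟨?_, ?_⟩
      · exact ((mul_eq_zero.1 (show (2 * x) * u = 0 by linear_combination h1)).resolve_left (mul_ne_zero h2E hx))
      · exact ((mul_eq_zero.1 (show (2 * x) * v = 0 by linear_combination h2')).resolve_left (mul_ne_zero h2E hx))
  have hwu : π w * π (up 1) ≠ π (up 1) * π w := by
    rw [← map_mul, ← map_mul]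
    intro e
    rcases hπ _ _ e with h | h
    · have h1 := congrArg (fun z : Matrix.SpecialLinearGroup (Fin 2) E => z.1 0 0) h
      simp only [Matrix.SpecialLinearGroup.coe_mul] at h1
      simp [w, up, Matrix.mul_apply, Fin.sum_univ_two] at h1
    · have h1 := congrArg (fun z : Matrix.SpecialLinearGroup (Fin 2) E => z.1 0 0) h
      simp only [Matrix.SpecialLinearGroup.coe_mul, Matrix.SpecialLinearGroup.coe_neg] at h1
      simp [w, up, Matrix.mul_apply, Fin.sum_univ_two] at h1
  intro hca
  refine hab (congrArg Subtype.val (hca.comm (x := (⟨π w, hmem w⟩ : subImage f))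
    (a := ⟨π a, hmem a⟩) (b := ⟨π b, hmem b⟩) (fun hc => hwu ?_) (Subtype.ext haw) (Subtype.ext hbw)))
  exact (congrArg Subtype.val (mem_center_iff.1 hc ⟨π (up 1), hmem _⟩)).symm

theorem psl_not_ca {F : Type} [Field F] [Fintype F] (hq : 7 ≤ Fintype.card F) (h2 : (2 : F) ≠ 0) :
    ¬ CA (Matrix.ProjectiveSpecialLinearGroup (Fin 2) F) := fun h =>
  subImage_not_ca (RingHom.id F) hq h2 (h.of_injective (subImage (RingHom.id F)).subtype
    (subImage (RingHom.id F)).subtype_injective)

end Cfsg.Agent.Invol.MinNonCA
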