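import Cfsg.Agent.Lib.Invol.MinNonCA.OddCase
import Cfsg.Agent.Lib.Invol.MinNonCA.Witness
import Cfsg.Agent.Lib.Grp.Quasisimple

/-!
# Nonsolvable minimal non-CA groups are linear (for S4369)
-/

set_option autoImplicit false
set_option linter.style.haveILetI false

namespace Cfsg.Agent.Invol.MinNonCA

open Subgroup Matrix

universe u

/-- The admissible fields. -/
def GoodCard (q : ℕ) : Prop :=
  (q.Prime ∧ 5 < q ∧ ¬ 16 ∣ q ^ 2 - 1) ∨ ∃ p : ℕ, p.Prime ∧ p ≠ 2 ∧ (q = 3 ^ p ∨ q = 5 ^ p)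

theorem sixteen_dvd_of_square {m : ℕ} (hm : Odd m) : 16 ∣ (m ^ 2) ^ 2 - 1 := by
  obtain ⟨k, rfl⟩ := hm
  obtain ⟨j, hj⟩ : Even (k * (k + 1)) := Nat.even_mul_succ_self k
  refine ⟨j * (4 * j + 1), ?_⟩
  have h1 : (2 * k + 1) ^ 2 = 8 * j + 1 := by
    have : (2 * k + 1) ^ 2 = 4 * (k * (k + 1)) + 1 := by ring
    omega
  rw [h1, show (8 * j + 1) ^ 2 = 16 * (j * (4 * j + 1)) + 1 by ring, Nat.add_sub_cancel]

variable {F : Type} [Field F] [Fintype F]

theorem two_ne_zero_of_odd (hodd : Odd (Fintype.card F)) : (2 : F) ≠ 0 := fun h => by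
  obtain ⟨p, hp⟩ := CharP.exists F
  haveI := Fact.mk (CharP.char_is_prime F p)
  obtain ⟨f, -, hf⟩ := FiniteField.card F p
  have h2 : p = 2 := by
    have : ((2 : ℕ) : F) = 0 := by exact_mod_cast h
    exact (Nat.prime_dvd_prime_iff_eq Fact.out Nat.prime_two).1 ((CharP.cast_eq_zero_iff F p 2).1 this)
  subst h2
  exact Nat.not_even_iff_odd.2 hodd (hf ▸ Nat.even_pow.2 ⟨even_two, f.2.ne'⟩)

theorem five_ca (hq : Fintype.card F = 5) : CA (Matrix.ProjectiveSpecialLinearGroup (Fin 2) F) := by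
  have hodd : Odd (Fintype.card F) := by rw [hq]; decide
  obtain ⟨p, hp⟩ := CharP.exists F
  haveI := Fact.mk (CharP.char_is_prime F p)
  refine ca_of_comm fun x a b hx ha hb => ?_
  have hx1 : x ≠ 1 := fun e => hx (e ▸ one_mem _)
  by_cases hx2 : x * x = 1
  · haveI : Fact (Nat.Prime 2) := ⟨Nat.prime_two⟩
    have hc := (Transfer.SelfCentNoncyclic.card_centralizer_involution p hodd
      (orderOf_eq_prime (by rw [pow_two, hx2]) hx1)).1 (by omega)
    exact congrArg Subtype.val (IsPGroup.commutative_of_card_eq_prime_sq (p := 2) (by rw [hc, hq]; rfl)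
      (⟨a, mem_centralizer_singleton_iff.2 ha⟩ : centralizer ({x} : Set _))
      ⟨b, mem_centralizer_singleton_iff.2 hb⟩)
  · exact psl_comm hx1 (Or.inl hx2) ha hb

theorem subfield_small (hodd : Odd (Fintype.card F))
    (h : SubCA (Matrix.ProjectiveSpecialLinearGroup (Fin 2) F)) (K : Subfield F)
    (hK : Nat.card K ^ 2 ≤ Fintype.card F) : Nat.card K < 7 := by
  classical
  by_contra hc
  haveI : Fintype K := Fintype.ofFinite _
  have hk : Nat.card K = Fintype.card K := Nat.card_eq_fintype_card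
  refine subImage_not_ca K.subtype (by omega) (two_ne_zero_of_odd hodd) (h _ fun e => ?_)
  have h1 : Nat.card (subImage K.subtype) ≤ Nat.card (Matrix.SpecialLinearGroup (Fin 2) K) :=
    Nat.card_le_card_of_surjective _ (MonoidHom.rangeRestrict_surjective _)
  rw [e, Subgroup.card_top, Fus.PSLTwo.natCard_SL_two] at h1
  have h2 := GW.card_PSLTwo (F := F) hodd
  generalize Nat.card (Matrix.ProjectiveSpecialLinearGroup (Fin 2) F) = P at h1 h2
  rw [hk] at hK hc
  generalize Fintype.card K = k at *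
  generalize Fintype.card F = q at *
  obtain ⟨a, rfl⟩ : ∃ a, k = a + 1 := ⟨k - 1, by omega⟩
  obtain ⟨b, rfl⟩ : ∃ b, q = b + 1 := ⟨q - 1, by obtain ⟨j, rfl⟩ := hodd; omega⟩
  simp only [Nat.add_sub_cancel] at h1 h2
  have h3 : 7 * (a + 1) ≤ b + 1 := le_trans (by nlinarith) hK
  have h4 : a * (a + 1 + 1) ≤ b := by nlinarith
  have h5 : 7 * ((a + 1) * (a * (a + 1 + 1))) ≤ (b + 1) * b := by
    rw [← mul_assoc]; exact Nat.mul_le_mul h3 h4
  have h6 : (b + 1) * b * 3 ≤ (b + 1) * b * (b + 1 + 1) := Nat.mul_le_mul_left _ (by omega)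
  have h7 : 0 < (a + 1) * (a * (a + 1 + 1)) := by
    have : 0 < a := by omega
    positivity
  nlinarith

theorem goodCard_of_subCA (h3 : 3 < Fintype.card F) (hodd : Odd (Fintype.card F))
    (h16 : ¬ 16 ∣ Fintype.card F ^ 2 - 1) (h : SubCA (Matrix.ProjectiveSpecialLinearGroup (Fin 2) F))
    (hnca : ¬ CA (Matrix.ProjectiveSpecialLinearGroup (Fin 2) F)) : GoodCard (Fintype.card F) := by
  obtain ⟨p, hp⟩ := CharP.exists F
  haveI := Fact.mk (CharP.char_is_prime F p)
  obtain ⟨⟨f, hf0⟩, -, hf⟩ := FiniteField.card F p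
  simp only [PNat.mk_coe] at hf
  have hp2 : p ≠ 2 := fun e => by
    subst e
    exact Nat.not_even_iff_odd.2 hodd (hf ▸ Nat.even_pow.2 ⟨even_two, hf0.ne'⟩)
  have hpo : Odd p := (Fact.out : p.Prime).odd_of_ne_two hp2
  by_cases hf1 : f = 1
  · refine Or.inl ⟨by rw [hf, hf1, pow_one]; exact Fact.out, ?_, h16⟩
    by_contra hle
    obtain ⟨k, hk⟩ := hodd
    exact hnca (five_ca (by omega))
  right
  have hfodd : Odd f := Nat.not_even_iff_odd.1 fun ⟨m, hm⟩ => h16 (by
    rw [hf, hm, ← two_mul, mul_comm, pow_mul]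
    exact sixteen_dvd_of_square hpo.pow)
  have hsub : ∀ d, d ∣ f → d < f → p ^ d < 7 := fun d hd hlt => by
    obtain ⟨m, hm⟩ := hd
    have hd0 : d ≠ 0 := fun e => hf0.ne' (by rw [hm, e, zero_mul])
    obtain ⟨K, hK, -⟩ := Dickson.exists_subfield_card (F := F) (p := p) hf hm.symm hd0
    refine hK ▸ subfield_small hodd h K ?_
    rw [hK, hf, hm, ← pow_mul]
    refine Nat.pow_le_pow_right (Fact.out : p.Prime).pos (Nat.mul_le_mul_left d ?_)
    rcases m with _ | _ | m
    · simp at hm; omega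
    · simp at hm; omega
    · omega
  have hfp : f.Prime := by
    by_contra hnp
    obtain ⟨d, hd, hd2, hdf⟩ := Nat.exists_dvd_of_not_prime2 (by omega) hnp
    have hd3 : 3 ≤ d := by
      have : d ≠ 2 := fun e => Nat.not_even_iff_odd.2 hfodd (even_iff_two_dvd.2 (e ▸ hd))
      omega
    have h27 : p ^ 3 ≤ p ^ d := Nat.pow_le_pow_right (Fact.out : p.Prime).pos hd3
    have := hsub d hd hdf
    have h3p : 3 ≤ p := by have := (Fact.out : p.Prime).two_le; omega
    have := Nat.pow_le_pow_left h3p 3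
    omega
  refine ⟨f, hfp, fun e => Nat.not_even_iff_odd.2 hfodd (e ▸ even_two), ?_⟩
  have h1 := hsub 1 (one_dvd f) hfp.one_lt
  rw [pow_one] at h1
  have h2 := (Fact.out : p.Prime).two_le
  obtain ⟨k, hk⟩ := hpo
  rcases (show p = 3 ∨ p = 5 by omega) with e | e
  · exact Or.inl (e ▸ hf)
  · exact Or.inr (e ▸ hf)

/-- Nonsolvable minimal non-CA groups are linear groups over admissible fields. -/
theorem forward {G : Type u} [Group G] [Finite G] (hns : ¬ Group.IsSolvable G) (hnca : ¬ CA G) (h : SubCA G) :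
    ∃ (F : Type) (_ : Field F) (_ : Fintype F),
      Nonempty (G ≃* Matrix.ProjectiveSpecialLinearGroup (Fin 2) F) ∧ GoodCard (Fintype.card F) := by
  obtain ⟨D, hD⟩ := exists_core h hns
  by_cases hDt : D = ⊤
  · subst hDt
    have hq : Cfsg.IsQuasisimple G := (Grp.isQuasisimple_congr topEquiv).1 hD.qs
    obtain ⟨F, iF, iFt, h3, hodd, h16, ⟨e⟩⟩ := psl_of_quasisimple h hq hnca
    exact ⟨F, iF, iFt, ⟨e⟩, goodCard_of_subCA h3 hodd h16 (h.congr e) fun hc => hnca (hc.congr e.symm)⟩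
  · exfalso
    obtain ⟨x, r, hw⟩ := exists_wit hnca
    rcases hw.prime.eq_two_or_odd' with rfl | hr
    · exact hw.not_two hD h hns hDt
    · exact hw.not_odd hr hD h hns hDt

end Cfsg.Agent.Invol.MinNonCA
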