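import Cfsg.Agent.Lib.Invol.MinNonCA.Basic
import Cfsg.Agent.Lib.Invol.MinNonCA.Mod
import Cfsg.Agent.Lib.Grp.SL2Basic
import Cfsg.Agent.Lib.Classical.MatrixOrders
import Cfsg.Agent.Lib.Classical.SLTwoFixed.Cover
import Cfsg.Agent.Lib.Fus.PSLTwo
import Cfsg.Agent.Lib.Transfer.Abelian

/-!
# Facts on `SL(2, F)` and `PSL(2, F)` (for S4369)
-/

set_option autoImplicit false
set_option linter.style.haveILetI false

namespace Cfsg.Agent.Invol.MinNonCA

open Subgroup Matrix
open Cfsg.Agent.Grp.SL2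

variable {F : Type*} [Field F]

theorem comm_of_isMulCommutative' {X : Type*} [Group X] {A : Subgroup X} (hA : IsMulCommutative A) {a b : X}
    (ha : a ∈ A) (hb : b ∈ A) : a * b = b * a :=
  congrArg Subtype.val (hA.is_comm.comm ⟨a, ha⟩ ⟨b, hb⟩)

local notation "SL₂" => Matrix.SpecialLinearGroup (Fin 2) F
local notation "PS₂" => Matrix.ProjectiveSpecialLinearGroup (Fin 2) F

theorem sl_center {z : SL₂} : z ∈ center SL₂ ↔ IsScalar z := by
  constructor
  · intro h
    have h1 := congrArg (fun g : SL₂ => (g : Matrix (Fin 2) (Fin 2) F)) (mem_center_iff.1 h (up 1))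
    have h2 := congrArg (fun g : SL₂ => (g : Matrix (Fin 2) (Fin 2) F)) (mem_center_iff.1 h (low 1))
    simp only [Matrix.SpecialLinearGroup.coe_mul] at h1 h2
    have a00 := congrFun (congrFun h1 0) 0
    have a01 := congrFun (congrFun h1 0) 1
    have b00 := congrFun (congrFun h2 0) 0
    simp [up, Matrix.mul_apply, Fin.sum_univ_two] at a00 a01
    simp [low, Matrix.mul_apply, Fin.sum_univ_two] at b00
    refine isScalar_of_diag b00 a00 ?_
    linear_combination (-1 : F) * a01
  · intro h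
    exact mem_center_iff.2 fun g => (h.commute g).symm

theorem mk_eq_one {z : SL₂} : Classical.slToPSL 2 F z = 1 ↔ IsScalar z := by
  rw [Classical.slToPSL_eq_one_iff]
  constructor
  · rintro ⟨c, hc⟩
    refine isScalar_of_diag ?_ ?_ ?_ <;> simp [hc]
  · rintro (rfl | rfl)
    · exact ⟨1, by simp⟩
    · refine ⟨-1, ?_⟩
      ext i j
      fin_cases i <;> fin_cases j <;> simp [Matrix.SpecialLinearGroup.coe_neg]

theorem mk_eq_iff {a b : SL₂} : Classical.slToPSL 2 F a = Classical.slToPSL 2 F b ↔ a = b ∨ a = -b := by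
  rw [← inv_mul_eq_one, ← map_inv, ← map_mul, mk_eq_one]
  unfold IsScalar
  constructor
  · rintro (h | h)
    · exact Or.inl (inv_mul_eq_one.1 h)
    · exact Or.inr (by rw [inv_mul_eq_iff_eq_mul] at h; rw [h, mul_neg, mul_one, neg_neg])
  · rintro (rfl | rfl)
    · exact Or.inl (inv_mul_cancel a)
    · refine Or.inr ?_
      rw [inv_mul_eq_iff_eq_mul, neg_mul, mul_neg, mul_one, neg_neg]

theorem psl_commute {a b : SL₂}
    (h : Classical.slToPSL 2 F b * Classical.slToPSL 2 F a = Classical.slToPSL 2 F a * Classical.slToPSL 2 F b) :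
    b * a = a * b ∨ b * a * b⁻¹ = -a := by
  rw [← map_mul, ← map_mul, mk_eq_iff] at h
  rcases h with h | h
  · exact Or.inl h
  · exact Or.inr (by rw [h, neg_mul, mul_inv_cancel_right])

theorem sl_ca : CA SL₂ := ca_of_comm fun x a b hx ha hb =>
  commute_trans (y := x) (fun h => hx (sl_center.2 h)) ha (Commute.symm hb)

/-- Elements of `PSL(2, F)` of order over two have abelian centralisers, and in characteristic two all do. -/
theorem psl_comm {x a b : PS₂} (hx : x ≠ 1) (hx2 : x * x ≠ 1 ∨ (2 : F) = 0) (ha : a * x = x * a)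
    (hb : b * x = x * b) : a * b = b * a := by
  obtain ⟨x, rfl⟩ := Classical.slToPSL_surjective x
  obtain ⟨a, rfl⟩ := Classical.slToPSL_surjective a
  obtain ⟨b, rfl⟩ := Classical.slToPSL_surjective b
  have key : ∀ g : SL₂, Classical.slToPSL 2 F g * Classical.slToPSL 2 F x =
      Classical.slToPSL 2 F x * Classical.slToPSL 2 F g → g * x = x * g := by
    intro g hg
    refine (psl_commute hg).elim id fun h => ?_
    by_cases h0 : (2 : F) = 0
    · have hneg : -x = x := by
        refine Subtype.ext ?_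
        ext i j
        rw [Matrix.SpecialLinearGroup.coe_neg]
        show -((x : Matrix (Fin 2) (Fin 2) F) i j) = _
        linear_combination (-(x : Matrix (Fin 2) (Fin 2) F) i j) * h0
      rw [hneg] at h
      exact mul_inv_eq_iff_eq_mul.1 h
    refine absurd ?_ (hx2.resolve_right h0)
    have ht : tr x = 0 := by
      have := tr_conj g x
      rw [h, tr_neg] at this
      exact (mul_eq_zero.1 (show (2 : F) * tr x = 0 by linear_combination (-1 : F) * this)).resolve_left h0
    rw [← map_mul, mk_eq_one]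
    refine Or.inr (Subtype.ext ?_)
    have := cayley x
    rw [ht, zero_smul, zero_sub] at this
    rwa [Matrix.SpecialLinearGroup.coe_mul, Matrix.SpecialLinearGroup.coe_neg, Matrix.SpecialLinearGroup.coe_one]
  have hxs : ¬ IsScalar x := fun h => hx (mk_eq_one.2 h)
  rw [← map_mul, ← map_mul, (commute_trans hxs (key a ha) (Commute.symm (key b hb))).eq]

theorem neg_one_ne_one (h0 : (2 : F) ≠ 0) : (-1 : SL₂) ≠ 1 := fun e => h0 (by
  have h := congrArg (fun g : SL₂ => (g : Matrix (Fin 2) (Fin 2) F) 0 0) e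
  simp [Matrix.SpecialLinearGroup.coe_neg] at h
  linear_combination (-1 : F) * h)

section Finite

variable [Fintype F]

theorem sl_perfect (hq : 3 < Fintype.card F) : commutator SL₂ = ⊤ :=
  Classical.SL_commutator_eq_top fun _ => Classical.exists_sq_ne_one_field hq

/-- With abelian Sylow 2-subgroups `q² - 1` is not divisible by sixteen. -/
theorem not_sixteen_dvd (hq : 3 < Fintype.card F) (hodd : Odd (Fintype.card F)) (h0 : (2 : F) ≠ 0)
    (hS : ∀ S : Sylow 2 PS₂, IsMulCommutative (S : Subgroup PS₂)) : ¬ 16 ∣ Fintype.card F ^ 2 - 1 := by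
  classical
  haveI : Fact (Nat.Prime 2) := ⟨Nat.prime_two⟩
  obtain ⟨P⟩ : Nonempty (Sylow 2 SL₂) := inferInstance
  have hP : ∀ a ∈ (P : Subgroup SL₂), ∀ b ∈ (P : Subgroup SL₂), b * a * b⁻¹ * a⁻¹ ∈ center SL₂ := by
    intro a ha b hb
    refine sl_center.2 (mk_eq_one.1 ?_)
    have hc := hS (P.mapSurjective (Classical.slToPSL_surjective (n := 2) (F := F)))
    rw [Sylow.coe_mapSurjective] at hc
    have := comm_of_isMulCommutative' hc (mem_map_of_mem _ hb) (mem_map_of_mem _ ha)
    rw [map_mul, map_mul, map_mul, map_inv, map_inv, this]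
    group
  have hsq : (-1 : SL₂) * (-1) = 1 := by rw [neg_mul, one_mul, neg_neg]
  have hcP : ∀ z ∈ center SL₂, z ∈ (P : Subgroup SL₂) := fun z hz => by
    have hz2 : z ^ 2 ^ 1 = 1 := by
      rcases sl_center.1 hz with rfl | rfl
      · exact one_pow _
      · rw [pow_one, pow_two, hsq]
    obtain ⟨S', hS'⟩ := (IsPGroup.of_card (p := 2) (G := zpowers z) (n := (orderOf z).factorization 2) (by
      rw [Nat.card_zpowers]
      obtain ⟨j, hj, hjo⟩ := (Nat.dvd_prime_pow Nat.prime_two).1 (orderOf_dvd_of_pow_eq_one hz2)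
      rw [hjo, Nat.Prime.factorization_pow Nat.prime_two, Finsupp.single_eq_same])).exists_le_sylow
    obtain ⟨c, hc⟩ := MulAction.exists_smul_eq SL₂ S' P
    have h1 : c * z * c⁻¹ ∈ (P : Subgroup SL₂) := by rw [← hc]; exact ⟨_, hS' (mem_zpowers _), rfl⟩
    rwa [conj_eq_of_comm (mem_center_iff.1 hz c)] at h1
  obtain ⟨a, ha, b, hb, hab⟩ : ∃ a ∈ (P : Subgroup SL₂), ∃ b ∈ (P : Subgroup SL₂), a * b ≠ b * a := by
    by_contra hc
    push Not at hc
    have h1 := Cfsg.Agent.Transfer.hall_inf_commutator_inf_center (P : Subgroup SL₂)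
      ⟨⟨fun x y => Subtype.ext (hc x x.2 y y.2)⟩⟩ P.card_coprime_index
    have hz : (-1 : SL₂) ∈ center SL₂ := sl_center.2 (Or.inr rfl)
    have h2 : (-1 : SL₂) ∈ (P : Subgroup SL₂) ⊓ commutator SL₂ ⊓ center SL₂ :=
      ⟨⟨hcP _ hz, sl_perfect hq ▸ mem_top _⟩, hz⟩
    rw [h1, mem_bot] at h2
    exact neg_one_ne_one h0 h2
  have hja : (P : Subgroup SL₂) ≤ Jz a := fun g hg => mem_Jz.2 (hP a ha g hg)
  have hjb : (P : Subgroup SL₂) ≤ Jz b := fun g hg => mem_Jz.2 (hP b hb g hg)
  let χ : (P : Subgroup SL₂) →* center SL₂ × center SL₂ :=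
    ((commHom a).comp (Subgroup.inclusion hja)).prod ((commHom b).comp (Subgroup.inclusion hjb))
  have hbool : Nat.card (center SL₂) ≤ 2 := by
    refine (Nat.card_le_card_of_surjective
      (fun i : Bool => if i then (1 : center SL₂) else ⟨-1, sl_center.2 (Or.inr rfl)⟩) ?_).trans
      (by rw [Nat.card_eq_fintype_card, Fintype.card_bool])
    rintro ⟨z, hz⟩
    rcases sl_center.1 hz with rfl | rfl
    · exact ⟨true, rfl⟩
    · exact ⟨false, rfl⟩
  have hχ1 : ∀ g, χ g = 1 → (g : SL₂) * a = a * (g : SL₂) ∧ (g : SL₂) * b = b * (g : SL₂) := fun g hg => by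
    have h1 : commHom a (Subgroup.inclusion hja g) = 1 := congrArg Prod.fst hg
    have h2 : commHom b (Subgroup.inclusion hjb g) = 1 := congrArg Prod.snd hg
    exact ⟨commHom_eq_one.1 h1, commHom_eq_one.1 h2⟩
  have hker : Nat.card χ.ker ≤ Nat.card (center SL₂) := by
    let j : χ.ker → center SL₂ := fun g => ⟨((g : (P : Subgroup SL₂)) : SL₂), sl_center.2
      (Classical.byContradiction fun hns => hab
        (commute_trans hns (Commute.symm (hχ1 g g.2).1) (hχ1 g g.2).2).eq)⟩
    have hj : Function.Injective j := fun x y e =>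
      Subtype.ext (Subtype.ext (congrArg (fun z : center SL₂ => (z : SL₂)) e))
    exact Nat.card_le_card_of_injective j hj
  intro h16
  have hcard : 16 ∣ Nat.card SL₂ := by
    rw [Fus.PSLTwo.natCard_SL_two]
    refine Dvd.dvd.mul_left ?_ _
    rwa [mul_comm, ← Nat.sq_sub_sq, one_pow]
  have h1 : 2 ^ 4 ∣ Nat.card (P : Subgroup SL₂) := P.pow_dvd_card_of_pow_dvd_card hcard
  have h2 := Nat.le_of_dvd Nat.card_pos h1
  have h3 : Nat.card (P : Subgroup SL₂) ≤ 8 := by
    rw [card_eq_card_quotient_mul_card_subgroup χ.ker, Nat.card_congr (QuotientGroup.quotientKerEquivRange χ).toEquiv]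
    have h4 : Nat.card χ.range ≤ Nat.card (center SL₂ × center SL₂) := Subgroup.card_le_card_group _
    rw [Nat.card_prod] at h4
    calc _ ≤ Nat.card (center SL₂) * Nat.card (center SL₂) * Nat.card (center SL₂) := Nat.mul_le_mul h4 hker
      _ ≤ 2 * 2 * 2 := Nat.mul_le_mul (Nat.mul_le_mul hbool hbool) hbool
  omega

end Finite

end Cfsg.Agent.Invol.MinNonCA
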