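import Cfsg.Agent.Lib.Invol.MinNonCA.Models
import Cfsg.Agent.Lib.Invol.MinNonCA.LinearFacts
import Cfsg.Agent.Lib.Transfer.SelfCentNoncyclic.Linear
import Cfsg.Agent.Lib.Invol.GW.Consumers.Dihedral
import Cfsg.Agent.Lib.Classical.DicksonMaximal
import Cfsg.Agent.S2117

/-!
# Quasisimple groups with CA proper subgroups which are not CA (for S4369)
-/

set_option autoImplicit false
set_option linter.style.haveILetI false

namespace Cfsg.Agent.Invol.MinNonCA

open Subgroup Matrix
open Cfsg.Agent.Grp.SL2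

universe u

/-- A maximal subgroup of a nonsolvable simple group is not abelian. -/
theorem not_coatom_of_comm {X : Type u} [Group X] [Finite X] [IsSimpleGroup X] (hX : ¬ Group.IsSolvable X)
    {M : Subgroup X} (hM : IsCoatom M) (hc : IsMulCommutative M) : False := by
  classical
  by_cases hbot : M = ⊥
  · refine hX ?_
    obtain ⟨x, hx⟩ : ∃ x : X, x ≠ 1 := exists_ne 1
    have htop : zpowers x = ⊤ :=
      (IsCoatom.lt_iff hM).1 (hbot ▸ bot_lt_iff_ne_bot.2 (zpowers_eq_bot.not.2 hx))
    exact Grp.isSolvable_of_injective (topEquiv (G := X)).symm.toMonoidHom (MulEquiv.injective _)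
      (htop ▸ inferInstance)
  obtain ⟨y, hy, hy1⟩ : ∃ y ∈ M, y ≠ 1 := by
    obtain ⟨⟨y, hy⟩, hne⟩ := (ne_bot_iff_exists_ne_one).1 hbot
    exact ⟨y, hy, fun e => hne (Subtype.ext e)⟩
  obtain ⟨p, hp, hpd⟩ := Nat.exists_prime_and_dvd (show orderOf y ≠ 1 from fun e => hy1 (orderOf_eq_one_iff.1 e))
  haveI := Fact.mk hp
  set R := pPart p M hc
  obtain ⟨m, hm⟩ := hpd
  have hz : y ^ m ∈ R ∧ y ^ m ≠ 1 := by
    refine ⟨⟨pow_mem hy m, 1, by rw [pow_one, ← pow_mul, mul_comm, ← hm, pow_orderOf_eq_one]⟩, fun e => ?_⟩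
    have h1 := orderOf_dvd_of_pow_eq_one e
    have hm0 : 0 < m := Nat.pos_of_ne_zero fun h0 => (orderOf_pos y).ne' (by rw [hm, h0, mul_zero])
    have := Nat.le_of_dvd hm0 h1
    have := Nat.mul_le_mul_right m hp.two_le
    omega
  have hRN : M ≤ normalizer (R : Set X) := fun g hg => by
    refine Grp.Wielandt.mem_normalizer_of_le ?_
    rw [← Grp.map_conj_eq_smul]
    rintro _ ⟨c, hc', rfl⟩
    show g * c * g⁻¹ ∈ R
    rwa [comm_of_isMulCommutative hc hg hc'.1, mul_inv_cancel_right]
  have hNne : normalizer (R : Set X) ≠ ⊤ := fun e => by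
    haveI : R.Normal := normalizer_eq_top_iff.1 e
    rcases (inferInstance : R.Normal).eq_bot_or_eq_top with e' | e'
    · exact hz.2 (mem_bot.1 (e' ▸ hz.1))
    · exact hM.1 (top_le_iff.1 (e' ▸ pPart_le hc))
  have hNM : normalizer (R : Set X) = M := by
    rcases eq_or_lt_of_le hRN with e | e
    · exact e.symm
    · exact absurd (hM.2 _ e) hNne
  obtain ⟨P, hP⟩ := (pPart_isPGroup (p := p) hc).exists_le_sylow
  have hPR : (P : Subgroup X) = R := by
    by_contra hne
    haveI := P.isPGroup'.isNilpotent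
    have hlt : R.subgroupOf (P : Subgroup X) < ⊤ := lt_top_iff_ne_top.2 fun e =>
      hne (le_antisymm (subgroupOf_eq_top.1 e) hP)
    obtain ⟨n, hn, hnR⟩ := SetLike.exists_of_lt (Group.normalizerCondition_of_isNilpotent _ hlt)
    refine hnR (mem_subgroupOf.2 ⟨hNM ▸ mem_normalizer_iff.2 fun x => ?_, ?_⟩)
    · constructor
      · intro hx
        exact mem_subgroupOf.1 ((mem_normalizer_iff.1 hn ⟨x, hP hx⟩).1 (mem_subgroupOf.2 hx))
      · intro hx
        have hxP : x ∈ (P : Subgroup X) := by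
          have := mul_mem (mul_mem (inv_mem n.2) (hP hx)) n.2
          rwa [show (n : X)⁻¹ * (n * x * (n : X)⁻¹) * n = x by group] at this
        exact mem_subgroupOf.1 ((mem_normalizer_iff.1 hn ⟨x, hxP⟩).2 (mem_subgroupOf.2 hx))
    · obtain ⟨k, hk⟩ := P.isPGroup' n
      exact ⟨k, congrArg Subtype.val hk⟩
  have hB : normalizer ((P : Subgroup X) : Set X) ≤ centralizer ((P : Subgroup X) : Set X) := fun n hn =>
    mem_centralizer_iff.2 fun c hc' =>
      comm_of_isMulCommutative hc ((hPR ▸ hc' : c ∈ R).1) (hNM ▸ (hPR ▸ hn : n ∈ normalizer (R : Set X)))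
  have hcK := MonoidHom.ker_transferSylow_isComplement' P hB
  rcases (MonoidHom.normal_ker (MonoidHom.transferSylow P hB)).eq_bot_or_eq_top with e | e
  · rw [e, isComplement'_bot_left] at hcK
    haveI := P.isPGroup'.isNilpotent
    exact hX (Group.isSolvable_of_surjective
      (f := ((MulEquiv.subgroupCongr hcK).trans topEquiv).toMonoidHom) (MulEquiv.surjective _))
  · rw [e, isComplement'_top_left] at hcK
    exact hz.2 (mem_bot.1 (hcK ▸ hP hz.1))

variable {G : Type u} [Group G] [Finite G]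

/-- The linear group with abelian Sylow 2-subgroups is all that remains. -/
theorem psl_of_quasisimple (h : SubCA G) (hq : Cfsg.IsQuasisimple G) (hnca : ¬ CA G) :
    ∃ (F : Type) (_ : Field F) (_ : Fintype F), 3 < Fintype.card F ∧ Odd (Fintype.card F) ∧
      ¬ 16 ∣ Fintype.card F ^ 2 - 1 ∧ Nonempty (G ≃* Matrix.ProjectiveSpecialLinearGroup (Fin 2) F) := by
  haveI : Fact (Nat.Prime 2) := ⟨Nat.prime_two⟩
  obtain ⟨F, iF, iFt, h3, ⟨e⟩⟩ := exists_linear h hq
  haveI hsimp := hq.2
  have hXns : ¬ Group.IsSolvable (G ⧸ center G) := fun hs => Grp.IsQuasisimple.not_isSolvable hq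
    (isSolvable_ext (center G) (Group.isSolvable_of_comm fun a b => Subtype.ext (mem_center_iff.1 b.2 a)) hs)
  set π := QuotientGroup.mk' (center G) with hπ
  obtain ⟨x, hxZ, a, b, ha, hb, hab⟩ : ∃ x, x ∉ center G ∧ ∃ a b, a * x = x * a ∧ b * x = x * b ∧ a * b ≠ b * a := by
    by_contra hc
    push Not at hc
    exact hnca (ca_of_comm fun x a b hx => hc x hx a b)
  have hnc : ¬ IsMulCommutative (centralizer ({x} : Set G)) := fun hcm => hab
    (comm_of_isMulCommutative hcm (mem_centralizer_singleton_iff.2 ha) (mem_centralizer_singleton_iff.2 hb))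
  have hJ := jz_eq_centralizer h hq hxZ hnc
  -- the centraliser is the whole preimage
  have hq1 : π x ≠ 1 := fun e' => hxZ ((QuotientGroup.eq_one_iff x).1 e')
  have hcomap : ∀ g : G, π g * π x = π x * π g → g ∈ centralizer ({x} : Set G) := fun g hg =>
    hJ (mem_Jz.2 ((QuotientGroup.eq_one_iff _).1 (by
      show π (g * x * g⁻¹ * x⁻¹) = 1
      rw [map_mul, map_mul, map_mul, map_inv, map_inv, hg]; group)))
  obtain ⟨q, hqdef⟩ : ∃ q, q = e (π x) := ⟨_, rfl⟩
  have hqne : q ≠ 1 := hqdef ▸ (map_ne_one_iff e e.injective).2 hq1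
  have hinv : q * q = 1 ∧ (2 : F) ≠ 0 := by
    by_contra hcase
    have hcase' : q * q ≠ 1 ∨ (2 : F) = 0 := by tauto
    set M := centralizer ({π x} : Set (G ⧸ center G)) with hM
    have hMc : IsMulCommutative M := ⟨⟨fun u v => Subtype.ext (e.injective (by
      rw [Subgroup.coe_mul, Subgroup.coe_mul, map_mul, map_mul]
      refine psl_comm hqne hcase' ?_ ?_ <;> rw [hqdef, ← map_mul, ← map_mul]
      · rw [mem_centralizer_singleton_iff.1 u.2]
      · rw [mem_centralizer_singleton_iff.1 v.2]))⟩⟩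
    refine not_coatom_of_comm hXns ⟨fun e' => ?_, fun N hN => ?_⟩ hMc
    · refine hq1 (mem_bot.1 (?_ : π x ∈ (⊥ : Subgroup (G ⧸ center G))))
      rcases (inferInstance : (center (G ⧸ center G)).Normal).eq_bot_or_eq_top with e2 | e2
      · rw [← e2]
        exact mem_center_iff.2 fun g => mem_centralizer_singleton_iff.1 (e' ▸ mem_top g : g ∈ M)
      · exact absurd (Group.isSolvable_of_comm fun u v => mem_center_iff.1 (e2 ▸ mem_top v) u) hXns
    · by_contra hNtop
      obtain ⟨w, hwN, hwM⟩ := SetLike.exists_of_lt hN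
      obtain ⟨g, rfl⟩ := QuotientGroup.mk'_surjective _ w
      have hNc : N.comap π ≠ ⊤ := fun e' => hNtop (top_le_iff.1 fun y _ => by
        obtain ⟨y, rfl⟩ := QuotientGroup.mk'_surjective _ y
        exact mem_comap.1 (e'.symm ▸ mem_top y))
      have hle : centralizer ({x} : Set G) ≤ N.comap π := fun y hy => hN.le (mem_centralizer_singleton_iff.2 (by
        rw [← map_mul, ← map_mul, mem_centralizer_singleton_iff.1 hy]))
      have := le_centralizer_of_witness h ha hb hab hNc hle (mem_comap.2 hwN)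
      exact hwM (mem_centralizer_singleton_iff.2 (by
        rw [← map_mul, ← map_mul, mem_centralizer_singleton_iff.1 this]))
  obtain ⟨hq2, h20⟩ := hinv
  obtain ⟨p, hp⟩ := CharP.exists F
  haveI hpf : Fact p.Prime := ⟨CharP.char_is_prime F p⟩
  have hp2 : p ≠ 2 := fun e' => h20 (by subst e'; exact_mod_cast CharP.cast_eq_zero F 2)
  have hodd : Odd (Fintype.card F) := by
    obtain ⟨n, -, hn⟩ := FiniteField.card F p
    rw [hn]; exact (hpf.out.odd_of_ne_two hp2).pow
  -- the Sylow 2-subgroups are abelian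
  obtain ⟨t, hte, ht, ht2, k, htk⟩ := exists_lift hq (q := π x)
    (e.injective (by rw [map_mul, map_one, ← hqdef, hq2])) hq1
  have htC : ∀ g : G, g * t = t * g ↔ g * x = x * g := by
    intro g
    have hz : x⁻¹ * t ∈ center G := by
      rw [← QuotientGroup.eq_one_iff]
      show π (x⁻¹ * t) = 1
      rw [map_mul, map_inv, hte, inv_mul_cancel]
    obtain ⟨z, hzd⟩ : ∃ z, z = x⁻¹ * t := ⟨_, rfl⟩
    rw [← hzd] at hz
    have e1 : t = x * z := by rw [hzd, mul_inv_cancel_left]
    rw [e1, ← mul_assoc, mul_assoc x z g, ← mem_center_iff.1 hz g, ← mul_assoc]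
    exact mul_left_inj z
  have hTab : ∀ S : Sylow 2 G, IsMulCommutative (S : Subgroup G) := by
    intro S
    by_contra hS
    have hidx : ¬ 2 ∣ (Jz t).index := by
      let C := centralizer ({q} : Set (Matrix.ProjectiveSpecialLinearGroup (Fin 2) F))
      have hJC : Jz t = C.comap (e.toMonoidHom.comp π) := by
        ext g
        rw [mem_Jz, mem_comap, mem_centralizer_singleton_iff, ← QuotientGroup.eq_one_iff]
        show π (g * t * g⁻¹ * t⁻¹) = 1 ↔ e (π g) * q = q * e (π g)
        rw [map_mul, map_mul, map_mul, map_inv, map_inv, hte, hqdef, ← map_mul e (π g) (π x), ← map_mul e (π x) (π g), e.injective.eq_iff,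
          mul_inv_eq_one, mul_inv_eq_iff_eq_mul]
      rw [hJC, index_comap_of_surjective (H := C) (f := e.toMonoidHom.comp π)
        (e.surjective.comp (QuotientGroup.mk'_surjective _))]
      intro hd
      have hord : orderOf q = 2 := orderOf_eq_prime (by rw [pow_two, hq2]) hqne
      obtain ⟨h1, h3'⟩ := Transfer.SelfCentNoncyclic.card_centralizer_involution p hodd hord
      have hmul := C.card_mul_index
      have hcard := GW.card_PSLTwo (F := F) hodd
      obtain ⟨m, hm⟩ := hodd
      obtain ⟨i, hi⟩ := hd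
      rcases Nat.even_or_odd' m with ⟨j, rfl | rfl⟩
      · rw [h1 (by omega), hi] at hmul
        rw [← hmul, hm] at hcard
        have hj : 2 * (2 * j) + 1 - 1 ≠ 0 := by omega
        have : (2 * (2 * j) + 1 - 1) * (2 * (2 * i)) = (2 * (2 * j) + 1 - 1) *
            ((2 * (2 * j) + 1) * (2 * (2 * j) + 1 + 1)) := by linarith [hcard]
        have := Nat.eq_of_mul_eq_mul_left (Nat.pos_of_ne_zero hj) this
        have : (4 * j + 1) * (4 * j + 2) = 4 * i := by linarith
        have h5 : (4 * j + 1) * (4 * j + 2) = 4 * (4 * j * j + 3 * j) + 2 := by ring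
        omega
      · rw [h3' (by omega), hi] at hmul
        rw [← hmul, hm] at hcard
        have : (2 * (2 * j + 1) + 1 + 1) * (2 * (2 * i)) = (2 * (2 * j + 1) + 1 + 1) *
            ((2 * (2 * j + 1) + 1) * (2 * (2 * j + 1) + 1 - 1)) := by linarith [hcard]
        have := Nat.eq_of_mul_eq_mul_left (by omega) this
        rw [show 2 * (2 * j + 1) + 1 - 1 = 4 * j + 2 by omega] at this
        have : (4 * j + 3) * (4 * j + 2) = 4 * i := by linarith
        have h5 : (4 * j + 3) * (4 * j + 2) = 4 * (4 * j * j + 5 * j + 1) + 2 := by ring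
        omega
    obtain ⟨R⟩ : Nonempty (Sylow 2 (Jz t)) := inferInstance
    have hRi : ¬ 2 ∣ ((R : Subgroup (Jz t)).map (Jz t).subtype).index := by
      rw [index_map_subtype]
      intro hd
      rcases (Nat.prime_two.dvd_mul).1 hd with h' | h'
      · exact R.not_dvd_index h'
      · exact hidx h'
    let T : Sylow 2 G := (R.isPGroup'.map (Jz t).subtype).toSylow hRi
    have hTJ : (T : Subgroup G) ≤ Jz t := by
      show (R : Subgroup (Jz t)).map (Jz t).subtype ≤ Jz t
      exact map_subtype_le _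
    obtain ⟨c, hc⟩ := MulAction.exists_smul_eq G T S
    have hTn : ¬ IsMulCommutative (T : Subgroup G) := fun hcm => hS ⟨⟨fun u v => Subtype.ext (by
      obtain ⟨u', hu', hue⟩ := (hc.symm ▸ u.2 : (u : G) ∈ ((c • T : Sylow 2 G) : Subgroup G))
      obtain ⟨v', hv', hve⟩ := (hc.symm ▸ v.2 : (v : G) ∈ ((c • T : Sylow 2 G) : Subgroup G))
      have e1 : (u : G) = c * u' * c⁻¹ := hue.symm
      have e2 : (v : G) = c * v' * c⁻¹ := hve.symm
      rw [Subgroup.coe_mul, Subgroup.coe_mul, e1, e2,
        show c * u' * c⁻¹ * (c * v' * c⁻¹) = c * (u' * v') * c⁻¹ by group, comm_of_isMulCommutative hcm hu' hv']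
      group)⟩⟩
    exact hab (comm_of_isMulCommutative (central_comm h hq T hTn ht ht2 htk hTJ)
      (mem_centralizer_singleton_iff.2 ((htC a).2 ha)) (mem_centralizer_singleton_iff.2 ((htC b).2 hb)))
  have hTabX : ∀ S : Sylow 2 (Matrix.ProjectiveSpecialLinearGroup (Fin 2) F),
      IsMulCommutative (S : Subgroup (Matrix.ProjectiveSpecialLinearGroup (Fin 2) F)) := by
    intro S
    obtain ⟨S₀⟩ : Nonempty (Sylow 2 G) := inferInstance
    have hsurj : Function.Surjective (e.toMonoidHom.comp π) := e.surjective.comp (QuotientGroup.mk'_surjective _)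
    obtain ⟨c, hc⟩ := MulAction.exists_smul_eq (Matrix.ProjectiveSpecialLinearGroup (Fin 2) F)
      (S₀.mapSurjective hsurj) S
    have hpre : ∀ u ∈ (S : Subgroup (Matrix.ProjectiveSpecialLinearGroup (Fin 2) F)),
        ∃ g ∈ (S₀ : Subgroup G), u = c * e (π g) * c⁻¹ := by
      intro u hu
      rw [← hc] at hu
      obtain ⟨u', hu', hue⟩ := hu
      rw [SetLike.mem_coe, Sylow.coe_mapSurjective] at hu'
      obtain ⟨g, hg, rfl⟩ := hu'
      exact ⟨g, hg, hue.symm⟩
    refine ⟨⟨fun u v => Subtype.ext ?_⟩⟩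
    obtain ⟨g, hg, hue⟩ := hpre u u.2
    obtain ⟨g', hg', hve⟩ := hpre v v.2
    rw [Subgroup.coe_mul, Subgroup.coe_mul, hue, hve,
      show c * e (π g) * c⁻¹ * (c * e (π g') * c⁻¹) = c * (e (π g) * e (π g')) * c⁻¹ by group,
      ← map_mul e (π g) (π g'), ← map_mul π, comm_of_isMulCommutative (hTab S₀) hg hg', map_mul π, map_mul e]
    group
  have h16 := not_sixteen_dvd h3 hodd h20 hTabX
  have h9 : Fintype.card F ≠ 9 := fun e' => h16 (by rw [e']; norm_num)
  have h4 : Fintype.card F ≠ 4 := fun e' => by rw [e'] at hodd; exact absurd hodd (by decide)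
  -- the cover
  obtain ⟨τ, hτ, hcomp⟩ := MaxNorm.exists_cover_hom (Cfsg.Agent.S2117.result (F := F) h4 h9) (sl_perfect h3)
    (Classical.slToPSL 2 F) Classical.slToPSL_surjective hq.1.commutator_eq_top (e.toMonoidHom.comp π)
    (e.surjective.comp (QuotientGroup.mk'_surjective _)) (fun g hg => by
      have h1 : π g = 1 := (map_eq_one_iff e e.injective).1 (MonoidHom.mem_ker.1 hg)
      exact (QuotientGroup.eq_one_iff g).1 h1)
  by_cases hneg : τ (-1) = 1
  · refine ⟨F, iF, iFt, h3, hodd, h16, ⟨?_⟩⟩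
    refine MulEquiv.ofBijective (e.toMonoidHom.comp π)
      ⟨(injective_iff_map_eq_one _).2 fun g hg => ?_, e.surjective.comp (QuotientGroup.mk'_surjective _)⟩
    obtain ⟨y, rfl⟩ := hτ g
    have h1 : Classical.slToPSL 2 F y = 1 := by rw [← hcomp]; exact hg
    rcases mk_eq_one.1 h1 with rfl | rfl
    · exact map_one τ
    · exact hneg
  · exfalso
    refine hnca (sl_ca.congr (MulEquiv.ofBijective τ ⟨(injective_iff_map_eq_one _).2 fun y hy => ?_, hτ⟩))
    have h1 : Classical.slToPSL 2 F y = 1 := by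
      rw [← hcomp, MonoidHom.comp_apply, hy, map_one]
    rcases mk_eq_one.1 h1 with rfl | rfl
    · rfl
    · exact absurd hy hneg

end Cfsg.Agent.Invol.MinNonCA
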