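import Cfsg.Agent.Lib.Invol.MinNonCA.Quasi
import Cfsg.Agent.Lib.Invol.MaxNorm.Models
import Cfsg.Agent.S3214

/-!
# The central quotient is `PSL(2, q)` (for S4369)
-/

set_option autoImplicit false
set_option linter.style.haveILetI false

namespace Cfsg.Agent.Invol.MinNonCA

open Subgroup
open Cfsg.Agent.Spor Cfsg.Agent.Spor.SU32

universe u v

variable {G : Type u} [Group G] [Finite G]

theorem roots_model (h : SubCA G) (hq : Cfsg.IsQuasisimple G) {M : Type v} [Group M] [Finite M]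
    (e : G ⧸ center G ≃* M) [Fact (Nat.Prime 2)] (S : Sylow 2 M)
    (hS : ∃ x ∈ (S : Subgroup M), ∃ y ∈ (S : Subgroup M), x * y ≠ y * x) {c v : M} (hc : c * c ≠ 1)
    (hc4 : c * c * (c * c) = 1) (hcS : ∀ y ∈ (S : Subgroup M), y * (c * c) = c * c * y)
    (hvc : v * (c * c) = c * c * v)
    (hv : Odd (orderOf v) ∨ v * v ≠ 1 ∧ v * v * (v * v) = 1 ∧ ∀ y ∈ (S : Subgroup M), y * (v * v) = v * v * y) :
    c * v = v * c := by
  let T := S.mapSurjective (f := e.symm.toMonoidHom) e.symm.surjective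
  have hT : (T : Subgroup (G ⧸ center G)) = (S : Subgroup M).map e.symm.toMonoidHom := Sylow.coe_mapSurjective _ _
  have hcent : ∀ u : M, (∀ y ∈ (S : Subgroup M), y * u = u * y) →
      ∀ y ∈ (T : Subgroup (G ⧸ center G)), y * e.symm u = e.symm u * y := fun u hu y hy => by
    rw [hT] at hy
    obtain ⟨w, hw, rfl⟩ := hy
    show e.symm w * e.symm u = e.symm u * e.symm w
    rw [← map_mul, hu w hw, map_mul]
  refine e.symm.injective ?_
  rw [map_mul, map_mul]
  refine roots_comm h hq T ?_ ?_ ?_ ?_ ?_ ?_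
  · obtain ⟨x, hx, y, hy, hxy⟩ := hS
    refine ⟨e.symm x, hT ▸ mem_map_of_mem _ hx, e.symm y, hT ▸ mem_map_of_mem _ hy, fun hh => hxy ?_⟩
    exact e.symm.injective (by rw [map_mul, map_mul, hh])
  · rw [← map_mul]; exact fun hh => hc (e.symm.injective (hh.trans (map_one e.symm).symm))
  · rw [← map_mul, ← map_mul, hc4, map_one]
  · rw [← map_mul]; exact hcent _ hcS
  · rw [← map_mul, ← map_mul, ← map_mul, hvc, map_mul]
  · rcases hv with ho | ⟨h1, h2, h3⟩
    · exact Or.inl (by rw [MulEquiv.orderOf_eq]; exact ho)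
    · refine Or.inr ⟨?_, ?_, ?_⟩
      · rw [← map_mul]; exact fun hh => h1 (e.symm.injective (hh.trans (map_one e.symm).symm))
      · rw [← map_mul, ← map_mul, h2, map_one]
      · rw [← map_mul]; exact hcent _ h3

section Seven

open Equiv Cfsg.Agent.Invol.MaxNorm

local notation "A7" => alternatingGroup (Fin 7)

theorem sev_more : sevF * sevF = sevX ∧ sevF * sevY ≠ sevY * sevF ∧ sevX * sevX = 1 := by decide +kernel

theorem sevHom_injective : Function.Injective sevHom := by decide +kernel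

theorem sevHom_values : sevHom (DihedralGroup.r 1) = sevF ∧ sevHom (DihedralGroup.sr 0) = sevS := by decide +kernel

theorem not_seven (h : SubCA G) (hq : Cfsg.IsQuasisimple G) (e : G ⧸ center G ≃* A7) : False := by
  haveI : Fact (Nat.Prime 2) := ⟨Nat.prime_two⟩
  have hcard : Nat.card sevHom.range = 2 ^ (Nat.card A7).factorization 2 := by
    rw [← Nat.card_congr (MonoidHom.ofInjective sevHom_injective).toEquiv, DihedralGroup.nat_card,
      Nat.card_eq_fintype_card, show Fintype.card A7 = 2520 by decide +kernel,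
      show 2520 = 2 ^ 3 * 315 by norm_num, Nat.factorization_mul (by norm_num) (by norm_num), Finsupp.add_apply,
      Nat.factorization_pow, Finsupp.smul_apply, Nat.prime_two.factorization_self,
      Nat.factorization_eq_zero_of_not_dvd (by norm_num : ¬ 2 ∣ 315)]
    norm_num
  let S : Sylow 2 A7 := Sylow.ofCard sevHom.range hcard
  have hS : (S : Subgroup A7) = sevHom.range := rfl
  obtain ⟨hFF, hFY, hXX⟩ := sev_more
  obtain ⟨hX2, hX1, hY3, hY1, hYX, hFS⟩ := sev_facts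
  refine hFY (roots_model h hq e S ⟨sevF, hS ▸ ⟨_, sevHom_values.1⟩, sevS, hS ▸ ⟨_, sevHom_values.2⟩, hFS⟩
    (by rw [hFF]; exact hX1) (by rw [hFF, hXX]) ?_ (by rw [hFF]; exact hYX) (Or.inl ?_))
  · intro y hy
    rw [hS] at hy
    obtain ⟨d, rfl⟩ := hy
    rw [hFF]; exact sevHom_comm d
  · rw [orderOf_eq_prime hY3 hY1]; decide

end Seven

section L34

local notation "PS" => Matrix.ProjectiveSpecialLinearGroup (Fin 3) F4

theorem l34_facts : L34Par.uni 1 1 0 * L34Par.uni 1 1 0 = L34Par.uni 0 0 1 ∧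
    L34Par.uni F4.w F4.v 0 * L34Par.uni F4.w F4.v 0 = L34Par.uni 0 0 1 ∧
    L34Par.uni 1 1 0 * L34Par.uni F4.w F4.v 0 * (L34Par.uni F4.w F4.v 0 * L34Par.uni 1 1 0)⁻¹ = L34Par.uni 0 0 1 := by
  decide +kernel

theorem l34_centre : ∀ a c b : F4, L34Par.uni a c b * L34Par.uni 0 0 1 = L34Par.uni 0 0 1 * L34Par.uni a c b := by
  decide +kernel

theorem not_l34 (h : SubCA G) (hq : Cfsg.IsQuasisimple G) (e : G ⧸ center G ≃* PS) : False := by
  haveI : Fact (Nat.Prime 2) := ⟨Nat.prime_two⟩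
  obtain ⟨P, hP⟩ := L34Par.exists_U0_sylow
  obtain ⟨h1, h2, h3⟩ := l34_facts
  set c := L34Elem.π (L34Par.uni 1 1 0) with hc
  set v := L34Elem.π (L34Par.uni F4.w F4.v 0) with hv
  have hcc : c * c = L34Elem.π (L34Par.uni 0 0 1) := by rw [hc, ← map_mul, h1]
  have hvv : v * v = L34Elem.π (L34Par.uni 0 0 1) := by rw [hv, ← map_mul, h2]
  have hz : L34Elem.π (L34Par.uni 0 0 1) ≠ 1 := fun hh => one_ne_zero (L34Par.π_uni_eq_one hh).2.2
  have hz2 : L34Elem.π (L34Par.uni 0 0 1) * L34Elem.π (L34Par.uni 0 0 1) = 1 := by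
    rw [← map_mul, L34Par.uni_mul, show ((0 : F4) + 0) = 0 from add_zero 0,
      show ((1 : F4) + 1 + 0 * 0) = 0 by decide +kernel, L34Par.uni_zero, map_one]
  have hne : c * v ≠ v * c := fun hh => hz (by
    rw [← h3, map_mul, map_inv, map_mul, map_mul, ← hc, ← hv, hh, mul_inv_cancel])
  have hcen : ∀ y ∈ (P : Subgroup PS), y * L34Elem.π (L34Par.uni 0 0 1) = L34Elem.π (L34Par.uni 0 0 1) * y := by
    intro y hy
    rw [hP] at hy
    obtain ⟨a, c, b, rfl⟩ := hy
    rw [← map_mul, ← map_mul, l34_centre]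
  refine hne (roots_model h hq e P ⟨c, hP ▸ ⟨_, _, _, rfl⟩, v, hP ▸ ⟨_, _, _, rfl⟩, hne⟩ (by rwa [hcc])
    (by rw [hcc, hz2]) (by rwa [hcc]) ?_ (Or.inr ⟨by rwa [hvv], by rw [hvv, hz2], by rwa [hvv]⟩))
  rw [hcc, ← hvv, mul_assoc]

end L34

theorem not_suzuki (h : SubCA G) (hq : Cfsg.IsQuasisimple G) {F : Type} [Field F] [Fintype F] {m : ℕ}
    (hS : Suz.SzField F m) (e : G ⧸ center G ≃* ↥(Cfsg.Sz F m)) : False := by
  haveI : Fact (Nat.Prime 2) := ⟨Nat.prime_two⟩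
  obtain ⟨a, ha⟩ := Suz.exists_th_add_ne hS (m := m)
  have ha0 : a ≠ 0 := fun e0 => ha (by rw [e0, Suz.th_zero, add_zero])
  have hsq : ∀ x : F, Suz.uS hS x 0 * Suz.uS hS x 0 = Suz.uS hS 0 (Suz.th m x * x) := fun x => by
    rw [Suz.uS_mul]; congr 1
    · linear_combination x * Suz.two hS
    · ring
  have hone : ∀ b : F, b ≠ 0 → Suz.uS hS 0 b ≠ 1 := fun b hb => Suz.uS_ne_one hS fun hh => hb hh.2
  have hz2 : ∀ b : F, Suz.uS hS 0 b * Suz.uS hS 0 b = 1 := fun b => by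
    rw [Suz.uS_mul, Suz.th_zero, ← Suz.uS_zero hS]; congr 1
    · ring
    · linear_combination b * Suz.two hS
  have hcen : ∀ (b : F) (y : ↥(Cfsg.Sz F m)), y ∈ (Suz.sylowU hS : Subgroup ↥(Cfsg.Sz F m)) →
      y * Suz.uS hS 0 b = Suz.uS hS 0 b * y := fun b y hy => by
    rw [Suz.coe_sylowU] at hy
    obtain ⟨c, d, rfl⟩ := (Suz.mem_unip hS).1 hy
    rw [Suz.uS_mul, Suz.uS_mul, Suz.th_zero]; congr 1
    · ring
    · ring
  have hne : Suz.uS hS 1 0 * Suz.uS hS a 0 ≠ Suz.uS hS a 0 * Suz.uS hS 1 0 := fun hh => by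
    rw [Suz.uS_mul, Suz.uS_mul] at hh
    refine ha ?_
    have := (Suz.uS_injective hS hh).2
    rw [Suz.th_one] at this
    linear_combination (-1 : F) * this + a * Suz.two hS
  have hmem : ∀ x : F, Suz.uS hS x 0 ∈ (Suz.sylowU hS : Subgroup ↥(Cfsg.Sz F m)) := fun x => by
    rw [Suz.coe_sylowU]; exact (Suz.mem_unip hS).2 ⟨x, 0, rfl⟩
  refine hne (roots_model h hq e (Suz.sylowU hS) ⟨_, hmem 1, _, hmem a, hne⟩ ?_ ?_ ?_ ?_ (Or.inr ⟨?_, ?_, ?_⟩))
  · rw [hsq]; exact hone _ (by rw [Suz.th_one, one_mul]; exact one_ne_zero)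
  · rw [hsq, hz2]
  · rw [hsq]; exact hcen _
  · rw [hsq]; exact hcen _ _ (hmem a)
  · rw [hsq]; exact hone _ (mul_ne_zero (Suz.th_ne_zero ha0) ha0)
  · rw [hsq, hz2]
  · rw [hsq]; exact hcen _

/-- The central quotient of a quasisimple group with CA proper subgroups. -/
theorem exists_linear (h : SubCA G) (hq : Cfsg.IsQuasisimple G) :
    ∃ (F : Type) (_ : Field F) (_ : Fintype F), 3 < Fintype.card F ∧
      Nonempty (G ⧸ center G ≃* Matrix.ProjectiveSpecialLinearGroup (Fin 2) F) := by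
  haveI := hq.2
  have hnc : ¬ IsMulCommutative (G ⧸ center G) := fun hc => Grp.IsQuasisimple.not_isSolvable hq
    (isSolvable_ext (center G) (Group.isSolvable_of_comm fun a b => Subtype.ext (mem_center_iff.1 b.2 a))
      (Group.isSolvable_of_comm fun a b => hc.is_comm.comm a b))
  rcases Cfsg.Agent.S3214.result hnc (fun q hq2 => two_nilpotent h hq q hq2) with
    hL | ⟨F, i1, i2, m, hm, hF, ⟨e⟩⟩ | ⟨⟨e⟩⟩ | ⟨F, i1, i2, hF, ⟨e⟩⟩
  · exact hL
  · exact (not_suzuki h hq ⟨hm, hF⟩ (e.trans (Suz.szEquiv ⟨hm, hF⟩).symm)).elim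
  · exact (not_seven h hq e).elim
  · obtain ⟨f⟩ := Spor.L34Elem.model hF
    exact (not_l34 h hq (e.trans f)).elim

end Cfsg.Agent.Invol.MinNonCA
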