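import Cfsg.Agent.Lib.Invol.MinNonCA.Socle
import Cfsg.Agent.Lib.Invol.ZStar
import Cfsg.Agent.Lib.Grp.FpfPrime
import Cfsg.Agent.Lib.Grp.CoprimeAbelian
import Cfsg.Agent.Lib.Transfer.Abelian

/-!
# Elements outside the component (for S4369)
-/

set_option autoImplicit false
set_option linter.style.haveILetI false

namespace Cfsg.Agent.Invol.MinNonCA

open Subgroup

universe u

variable {G : Type u} [Group G] [Finite G]

/-- A noncentral element of a 2-subgroup fixed modulo the centre by a Sylow subgroup. -/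
theorem exists_fixed [Fact (Nat.Prime 2)] (S : Sylow 2 G) {P : Subgroup G} (hPS : P ≤ (S : Subgroup G))
    (hSP : (S : Subgroup G) ≤ normalizer (P : Set G)) (hPZ : ¬ P ≤ center G) :
    ∃ v ∈ P, v ∉ center G ∧ v * v ∈ center G ∧ ∀ s ∈ (S : Subgroup G), s * v * s⁻¹ * v⁻¹ ∈ center G := by
  have hP2 : IsPGroup 2 P := S.isPGroup'.to_le hPS
  let Zs := (center G).subgroupOf (S : Subgroup G)
  let π := QuotientGroup.mk' Zs
  haveI : Group.IsNilpotent (↥(S : Subgroup G) ⧸ Zs) := (S.isPGroup'.to_quotient Zs).isNilpotent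
  haveI : (P.subgroupOf (S : Subgroup G)).Normal := normal_subgroupOf_of_le_normalizer hSP
  let N := (P.subgroupOf (S : Subgroup G)).map π
  haveI : N.Normal := Subgroup.Normal.map inferInstance π (QuotientGroup.mk'_surjective _)
  have hN : N ≠ ⊥ := fun e => hPZ fun x hx => by
    have h1 : π ⟨x, hPS hx⟩ ∈ N := ⟨_, hx, rfl⟩
    rw [e, mem_bot] at h1
    exact mem_subgroupOf.1 ((QuotientGroup.eq_one_iff (N := Zs) ⟨x, hPS hx⟩).1 h1)
  obtain ⟨⟨q, hqN, hqc⟩, hq1⟩ := (ne_bot_iff_exists_ne_one).1 (Grp.inf_center_ne_bot N hN)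
  obtain ⟨x, hx, rfl⟩ := hqN
  have hxZ : (x : G) ∉ center G := fun hc => hq1 (Subtype.ext ((QuotientGroup.eq_one_iff x).2 hc))
  have hfix : ∀ s ∈ (S : Subgroup G), s * x * s⁻¹ * (x : G)⁻¹ ∈ center G := fun s hs => by
    have h1 : π (⟨s, hs⟩ * x * ⟨s, hs⟩⁻¹ * x⁻¹) = 1 := by
      rw [map_mul, map_mul, map_mul, map_inv, map_inv, mem_center_iff.1 hqc (π ⟨s, hs⟩)]
      group
    exact mem_subgroupOf.1 ((QuotientGroup.eq_one_iff (N := Zs) _).1 h1)
  obtain ⟨j, hj⟩ := hP2 ⟨x, hx⟩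
  have hj' : (x : G) ^ 2 ^ j ∈ center G := by
    rw [show (x : G) ^ 2 ^ j = 1 from congrArg Subtype.val hj]; exact one_mem _
  clear hj hq1 hqc
  have hxP : (x : G) ∈ P := hx
  generalize (x : G) = y at hxZ hfix hj' hxP
  induction j generalizing y with
  | zero => exact absurd (by rwa [pow_zero, pow_one] at hj') hxZ
  | succ j ih =>
    by_cases h2 : y * y ∈ center G
    · exact ⟨y, hxP, hxZ, h2, hfix⟩
    · refine ih (y * y) h2 (fun s hs => ?_) (by rwa [← pow_two, ← pow_mul, ← pow_succ']) (mul_mem hxP hxP)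
      obtain ⟨z, hz⟩ : ∃ z, z = s * y * s⁻¹ * y⁻¹ := ⟨_, rfl⟩
      have hzc : z ∈ center G := hz ▸ hfix s hs
      rw [show s * (y * y) * s⁻¹ = s * y * s⁻¹ * (s * y * s⁻¹) by group,
        show s * y * s⁻¹ = z * y by rw [hz]; group, mul_assoc z y, central_swap (a := y) hzc, ← mul_assoc z z,
        mul_inv_cancel_right]
      exact mul_mem hzc hzc

/-- The Sylow subgroup of a normal subgroup. -/
noncomputable def sylowTrace [Fact (Nat.Prime 2)] (S : Sylow 2 G) (D : Subgroup G) [D.Normal] : Sylow 2 D :=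
  (S.isPGroup'.comap_subtype : IsPGroup 2 ((S : Subgroup G).subgroupOf D)).toSylow (Grp.sylow_inf_normal_relIndex S D)

namespace Core

variable {D : Subgroup G} (hD : Core D) (h : SubCA G) (hns : ¬ Group.IsSolvable G) (hDt : D ≠ ⊤)
include hD h hns hDt

theorem comm_in {y a b : G} (hy : y ∈ D) (hyZ : y ∉ center G) (ha : a ∈ D) (hb : b ∈ D) (hay : a * y = y * a)
    (hby : b * y = y * b) : a * b = b * a := by
  obtain ⟨d, hd, hyd⟩ := hD.exists_noncomm hyZ
  exact h.comm_of_mem hDt hy hd hyd ha hb hay hby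

theorem outside {y : G} (hy : y ∈ D) (hyZ : y ∉ center G) :
    ∃ n ∈ D, n * y ≠ y * n ∧ ∀ a ∈ D, a * y = y * a → n * a * n⁻¹ * y = y * (n * a * n⁻¹) := by
  have hperf : commutator D = ⊤ := hD.qs.1.commutator_eq_top
  have hyc : (⟨y, hy⟩ : D) ∉ center D := fun hc => by
    obtain ⟨d, hd, hyd⟩ := hD.exists_noncomm hyZ
    exact hyd (congrArg Subtype.val (mem_center_iff.1 hc ⟨d, hd⟩)).symm
  obtain ⟨n, hn, hn'⟩ := exists_normalizer_outside (h D hDt) hperf hyc
  exact ⟨n, n.2, fun e => hn (Subtype.ext e), fun a ha e => congrArg Subtype.val (hn' ⟨a, ha⟩ (Subtype.ext e))⟩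

/-- Centralisers of noncentral elements of the component are abelian in the whole group. -/
theorem inner_comm {y : G} (hy : y ∈ D) (hyZ : y ∉ center G) {a b : G} (ha : a * y = y * a) (hb : b * y = y * b) :
    a * b = b * a := by
  haveI := hD.normal
  by_contra hab
  set A := D ⊓ centralizer ({y} : Set G)
  have hA : IsMulCommutative A := ⟨⟨fun c d => Subtype.ext (hD.comm_in h hns hDt hy hyZ c.2.1 d.2.1
    (mem_centralizer_singleton_iff.1 c.2.2) (mem_centralizer_singleton_iff.1 d.2.2))⟩⟩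
  have hyA : y ∈ A := ⟨hy, mem_centralizer_singleton_iff.2 rfl⟩
  have hN : normalizer (A : Set G) ≠ ⊤ := fun e => by
    haveI : A.Normal := normalizer_eq_top_iff.1 e
    exact hyZ (abelian_normal_le_center h hns A hA hyA)
  have hle : centralizer ({y} : Set G) ≤ normalizer (A : Set G) := fun g hg => by
    refine Grp.Wielandt.mem_normalizer_of_le ?_
    rw [← Grp.map_conj_eq_smul]
    rintro _ ⟨c, hc, rfl⟩
    exact ⟨hD.normal.conj_mem c hc.1 g, Subgroup.mul_mem _ (Subgroup.mul_mem _ hg hc.2) (Subgroup.inv_mem _ hg)⟩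
  obtain ⟨n, hn, hny, hn'⟩ := hD.outside h hns hDt hy hyZ
  refine hny (mem_centralizer_singleton_iff.1 (le_centralizer_of_witness h ha hb hab hN hle ?_))
  refine Grp.Wielandt.mem_normalizer_of_le ?_
  rw [← Grp.map_conj_eq_smul]
  rintro _ ⟨c, hc, rfl⟩
  exact ⟨D.mul_mem (D.mul_mem hn hc.1) (D.inv_mem hn),
    mem_centralizer_singleton_iff.2 (hn' c hc.1 (mem_centralizer_singleton_iff.1 hc.2))⟩

end Core

/-- A witness of prime order modulo the centre. -/
structure Wit (x : G) (r : ℕ) : Prop where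
  prime : r.Prime
  pow : x ^ r ∈ center G
  not_mem : x ∉ center G
  nc : ∃ a b : G, a * x = x * a ∧ b * x = x * b ∧ a * b ≠ b * a

theorem exists_wit (hnca : ¬ CA G) : ∃ (x : G) (r : ℕ), Wit x r := by
  obtain ⟨x, hxZ, a, b, ha, hb, hab⟩ : ∃ x, x ∉ center G ∧ ∃ a b, a * x = x * a ∧ b * x = x * b ∧ a * b ≠ b * a := by
    by_contra hc
    push Not at hc
    exact hnca (ca_of_comm fun x a b hx => hc x hx a b)
  have h1 : orderOf (QuotientGroup.mk' (center G) x) ≠ 1 := fun e =>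
    hxZ ((QuotientGroup.eq_one_iff x).1 (orderOf_eq_one_iff.1 e))
  obtain ⟨r, hr, m, hm⟩ := Nat.exists_prime_and_dvd h1
  have hpow : ∀ k : ℕ, x ^ k ∈ center G ↔ orderOf (QuotientGroup.mk' (center G) x) ∣ k := fun k => by
    rw [orderOf_dvd_iff_pow_eq_one, ← map_pow, QuotientGroup.mk'_apply, QuotientGroup.eq_one_iff]
  refine ⟨x ^ m, r, hr, ?_, ?_, a, b, ((show Commute a x from ha).pow_right m).eq,
    ((show Commute b x from hb).pow_right m).eq, hab⟩
  · rw [← pow_mul, hpow, hm, mul_comm]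
  · rw [hpow, hm]
    intro hd
    have hpos := orderOf_pos (QuotientGroup.mk' (center G) x)
    rw [hm] at hpos
    have hm0 : 0 < m := Nat.pos_of_mul_pos_left (by rwa [mul_comm] at hpos)
    have := Nat.le_of_dvd hm0 hd
    have := Nat.mul_le_mul_right m hr.two_le
    omega

namespace Wit

variable {x : G} {r : ℕ} (hw : Wit x r) {D : Subgroup G} (hD : Core D) (h : SubCA G) (hns : ¬ Group.IsSolvable G)
  (hDt : D ≠ ⊤)
include hw hD h hns hDt

omit [Finite G] hD hns hDt in
theorem maximal {M : Subgroup G} (hM : M ≠ ⊤) (hle : centralizer ({x} : Set G) ≤ M) :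
    M ≤ centralizer ({x} : Set G) := by
  obtain ⟨a, b, ha, hb, hab⟩ := hw.nc
  exact le_centralizer_of_witness h ha hb hab hM hle

omit [Finite G] hns hDt in
theorem jz_le : Jz x ≤ centralizer ({x} : Set G) :=
  hw.maximal h (hD.jz_ne_top hw.not_mem) (centralizer_le_Jz x)

theorem closed {y g : G} (hy : y ∈ D) (hyx : y * x = x * y) (hyZ : y ∉ center G) (hgy : g * y = y * g) :
    g * x = x * g :=
  hD.inner_comm h hns hDt hy hyZ hgy hyx.symm

theorem exists_comm : ∃ y ∈ D, y * x = x * y ∧ y ∉ center G := by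
  by_contra hc
  push Not at hc
  haveI := hD.normal
  haveI := Fact.mk hw.prime
  have hfix : ∀ d ∈ D, x * d * x⁻¹ * d⁻¹ ∈ center G → d ∈ center G := fun d hd he => hc d hd
    (mem_centralizer_singleton_iff.1 (hw.jz_le hD h (mem_Jz.2 (by
      have := inv_mem he
      rwa [show (x * d * x⁻¹ * d⁻¹)⁻¹ = d * x * d⁻¹ * x⁻¹ by group] at this))))
  let e : MulAut D := MulAut.conjNormal x
  have hker : ∀ φ : MulAut D, (center D).map φ.toMonoidHom = center D := fun φ =>
    characteristic_iff_map_eq.1 inferInstance φ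
  let φ : MulAut (D ⧸ center D) := QuotientGroup.congr (center D) (center D) e (hker e)
  have hφ : ∀ d : D, φ (QuotientGroup.mk' (center D) d) = QuotientGroup.mk' (center D) (e d) := fun d => rfl
  have hiter : ∀ k : ℕ, ∀ d : D, (φ ^ k) (QuotientGroup.mk' (center D) d) = QuotientGroup.mk' (center D) ((e ^ k) d) := by
    intro k
    induction k with
    | zero => intro d; rfl
    | succ k ih => intro d; rw [pow_succ, pow_succ, MulAut.mul_apply, MulAut.mul_apply, hφ, ih]
  haveI : Group.IsNilpotent (D ⧸ center D) := by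
    refine Grp.isNilpotent_of_fpf_aut (p := r) φ (MulEquiv.ext fun q => ?_) fun q hq => ?_
    · obtain ⟨d, rfl⟩ := QuotientGroup.mk'_surjective _ q
      rw [hiter, ← map_pow]
      refine congrArg _ (Subtype.ext ?_)
      show x ^ r * (d : G) * (x ^ r)⁻¹ = d
      exact conj_eq_of_comm (mem_center_iff.1 hw.pow d).symm
    · obtain ⟨d, rfl⟩ := QuotientGroup.mk'_surjective _ q
      rw [hφ] at hq
      have h1 : (e d * d⁻¹ : D) ∈ center D := by
        rw [← QuotientGroup.eq_one_iff, ← QuotientGroup.mk'_apply, map_mul, hq, map_inv, mul_inv_cancel]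
      have h2 : x * d * x⁻¹ * (d : G)⁻¹ ∈ center G := hD.cent (mem_centralizer_iff.2 fun c hc' =>
        congrArg Subtype.val (mem_center_iff.1 h1 ⟨c, hc'⟩))
      exact (QuotientGroup.eq_one_iff d).2 (mem_center_iff.2 fun c =>
        Subtype.ext (mem_center_iff.1 (hfix d d.2 h2) c))
  exact Grp.IsQuasisimple.not_isSolvable hD.qs
    (isSolvable_ext (center D) (Group.isSolvable_of_comm fun a b => Subtype.ext (mem_center_iff.1 b.2 a))
      inferInstance)

theorem exists_noncomm : ∃ a ∈ D, ∃ b ∈ D, a * x = x * a ∧ b * x = x * b ∧ a * b ≠ b * a := by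
  by_contra hc
  push Not at hc
  haveI := hD.normal
  obtain ⟨y, hy, hyx, hyZ⟩ := hw.exists_comm hD h hns hDt
  set A := D ⊓ centralizer ({x} : Set G)
  have hA : IsMulCommutative A := ⟨⟨fun a b => Subtype.ext (hc a a.2.1 b b.2.1
    (mem_centralizer_singleton_iff.1 a.2.2) (mem_centralizer_singleton_iff.1 b.2.2))⟩⟩
  have hN : normalizer (A : Set G) ≠ ⊤ := fun e => by
    haveI : A.Normal := normalizer_eq_top_iff.1 e
    exact hyZ (abelian_normal_le_center h hns A hA ⟨hy, mem_centralizer_singleton_iff.2 hyx⟩)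
  have hle : centralizer ({x} : Set G) ≤ normalizer (A : Set G) := fun g hg => by
    refine Grp.Wielandt.mem_normalizer_of_le ?_
    rw [← Grp.map_conj_eq_smul]
    rintro _ ⟨c, hc', rfl⟩
    exact ⟨hD.normal.conj_mem c hc'.1 g, Subgroup.mul_mem _ (Subgroup.mul_mem _ hg hc'.2) (Subgroup.inv_mem _ hg)⟩
  obtain ⟨n, hn, hny, hn'⟩ := hD.outside h hns hDt hy hyZ
  refine hny (comm_of_isMulCommutative hA ⟨hn, hw.maximal h hN hle (Grp.Wielandt.mem_normalizer_of_le ?_)⟩
    ⟨hy, mem_centralizer_singleton_iff.2 hyx⟩)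
  rw [← Grp.map_conj_eq_smul]
  rintro _ ⟨c, hc', rfl⟩
  have hcy : c * y = y * c := hc c hc'.1 y hy (mem_centralizer_singleton_iff.1 hc'.2) hyx
  refine ⟨D.mul_mem (D.mul_mem hn hc'.1) (D.inv_mem hn), mem_centralizer_singleton_iff.2 ?_⟩
  exact hw.closed hD h hns hDt hy hyx hyZ (hn' c hc'.1 hcy)

theorem not_mem_sup : x ∉ D ⊔ center G := fun hx => by
  haveI := hD.normal
  obtain ⟨d, hd, z, hz, rfl⟩ := mem_sup_of_normal_left.1 hx
  obtain ⟨a, b, ha, hb, hab⟩ := hw.nc
  have hdZ : d ∉ center G := fun hdZ => hw.not_mem (mul_mem hdZ hz)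
  have hconv : ∀ g : G, g * (d * z) = d * z * g → g * d = d * g := fun g e => by
    refine mul_right_cancel (b := z) ?_
    rw [mul_assoc g d z, e, mul_assoc d z g, ← mem_center_iff.1 hz g, ← mul_assoc]
  exact hab (hD.inner_comm h hns hDt hd hdZ (hconv a ha) (hconv b hb))

theorem sup_eq_top : D ⊔ center G ⊔ zpowers x = ⊤ := by
  by_contra hY
  obtain ⟨a, ha, b, hb, hax, hbx, hab⟩ := hw.exists_noncomm hD h hns hDt
  obtain ⟨d, hd, hxd⟩ := hD.exists_noncomm hw.not_mem
  exact hab (h.comm_of_mem hY (mem_sup_right (mem_zpowers x)) (mem_sup_left (mem_sup_left hd)) hxd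
    (mem_sup_left (mem_sup_left ha)) (mem_sup_left (mem_sup_left hb)) hax hbx)

/-- The form of the elements. -/
theorem decomp (g : G) : ∃ d ∈ D, ∃ z ∈ center G, ∃ i : ℤ, g = d * z * x ^ i := by
  haveI := hD.normal
  obtain ⟨w, hw', y, hy, rfl⟩ := mem_sup_of_normal_left.1
    ((hw.sup_eq_top hD h hns hDt).symm ▸ mem_top g : g ∈ D ⊔ center G ⊔ zpowers x)
  obtain ⟨d, hd, z, hz, rfl⟩ := mem_sup_of_normal_left.1 hw'
  obtain ⟨i, rfl⟩ := mem_zpowers_iff.1 hy
  exact ⟨d, hd, z, hz, i, rfl⟩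

end Wit

/-- In an extension by an outer involution every involution centraliser met is centralised. -/
theorem Wit.involution_closed {x : G} (hw : Wit x 2) {D : Subgroup G} (hD : Core D) (h : SubCA G)
    (hns : ¬ Group.IsSolvable G) (hDt : D ≠ ⊤) {y j : G} (hy : y ∈ D) (hyx : y * x = x * y) (hyZ : y ∉ center G)
    (hy2 : y * y ∈ center G) (hj : j ∈ D) (hjy : j ∈ Jz y) : j * x = x * j := by
  haveI := hD.normal
  obtain ⟨z, hz⟩ : ∃ z, z = j * y * j⁻¹ * y⁻¹ := ⟨_, rfl⟩
  have hzc : z ∈ center G := hz ▸ hjy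
  have e1 : j * y * j⁻¹ = z * y := by rw [hz]; group
  have hz2 : z * z = 1 := by
    have e2 : j * y * j⁻¹ * (j * y * j⁻¹) = y * y := by
      rw [show j * y * j⁻¹ * (j * y * j⁻¹) = j * (y * y) * j⁻¹ by group]
      exact conj_eq_of_comm (mem_center_iff.1 hy2 j)
    rw [e1, mul_assoc z y, central_swap (a := y) hzc, ← mul_assoc z z] at e2
    exact mul_eq_right.1 e2
  set a := j⁻¹ * (x * j * x⁻¹) with ha
  have haD : a ∈ D := mul_mem (inv_mem hj) (hD.normal.conj_mem j hj x)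
  have hay : a * y = y * a := by
    have e3 : x * j * x⁻¹ * y * (x * j * x⁻¹)⁻¹ = z * y := by
      have hyx' : x⁻¹ * y * x = y := by rw [mul_assoc, hyx, ← mul_assoc, inv_mul_cancel, one_mul]
      rw [show x * j * x⁻¹ * y * (x * j * x⁻¹)⁻¹ = x * (j * (x⁻¹ * y * x) * j⁻¹) * x⁻¹ by group, hyx', e1,
        show x * (z * y) * x⁻¹ = x * z * x⁻¹ * (x * y * x⁻¹) by group, conj_eq_of_comm (mem_center_iff.1 hzc x),
        conj_eq_of_comm hyx.symm]
    refine comm_eq_of_conj ?_
    rw [show a * y * a⁻¹ = j⁻¹ * (x * j * x⁻¹ * y * (x * j * x⁻¹)⁻¹) * j by rw [ha]; group, e3, ← e1]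
    group
  have hax : a * x = x * a := hw.closed hD h hns hDt hy hyx hyZ hay
  have hjjy : j * j * y = y * (j * j) := by
    refine comm_eq_of_conj ?_
    rw [show j * j * y * (j * j)⁻¹ = j * (j * y * j⁻¹) * j⁻¹ by group, e1,
      show j * (z * y) * j⁻¹ = j * z * j⁻¹ * (j * y * j⁻¹) by group, conj_eq_of_comm (mem_center_iff.1 hzc j), e1,
      ← mul_assoc z z, hz2, one_mul]
  have hjjx : j * j * x = x * (j * j) := hw.closed hD h hns hDt hy hyx hyZ hjjy
  have hxx : x * x ∈ center G := by rw [← pow_two]; exact hw.pow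
  have haa : a * a = 1 := by
    have e4 : x * (j * a) * x⁻¹ = j * a * a := by
      rw [show x * (j * a) * x⁻¹ = x * j * x⁻¹ * (x * a * x⁻¹) by group, conj_eq_of_comm hax.symm,
        show x * j * x⁻¹ = j * a by rw [ha]; group]
    have e5 : x * (j * a) * x⁻¹ = j := by
      rw [show j * a = x * j * x⁻¹ by rw [ha]; group, show x * (x * j * x⁻¹) * x⁻¹ = x * x * j * (x * x)⁻¹ by group,
        conj_eq_of_comm (mem_center_iff.1 hxx j).symm]
    rw [e5, mul_assoc j a a] at e4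
    exact mul_eq_left.1 e4.symm
  have hja : j * a = a * j := by
    have e6 : x * (j * j) * x⁻¹ = j * j := conj_eq_of_comm hjjx.symm
    rw [show x * (j * j) * x⁻¹ = x * j * x⁻¹ * (x * j * x⁻¹) by group,
      show x * j * x⁻¹ = j * a by rw [ha]; group, mul_assoc j a (j * a)] at e6
    have e7 : a * (j * a) = j := mul_left_cancel e6
    calc j * a = a * (j * a) * a := by rw [e7]
      _ = a * j * (a * a) := by group
      _ = a * j := by rw [haa, mul_one]
  by_cases haZ : a ∈ center G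
  · refine mem_centralizer_singleton_iff.1 (hw.jz_le hD h (mem_Jz.2 ?_))
    have : x * j * x⁻¹ * j⁻¹ ∈ center G := by
      rw [show x * j * x⁻¹ = j * a by rw [ha]; group, mem_center_iff.1 haZ j, mul_inv_cancel_right]; exact haZ
    have h2 := inv_mem this
    rwa [show (x * j * x⁻¹ * j⁻¹)⁻¹ = j * x * j⁻¹ * x⁻¹ by group] at h2
  · exact hw.closed hD h hns hDt hy hyx hyZ (hD.inner_comm h hns hDt haD haZ hja hay.symm)

/-- The component has no outer involution with nonabelian centraliser. -/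
theorem Wit.not_two {x : G} (hw : Wit x 2) {D : Subgroup G} (hD : Core D) (h : SubCA G)
    (hns : ¬ Group.IsSolvable G) (hDt : D ≠ ⊤) : False := by
  haveI : Fact (Nat.Prime 2) := ⟨Nat.prime_two⟩
  haveI := hD.normal
  -- replace `x` by a 2-element
  obtain ⟨x, hw, k, hk⟩ : ∃ y : G, Wit y 2 ∧ ∃ k : ℕ, y ^ 2 ^ k = 1 := by
    obtain ⟨e, k, he, hk⟩ := Grp.Pyramidal.exists_two_part x 1
    obtain ⟨a, b, ha, hb, hab⟩ := hw.nc
    refine ⟨x ^ e, ⟨Nat.prime_two, ?_, fun hc => hw.not_mem ?_, a, b, ((show Commute a x from ha).pow_right e).eq,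
      ((show Commute b x from hb).pow_right e).eq, hab⟩, k, hk⟩
    · rw [← pow_mul, mul_comm, pow_mul]; exact pow_mem hw.pow e
    · rw [← QuotientGroup.eq_one_iff, ← QuotientGroup.mk'_apply] at hc ⊢
      rwa [map_pow, Grp.Pyramidal.pow_of_modEq
        (by rw [pow_one, ← map_pow, QuotientGroup.mk'_apply, QuotientGroup.eq_one_iff]; exact hw.pow) he] at hc
  set π := QuotientGroup.mk' (center G)
  have hπ : orderOf (π x) = 2 := orderOf_eq_prime
    (by rw [← map_pow, QuotientGroup.mk'_apply, QuotientGroup.eq_one_iff]; exact hw.pow)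
    (fun e => hw.not_mem ((QuotientGroup.eq_one_iff x).1 e))
  by_cases hiso : Cfsg.IsIsolatedInvolution (π x)
  · obtain ⟨N, hN, hNo, hNc⟩ := Cfsg.Agent.ZStar.exists_odd_normal hiso
    haveI : (N.comap π).Normal := hN.comap π
    have hNs : Group.IsSolvable (N.comap π) := isSolvable_comap (center G)
      (Group.isSolvable_of_comm fun a b => Subtype.ext (mem_center_iff.1 b.2 a)) (Cfsg.Agent.S0205.result hNo)
    have hNZ := radical_le_center h hns _ hNs
    exact hD.jz_ne_top hw.not_mem (top_le_iff.1 fun g _ => mem_Jz.2 (by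
      have h2 : x * g * x⁻¹ * g⁻¹ ∈ N.comap π := by
        show π (x * g * x⁻¹ * g⁻¹) ∈ N
        rw [map_mul, map_mul, map_mul, map_inv, map_inv]
        exact hNc (π g)
      have h3 := inv_mem (hNZ h2)
      rwa [show (x * g * x⁻¹ * g⁻¹)⁻¹ = g * x * g⁻¹ * x⁻¹ by group] at h3))
  obtain ⟨q, hq, hne⟩ : ∃ q, Commute (π x) (q * π x * q⁻¹) ∧ q * π x * q⁻¹ ≠ π x := by
    by_contra hc
    push Not at hc
    exact hiso ⟨hπ, hc⟩
  obtain ⟨g, rfl⟩ := QuotientGroup.mk'_surjective _ q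
  obtain ⟨x', hx'⟩ : ∃ y, y = g * x * g⁻¹ := ⟨_, rfl⟩
  rw [← map_inv, ← map_mul, ← map_mul] at hq hne
  rw [show g * x * g⁻¹ = x' from hx'.symm] at hq hne
  have hw' : Wit x' 2 := by
    obtain ⟨a, b, ha, hb, hab⟩ := hw.nc
    refine ⟨Nat.prime_two, ?_, fun hc => hw.not_mem ?_, g * a * g⁻¹, g * b * g⁻¹, ?_, ?_, fun e => hab ?_⟩
    · rw [hx', conj_pow]; exact (inferInstance : (center G).Normal).conj_mem _ hw.pow g
    · have := (inferInstance : (center G).Normal).conj_mem _ hc g⁻¹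
      rwa [hx', show g⁻¹ * (g * x * g⁻¹) * g⁻¹⁻¹ = x by group] at this
    · rw [hx', show g * a * g⁻¹ * (g * x * g⁻¹) = g * (a * x) * g⁻¹ by group, ha]; group
    · rw [hx', show g * b * g⁻¹ * (g * x * g⁻¹) = g * (b * x) * g⁻¹ by group, hb]; group
    · rw [show g * a * g⁻¹ * (g * b * g⁻¹) = g * (a * b) * g⁻¹ by group,
        show g * b * g⁻¹ * (g * a * g⁻¹) = g * (b * a) * g⁻¹ by group] at e
      exact mul_left_cancel (mul_right_cancel e)
  have hcomm : x' * x = x * x' := mem_centralizer_singleton_iff.1 (hw.jz_le hD h (mem_Jz.2 (by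
    have h1 : π (x' * x * x'⁻¹ * x⁻¹) = 1 := by
      have hq' : π x' * π x = π x * π x' := hq.eq.symm
      rw [map_mul, map_mul, map_mul, map_inv, map_inv, hq']; group
    exact (QuotientGroup.eq_one_iff _).1 h1)))
  obtain ⟨k', hk'⟩ : ∃ k : ℕ, x' ^ 2 ^ k = 1 := ⟨k, by rw [hx', conj_pow, hk, mul_one, mul_inv_cancel]⟩
  have hpgrp : IsPGroup 2 ↥(zpowers x ⊔ zpowers x') := by
    have hle : zpowers x' ≤ normalizer (zpowers x : Set G) := by
      rw [zpowers_le]
      refine Grp.Wielandt.mem_normalizer_of_le ?_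
      rw [← Grp.map_conj_eq_smul, MonoidHom.map_zpowers, zpowers_le]
      show x' * x * x'⁻¹ ∈ _
      rw [conj_eq_of_comm hcomm]
      exact mem_zpowers x
    refine IsPGroup.to_sup_of_normal_left' (fun a => ?_) (fun a => ?_) hle
    · obtain ⟨i, hi⟩ := mem_zpowers_iff.1 a.2
      exact ⟨k, Subtype.ext (by
        show (a : G) ^ 2 ^ k = 1
        rw [← hi, ← zpow_natCast (x ^ i), ← zpow_mul, mul_comm, zpow_mul, zpow_natCast, hk, one_zpow])⟩
    · obtain ⟨i, hi⟩ := mem_zpowers_iff.1 a.2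
      exact ⟨k', Subtype.ext (by
        show (a : G) ^ 2 ^ k' = 1
        rw [← hi, ← zpow_natCast (x' ^ i), ← zpow_mul, mul_comm, zpow_mul, zpow_natCast, hk', one_zpow])⟩
  obtain ⟨S, hS⟩ := hpgrp.exists_le_sylow
  have hxS : x ∈ (S : Subgroup G) := hS (mem_sup_left (mem_zpowers x))
  have hx'S : x' ∈ (S : Subgroup G) := hS (mem_sup_right (mem_zpowers x'))
  -- the Sylow subgroup of the component
  have hST : (S : Subgroup G) ≤ normalizer (((S : Subgroup G) ⊓ D : Subgroup G) : Set G) := fun s hs => by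
    refine Grp.Wielandt.mem_normalizer_of_le ?_
    rw [← Grp.map_conj_eq_smul]
    rintro _ ⟨c, hc, rfl⟩
    exact ⟨Subgroup.mul_mem _ (Subgroup.mul_mem _ hs hc.1) (Subgroup.inv_mem _ hs), hD.normal.conj_mem c hc.2 s⟩
  set T := (S : Subgroup G) ⊓ D
  have hTZ : ¬ T ≤ center G := fun hle => by
    let TD := sylowTrace S D
    have hTD : (TD : Subgroup D) = (S : Subgroup G).subgroupOf D := rfl
    refine Grp.IsQuasisimple.not_isSolvable hD.qs (isSolvable_of_burnside TD fun n _ => mem_centralizer_iff.2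
      fun y hy => Subtype.ext ?_)
    have hy' : (y : G) ∈ T := ⟨mem_subgroupOf.1 (hTD ▸ hy), y.2⟩
    exact (mem_center_iff.1 (hle hy') (n : G)).symm
  obtain ⟨u, hu, huZ, hu2, hufix⟩ := exists_fixed S (inf_le_left : T ≤ _) hST hTZ
  have hTC : ∀ v : G, Wit v 2 → v ∈ (S : Subgroup G) → ∀ c ∈ T, c * v = v * c := by
    intro v hv hvS c hc
    have huv : u * v = v * u := by
      refine mem_centralizer_singleton_iff.1 (hv.jz_le hD h (mem_Jz.2 ?_))
      have := inv_mem (hufix v hvS)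
      rwa [show (v * u * v⁻¹ * u⁻¹)⁻¹ = u * v * u⁻¹ * v⁻¹ by group] at this
    exact hv.involution_closed hD h hns hDt hu.2 huv huZ hu2 hc.2 (mem_Jz.2 (hufix c hc.1))
  have hxT := hTC x hw hxS
  have hx'T := hTC x' hw' hx'S
  -- both elements are central in the Sylow subgroup
  have hcent : ∀ v ∈ (S : Subgroup G), v * x = x * v → (∀ c ∈ T, c * v = v * c) → ∀ s ∈ (S : Subgroup G),
      s * v = v * s := by
    intro v hvS hvx hvT s hs
    obtain ⟨d, hd, z, hz, i, rfl⟩ := hw.decomp hD h hns hDt s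
    have hdz : d * z ∈ (S : Subgroup G) := by
      have := mul_mem hs (inv_mem (zpow_mem hxS i))
      rwa [mul_inv_cancel_right] at this
    obtain ⟨j, hj⟩ := S.isPGroup' ⟨_, hdz⟩
    have hj' : (d * z) ^ 2 ^ j = 1 := congrArg Subtype.val hj
    obtain ⟨e, m, he, hm⟩ := Grp.Pyramidal.exists_two_part z j
    have hdz' : (d * z) ^ e = d * z := Grp.Pyramidal.pow_of_modEq hj' he
    have hzd : Commute d z := mem_center_iff.1 hz d
    rw [hzd.mul_pow] at hdz'
    have hzS : z ^ e ∈ (S : Subgroup G) := by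
      have hze : z ^ e ∈ center G := pow_mem hz e
      haveI : (zpowers (z ^ e)).Normal := ⟨fun a ha g => by
        obtain ⟨l, rfl⟩ := mem_zpowers_iff.1 ha
        rw [conj_eq_of_comm (mem_center_iff.1 (zpow_mem hze l) g)]
        exact zpow_mem (mem_zpowers _) l⟩
      have hp : IsPGroup 2 (zpowers (z ^ e)) := fun a => by
        obtain ⟨l, hl⟩ := mem_zpowers_iff.1 a.2
        exact ⟨m, Subtype.ext (by
          show (a : G) ^ 2 ^ m = 1
          rw [← hl, ← zpow_natCast ((z ^ e) ^ l), ← zpow_mul, mul_comm, zpow_mul, zpow_natCast, hm, one_zpow])⟩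
      obtain ⟨S', hS'⟩ := hp.exists_le_sylow
      obtain ⟨c, hc⟩ := MulAction.exists_smul_eq G S' S
      have h1 : c * z ^ e * c⁻¹ ∈ (S : Subgroup G) := by
        rw [← hc]; exact ⟨_, hS' (mem_zpowers _), rfl⟩
      rwa [conj_eq_of_comm (mem_center_iff.1 hze c)] at h1
    have hde : d ^ e ∈ T := ⟨by
      have := mul_mem hdz (inv_mem hzS)
      rw [← hdz'] at this
      rwa [mul_inv_cancel_right] at this, pow_mem hd e⟩
    have h1 : d * z * v = v * (d * z) := by
      rw [← hdz', mul_assoc, ← mem_center_iff.1 (pow_mem hz e) v, ← mul_assoc, hvT _ hde, mul_assoc]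
    exact ((show Commute (d * z) v from h1).mul_left ((show Commute v x from hvx).symm.zpow_left i)).eq
  have hxS' := hcent x hxS rfl hxT
  have hx'S' := hcent x' hx'S hcomm hx'T
  obtain ⟨n, hn, hne'⟩ := Sylow.conj_eq_normalizer_conj_of_mem_centralizer S x g⁻¹
    (mem_centralizer_iff.2 fun s hs => hxS' s hs)
    (mem_centralizer_iff.2 fun s hs => by rw [inv_inv, ← hx']; exact hx'S' s hs)
  rw [inv_inv, ← hx'] at hne'
  -- the normaliser of `T`
  have hTN : T ≤ normalizer (T : Set G) := le_normalizer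
  have hnT : n ∈ normalizer (T : Set G) := by
    refine Grp.Wielandt.mem_normalizer_of_le ?_
    rw [← Grp.map_conj_eq_smul]
    rintro _ ⟨c, hc, rfl⟩
    exact ⟨(mem_normalizer_iff.1 hn c).1 hc.1, hD.normal.conj_mem c hc.2 n⟩
  have hNT : normalizer (T : Set G) ≠ ⊤ := fun e => by
    haveI : T.Normal := normalizer_eq_top_iff.1 e
    haveI := (S.isPGroup'.to_le (inf_le_left : T ≤ _)).isNilpotent
    exact hTZ (radical_le_center h hns T inferInstance)
  have hxn : x * n ≠ n * x := fun e => hne (by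
    rw [hne', mul_assoc, e, ← mul_assoc, inv_mul_cancel, one_mul])
  have hxN : x ∈ normalizer (T : Set G) := hST hxS
  -- so `N(T) ∩ C(x)` is abelian
  have hab : ∀ a b, a ∈ normalizer (T : Set G) → b ∈ normalizer (T : Set G) → a * x = x * a → b * x = x * b →
      a * b = b * a := fun a b ha hb => h.comm_of_mem hNT hxN hnT hxn ha hb
  have hTc : ∀ a ∈ T, ∀ b ∈ T, a * b = b * a := fun a ha b hb =>
    hab a b (hTN ha) (hTN hb) (hxT a ha) (hxT b hb)
  -- the common centraliser of `T`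
  obtain ⟨t₀, ht₀, ht₀Z⟩ := SetLike.not_le_iff_exists.1 hTZ
  set Q := D ⊓ centralizer ({x} : Set G)
  have hTQ : T ≤ Q := fun c hc => ⟨hc.2, mem_centralizer_singleton_iff.2 (hxT c hc)⟩
  let TD := sylowTrace S D
  have hTD : (TD : Subgroup D) = (S : Subgroup G).subgroupOf D := rfl
  let TQ : Sylow 2 Q := Sylow.ofCard (T.subgroupOf Q) (by
    have hT : Nat.card T = 2 ^ (Nat.card D).factorization 2 := by
      rw [← TD.card_eq_multiplicity, hTD]
      rw [← inf_subgroupOf_right, Nat.card_congr (subgroupOfEquivOfLe (inf_le_right : T ≤ D)).toEquiv]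
    rw [Nat.card_congr (subgroupOfEquivOfLe hTQ).toEquiv, hT]
    refine congrArg _ (le_antisymm ?_ ?_)
    · refine (Nat.prime_two.pow_dvd_iff_le_factorization Nat.card_pos.ne').1 ?_
      rw [← hT]; exact card_dvd_of_le hTQ
    · exact ((Nat.factorization_le_iff_dvd Nat.card_pos.ne' Nat.card_pos.ne').2
        (card_dvd_of_le (inf_le_left : Q ≤ D))) 2)
  have hTQc : (TQ : Subgroup Q) = T.subgroupOf Q := rfl
  have hBQ : normalizer ((TQ : Subgroup Q) : Set Q) ≤ centralizer ((TQ : Subgroup Q) : Set Q) := fun m hm =>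
    mem_centralizer_iff.2 fun c hc => Subtype.ext (by
      rw [hTQc] at hc hm
      refine hab c m (hTN (mem_subgroupOf.1 hc)) ?_ (hxT _ (mem_subgroupOf.1 hc)) (mem_centralizer_singleton_iff.1 m.2.2)
      refine Grp.Wielandt.mem_normalizer_of_le ?_
      rw [← Grp.map_conj_eq_smul]
      rintro _ ⟨y, hy, rfl⟩
      exact mem_subgroupOf.1 ((mem_normalizer_iff.1 hm ⟨y, hTQ hy⟩).1 (mem_subgroupOf.2 hy)))
  have hcK := MonoidHom.ker_transferSylow_isComplement' TQ hBQ
  set K := (MonoidHom.transferSylow TQ hBQ).ker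
  -- `T` is not cyclic
  haveI hTcomm : IsMulCommutative T := ⟨⟨fun a b => Subtype.ext (hTc a a.2 b b.2)⟩⟩
  have hTncyc : ¬ IsCyclic T := fun hcyc => by
    haveI := hcyc
    have : IsCyclic (TD : Subgroup D) := by
      rw [hTD, ← inf_subgroupOf_right]
      exact isCyclic_of_surjective (subgroupOfEquivOfLe (inf_le_right : T ≤ D)).symm.toMonoidHom
        (MulEquiv.surjective _)
    refine Grp.IsQuasisimple.not_isSolvable hD.qs (isSolvable_of_burnside TD
      (this.normalizer_le_centralizer ?_))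
    refine (Nat.minFac_eq_two_iff _).2 (even_iff_two_dvd.1 (Nat.not_odd_iff_even.1 fun ho => ?_))
    exact Grp.IsQuasisimple.not_isSolvable hD.qs (Cfsg.Agent.S0205.result ho)
  -- `T ∩ Z = 1`
  have hTcen : ∀ a ∈ T, a ∈ center G → a = 1 := fun a ha haZ => by
    haveI : IsMulCommutative (TD : Subgroup D) := ⟨⟨fun c d => Subtype.ext (Subtype.ext
      (hTc _ ⟨mem_subgroupOf.1 (hTD ▸ c.2), c.1.2⟩ _ ⟨mem_subgroupOf.1 (hTD ▸ d.2), d.1.2⟩))⟩⟩
    have h1 := Cfsg.Agent.Transfer.hall_inf_commutator_inf_center (TD : Subgroup D) this TD.card_coprime_index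
    have h2 : (⟨a, ha.2⟩ : D) ∈ (TD : Subgroup D) ⊓ commutator D ⊓ center D :=
      ⟨⟨hTD ▸ mem_subgroupOf.2 ha.1, hD.qs.1.commutator_eq_top ▸ mem_top _⟩,
        mem_center_iff.2 fun c => Subtype.ext (mem_center_iff.1 haZ (c : G))⟩
    rw [h1, mem_bot] at h2
    exact congrArg Subtype.val h2
  have hcT : ∀ a ∈ T, a ≠ 1 → ∀ y ∈ D, y * a = a * y → y * t₀ = t₀ * y := fun a ha ha1 y hy e =>
    hD.comm_in h hns hDt ha.2 (fun hz => ha1 (hTcen a ha hz)) hy ht₀.2 e (hTc t₀ ht₀ a ha)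
  haveI : IsMulCommutative (TQ : Subgroup Q) := ⟨⟨fun a b => Subtype.ext (Subtype.ext
    (hTc _ (mem_subgroupOf.1 (hTQc ▸ a.2)) _ (mem_subgroupOf.1 (hTQc ▸ b.2))))⟩⟩
  have hgen := Grp.generated_by_centralizers (TQ : Subgroup Q) K (fun hc => hTncyc (by
      haveI := hc
      exact isCyclic_of_surjective (((MulEquiv.subgroupCongr hTQc).trans (subgroupOfEquivOfLe hTQ))).toMonoidHom
        (MulEquiv.surjective _)))
    (le_trans le_top (normalizer_eq_top (H := K)).ge) (by
      obtain ⟨i, hi⟩ := TQ.isPGroup'.exists_card_eq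
      rw [hi]
      refine Nat.Coprime.pow_left _ (Nat.prime_two.coprime_iff_not_dvd.2 fun hd => TQ.not_dvd_index ?_)
      rwa [hcK.index_eq_card])
  have hQt : ∀ q : Q, (q : G) * t₀ = t₀ * q := by
    have hKle : K ≤ centralizer ({⟨t₀, hTQ ht₀⟩} : Set Q) := by
      rw [← hgen]
      refine iSup₂_le fun a ha q hq => mem_centralizer_singleton_iff.2 (Subtype.ext ?_)
      exact hcT _ (mem_subgroupOf.1 (hTQc ▸ ha.1)) (fun e => ha.2 (Subtype.ext e)) q q.2.1
        (congrArg Subtype.val (mem_centralizer_singleton_iff.1 hq.2))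
    intro q
    obtain ⟨⟨⟨a, ha⟩, ⟨b, hb⟩⟩, hq⟩ := (hcK : Subgroup.IsComplement _ _).2 q
    have h2 : (b : G) * t₀ = t₀ * b := hTc _ (mem_subgroupOf.1 (hTQc ▸ hb)) _ ht₀
    rw [← hq]
    show (a : G) * b * t₀ = t₀ * ((a : G) * b)
    exact (((show Commute (a : G) t₀ from congrArg Subtype.val (mem_centralizer_singleton_iff.1 (hKle ha)))).mul_left h2).eq
  obtain ⟨a, ha, b, hb, hax, hbx, habne⟩ := hw.exists_noncomm hD h hns hDt
  exact habne (hD.comm_in h hns hDt ht₀.2 ht₀Z ha hb (hQt ⟨a, ha, mem_centralizer_singleton_iff.2 hax⟩)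
    (hQt ⟨b, hb, mem_centralizer_singleton_iff.2 hbx⟩))

end Cfsg.Agent.Invol.MinNonCA
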