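import Cfsg.Agent.Lib.Invol.MinNonCA.Linear
import Cfsg.Agent.Lib.Invol.MinNonCA.Outer
import Cfsg.Agent.Lib.Classical.PSLFieldAut

/-!
# No outer element of odd prime order has a nonabelian centraliser (for S4369)
-/

set_option autoImplicit false
set_option linter.style.haveILetI false

namespace Cfsg.Agent.Invol.MinNonCA

open Subgroup Matrix
open Cfsg.Agent.Grp.SL2
open Cfsg.Agent.Classical.PSLAut (pslSemi inndiagHom)

universe u

variable {G : Type u} [Group G] [Finite G]

/-- The action on a quotient of a normal subgroup. -/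
theorem exists_action {D : Subgroup G} [D.Normal] {L : Type*} [Group L] (π : D →* L) (hπ : Function.Surjective π)
    (hker : π.ker = center D) :
    ∃ Φ : G →* MulAut L, ∀ (g : G) (d : D), Φ g (π d) = π (MulAut.conjNormal g d) := by
  have hk : ∀ (φ : MulAut D) {a b : D}, π a = π b → π (φ a) = π (φ b) := fun φ a b e => by
    have h1 : a⁻¹ * b ∈ center D := by rw [← hker, MonoidHom.mem_ker, map_mul, map_inv, e, inv_mul_cancel]
    have h2 : φ (a⁻¹ * b) ∈ center D := by
      have := characteristic_iff_map_eq.1 (inferInstance : (center D).Characteristic) φ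
      exact this ▸ ⟨_, h1, rfl⟩
    rw [← hker, MonoidHom.mem_ker, map_mul, map_mul, map_inv, map_inv, inv_mul_eq_one] at h2
    exact h2
  choose s hs using hπ
  have hval : ∀ (g : G) (d : D), π (MulAut.conjNormal g (s (π d))) = π (MulAut.conjNormal g d) :=
    fun g d => hk _ (hs _)
  let f : G → MulAut L := fun g =>
    { toFun := fun l => π (MulAut.conjNormal g (s l))
      invFun := fun l => π (MulAut.conjNormal g⁻¹ (s l))
      left_inv := fun l => by
        dsimp only
        rw [hval, ← MulAut.mul_apply, ← map_mul, inv_mul_cancel, map_one, MulAut.one_apply, hs]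
      right_inv := fun l => by
        dsimp only
        rw [hval, ← MulAut.mul_apply, ← map_mul, mul_inv_cancel, map_one, MulAut.one_apply, hs]
      map_mul' := fun a b => by
        rw [← map_mul π, ← map_mul (MulAut.conjNormal g)]
        exact hk _ (by rw [hs, map_mul, hs, hs]) }
  refine ⟨MonoidHom.mk' f fun a b => MulEquiv.ext fun l => ?_, fun g d => hval g d⟩
  show π (MulAut.conjNormal (a * b) (s l)) = π (MulAut.conjNormal a (s (π (MulAut.conjNormal b (s l)))))
  rw [hval, map_mul, MulAut.mul_apply]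

/-- The component has no outer element of odd prime order with nonabelian centraliser. -/
theorem Wit.not_odd {x : G} {r : ℕ} (hw : Wit x r) (hr : Odd r) {D : Subgroup G} (hD : Core D) (h : SubCA G)
    (hns : ¬ Group.IsSolvable G) (hDt : D ≠ ⊤) : False := by
  classical
  haveI := hD.normal
  haveI : Fact r.Prime := ⟨hw.prime⟩
  obtain ⟨F, iF, iFt, h3, ⟨e⟩⟩ := exists_linear (h.subgroup (D := D)) hD.qs
  obtain ⟨p, hp⟩ := CharP.exists F
  haveI : Fact p.Prime := ⟨CharP.char_is_prime F p⟩
  let π₀ : D →* Matrix.ProjectiveSpecialLinearGroup (Fin 2) F := e.toMonoidHom.comp (QuotientGroup.mk' (center D))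
  have hπ₀ : Function.Surjective π₀ := e.surjective.comp (QuotientGroup.mk'_surjective _)
  have hker₀ : π₀.ker = center D := by
    ext d
    rw [MonoidHom.mem_ker, MonoidHom.comp_apply, MulEquiv.coe_toMonoidHom, map_eq_one_iff e e.injective,
      QuotientGroup.mk'_apply, QuotientGroup.eq_one_iff]
  obtain ⟨Φ, hΦ⟩ := exists_action π₀ hπ₀ hker₀
  have hcen : ∀ g ∈ center G, Φ g = 1 := fun g hg => MulEquiv.ext fun l => by
    obtain ⟨d, rfl⟩ := hπ₀ l
    rw [hΦ, MulAut.one_apply]
    exact congrArg π₀ (Subtype.ext (conj_eq_of_comm (mem_center_iff.1 hg d).symm))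
  obtain ⟨Ψ, hΨker, -, -⟩ := Classical.PSLAut.exists_fieldGraphHom (F := F) (p := p) (n := 2) le_rfl
  have hxr : Φ x ^ r = 1 := by rw [← map_pow]; exact hcen _ hw.pow
  -- `x` does not act as an inner-diagonal automorphism
  have hout : Φ x ∉ (inndiagHom 2 F).range := by
    intro hin
    obtain ⟨-, hcard⟩ := Classical.PSLAut.outDiag (F := F) (n := 2) le_rfl
    let κ := QuotientGroup.mk' (Cfsg.Inn (Matrix.ProjectiveSpecialLinearGroup (Fin 2) F))
    have h1 : κ (Φ x) ^ Nat.gcd 2 (Fintype.card F - 1) = 1 := by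
      rw [← hcard]
      exact congrArg Subtype.val (pow_card_eq_one'
        (x := (⟨κ (Φ x), mem_map_of_mem κ hin⟩ : (inndiagHom 2 F).range.map κ)))
    obtain ⟨j, hj⟩ := Nat.gcd_dvd_left 2 (Fintype.card F - 1)
    have h2 : κ (Φ x ^ 2) = 1 := by
      rw [map_pow, show κ (Φ x) ^ 2 = κ (Φ x) ^ (Nat.gcd 2 (Fintype.card F - 1) * j) from congrArg (κ (Φ x) ^ ·) hj,
        pow_mul, h1, one_pow]
    obtain ⟨l, hl⟩ := (QuotientGroup.eq_one_iff _).1 h2
    obtain ⟨d, rfl⟩ := hπ₀ l
    have h3 : x ^ 2 * (d : G)⁻¹ ∈ center G := by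
      refine hD.center_of_comm fun c hc => ?_
      have hdd : Φ (x ^ 2 * (d : G)⁻¹) = 1 := by
        rw [map_mul, map_pow, ← hl, map_inv]
        refine mul_inv_eq_one.2 (MulEquiv.ext fun l => ?_)
        obtain ⟨c', rfl⟩ := hπ₀ l
        rw [hΦ, MulAut.conj_apply, ← map_inv, ← map_mul, ← map_mul]
        rfl
      have h4 := hΦ (x ^ 2 * (d : G)⁻¹) ⟨c, hc⟩
      rw [hdd, MulAut.one_apply] at h4
      have h5 : (MulAut.conjNormal (x ^ 2 * (d : G)⁻¹) ⟨c, hc⟩ : D) * (⟨c, hc⟩ : D)⁻¹ ∈ center D := by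
        rw [← hker₀, MonoidHom.mem_ker, map_mul, map_inv, ← h4, mul_inv_cancel]
      exact hD.cent (mem_centralizer_iff.2 fun c' hc' => congrArg Subtype.val (mem_center_iff.1 h5 ⟨c', hc'⟩))
    obtain ⟨k, hk⟩ := hr
    have h4 : x ^ 2 ∈ D ⊔ center G := by
      have := mul_mem (mem_sup_right h3 : x ^ 2 * (d : G)⁻¹ ∈ D ⊔ center G) (mem_sup_left d.2)
      rwa [inv_mul_cancel_right] at this
    refine hw.not_mem_sup hD h hns hDt ?_
    have h5 := mul_mem (pow_mem h4 (k + 1)) (inv_mem (mem_sup_right hw.pow : x ^ r ∈ D ⊔ center G))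
    rwa [← pow_mul, show 2 * (k + 1) = r + 1 by omega, pow_succ', mul_inv_cancel_right] at h5
  obtain ⟨g, σ, ε, hrep⟩ := Classical.PSLAut.exists_rep (p := p) (n := 2) le_rfl (Φ x)
  have hβ : Φ x = pslSemi g σ := by
    rw [hrep.2.2, hrep.2.1 rfl, pow_zero, mul_one]
  have hσ : σ ≠ 1 := fun e => hout ⟨g, by rw [hβ, e]; rfl⟩
  have hord : orderOf (pslSemi g σ : MulAut (Matrix.ProjectiveSpecialLinearGroup (Fin 2) F)) = r := by
    rw [← hβ]
    exact orderOf_eq_prime hxr fun e => hout (e ▸ one_mem _)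
  obtain ⟨hσr, y, hy⟩ := Classical.PSLAut.exists_conj_field le_rfl hw.prime hσ hord
  rw [← hβ] at hy
  -- change the identification
  obtain ⟨π, hπdef⟩ : ∃ π : D →* Matrix.ProjectiveSpecialLinearGroup (Fin 2) F,
      π = ((inndiagHom 2 F y)⁻¹ : MulAut _).toMonoidHom.comp π₀ := ⟨_, rfl⟩
  have hπ : Function.Surjective π := by
    rw [hπdef]
    exact (MulEquiv.surjective (inndiagHom 2 F y)⁻¹).comp hπ₀
  have hker : π.ker = center D := by
    rw [hπdef]
    ext d
    rw [MonoidHom.mem_ker, MonoidHom.comp_apply, MulEquiv.coe_toMonoidHom,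
      map_eq_one_iff _ (MulEquiv.injective _), ← hker₀, MonoidHom.mem_ker]
  have hact : ∀ d : D, π (MulAut.conjNormal x d) = pslSemi 1 σ (π d) := fun d => by
    rw [hπdef]
    show (inndiagHom 2 F y)⁻¹ (π₀ (MulAut.conjNormal x d)) = pslSemi 1 σ ((inndiagHom 2 F y)⁻¹ (π₀ d))
    rw [← hΦ, hy, MulAut.mul_apply, MulAut.mul_apply, ← MulAut.mul_apply, inv_mul_cancel, MulAut.one_apply]
  -- the field is not too small
  obtain ⟨f, -, hF⟩ := FiniteField.card F p
  obtain ⟨-, hfc⟩ := Classical.PSLAut.card_ringAut (F := F) hF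
  have hrf : r ∣ (f : ℕ) := hfc ▸ hσr ▸ orderOf_dvd_natCard σ
  have hr3 : 3 ≤ r := by
    have := hw.prime.two_le
    rcases hr with ⟨k, hk⟩
    omega
  have hsmall : ∀ b, b ≤ 3 → Fintype.card F ≠ b ^ 2 := fun b hb e => by
    have h2 : (f : ℕ) ≥ r := Nat.le_of_dvd f.2 hrf
    have hp2 := (Fact.out : p.Prime).two_le
    have hpd : p ∣ b := (Fact.out : p.Prime).dvd_of_dvd_pow (e ▸ hF ▸ dvd_pow_self p f.2.ne')
    have hb0 : 0 < b := Nat.pos_of_ne_zero fun h0 => by subst h0; simp at e
    have hpb := Nat.le_of_dvd hb0 hpd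
    have h8 : p ^ 3 ≤ p ^ (f : ℕ) := Nat.pow_le_pow_right (by omega) (by omega)
    have h9 : b ^ 2 ≤ p ^ 2 * 1 := by
      have : b = p := by
        rcases hpd with ⟨c, rfl⟩
        have : c = 1 := by
          rcases c with _ | _ | c
          · simp at hb0
          · rfl
          · nlinarith
        rw [this, mul_one]
      rw [this, mul_one]
    have h10 : p ^ 3 = p ^ 2 * p := pow_succ p 2
    have h11 : p ^ 2 * 1 < p ^ 2 * p := Nat.mul_lt_mul_of_pos_left (by omega) (pow_pos (by omega) 2)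
    omega
  -- the cover
  haveI hDq := hD.qs.2
  obtain ⟨τ, -, hcomp⟩ := MaxNorm.exists_cover_hom
    (Cfsg.Agent.S2117.result (F := F) (by simpa using hsmall 2 (by norm_num)) (by simpa using hsmall 3 le_rfl))
    (sl_perfect h3) (Classical.slToPSL 2 F) Classical.slToPSL_surjective hD.qs.1.commutator_eq_top π hπ
    (hker ▸ le_refl _)
  have hcomp' : ∀ z, π (τ z) = Classical.slToPSL 2 F z := fun z => DFunLike.congr_fun hcomp z
  have hzc : ∀ d : D, d ∈ center D → (d : G) ∈ center G := fun d hd =>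
    hD.cent (mem_centralizer_iff.2 fun c hc => congrArg Subtype.val (mem_center_iff.1 hd ⟨c, hc⟩))
  have hsl : ∀ c : F, Classical.PSLAut.slSemi (1 : GL (Fin 2) F) σ (up c) = up (σ c) := fun c => Subtype.ext (by
    rw [Classical.PSLAut.slSemi_coe, inv_one, Units.val_one, one_mul, mul_one]
    ext i j
    fin_cases i <;> fin_cases j <;> simp [up])
  have hconj : ∀ c : F, π (MulAut.conjNormal x (τ (up c))) = Classical.slToPSL 2 F (up (σ c)) := fun c => by
    rw [hact, hcomp', Classical.PSLAut.pslSemi_mk, hsl]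
  have hu : ((τ (up 1) : D) : G) * x = x * ((τ (up 1) : D) : G) := by
    refine mem_centralizer_singleton_iff.1 (hw.jz_le hD h (mem_Jz.2 ?_))
    have h1 : τ (up 1) * (MulAut.conjNormal x (τ (up 1)))⁻¹ ∈ center D := by
      rw [← hker, MonoidHom.mem_ker, map_mul, map_inv, hconj, hcomp', map_one, mul_inv_cancel]
    have h2 := hzc _ h1
    rw [Subgroup.coe_mul, Subgroup.coe_inv, MulAut.conjNormal_apply] at h2
    rwa [show ((τ (up 1) : D) : G) * x * ((τ (up 1) : D) : G)⁻¹ * x⁻¹ =
      ((τ (up 1) : D) : G) * (x * ((τ (up 1) : D) : G) * x⁻¹)⁻¹ by group]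
  have huZ : ((τ (up 1) : D) : G) ∉ center G := fun hc => by
    have h1 : τ (up 1) ∈ π.ker :=
      hker ▸ mem_center_iff.2 fun d => Subtype.ext (mem_center_iff.1 hc d)
    rw [MonoidHom.mem_ker, hcomp', mk_eq_one] at h1
    rcases h1 with h1 | h1
    · have := congrArg (fun z : Matrix.SpecialLinearGroup (Fin 2) F => z.1 0 1) h1
      simp [up] at this
    · have := congrArg (fun z : Matrix.SpecialLinearGroup (Fin 2) F => z.1 0 1) h1
      simp [up, Matrix.SpecialLinearGroup.coe_neg] at this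
  have hfix : ∀ c : F, σ c = c := fun c => by
    have hc : ((τ (up c) : D) : G) * x = x * ((τ (up c) : D) : G) := by
      refine hD.inner_comm h hns hDt (τ (up 1)).2 huZ ?_ hu.symm
      rw [← Subgroup.coe_mul, ← Subgroup.coe_mul, ← map_mul, ← map_mul, up_mul, up_mul, add_comm]
    have h1 : MulAut.conjNormal x (τ (up c)) = τ (up c) :=
      Subtype.ext (by rw [MulAut.conjNormal_apply, conj_eq_of_comm hc.symm])
    have h2 := hconj c
    rw [h1, hcomp', mk_eq_iff] at h2
    rcases h2 with h2 | h2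
    · exact (congrArg (fun z : Matrix.SpecialLinearGroup (Fin 2) F => z.1 0 1) h2).symm.trans rfl |> fun t => by
        simpa [up] using t
    · have h20 : (2 : F) = 0 := by
        have := congrArg (fun z : Matrix.SpecialLinearGroup (Fin 2) F => z.1 0 0) h2
        simp only [Matrix.SpecialLinearGroup.coe_neg] at this
        simp [up] at this
        linear_combination this
      have := congrArg (fun z : Matrix.SpecialLinearGroup (Fin 2) F => z.1 0 1) h2
      simp only [Matrix.SpecialLinearGroup.coe_neg] at this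
      simp [up] at this
      linear_combination this + (-c) * h20
  exact hσ (RingEquiv.ext hfix)

end Cfsg.Agent.Invol.MinNonCA
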