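import Cfsg.Agent.Lib.Invol.MinNonCA.Socle
import Cfsg.Agent.Lib.Invol.ZStar
import Cfsg.Agent.Lib.Transfer.NormalComplement

/-!
# Centralisers of involutions in quasisimple groups with CA proper subgroups (for S4369)
-/

set_option autoImplicit false
set_option linter.style.haveILetI false

namespace Cfsg.Agent.Invol.MinNonCA

open Subgroup

universe u

variable {G : Type u} [Group G] [Finite G]

omit [Finite G] in
theorem isPGroup_zpowers_of_pow {z : G} {k : ℕ} (hk : z ^ 2 ^ k = 1) : IsPGroup 2 (zpowers z) := fun a => by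
  obtain ⟨l, hl⟩ := mem_zpowers_iff.1 a.2
  exact ⟨k, Subtype.ext (by
    show (a : G) ^ 2 ^ k = 1
    rw [← hl, ← zpow_natCast (z ^ l), ← zpow_mul, mul_comm, zpow_mul, zpow_natCast, hk, one_zpow])⟩

/-- A central 2-element lies in every Sylow 2-subgroup. -/
theorem central_mem_sylow [Fact (Nat.Prime 2)] (S : Sylow 2 G) {z : G} (hz : z ∈ center G) {k : ℕ}
    (hk : z ^ 2 ^ k = 1) : z ∈ (S : Subgroup G) := by
  obtain ⟨S', hS'⟩ := (isPGroup_zpowers_of_pow hk).exists_le_sylow
  obtain ⟨c, hc⟩ := MulAction.exists_smul_eq G S' S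
  have h1 : c * z * c⁻¹ ∈ (S : Subgroup G) := by rw [← hc]; exact ⟨_, hS' (mem_zpowers _), rfl⟩
  rwa [conj_eq_of_comm (mem_center_iff.1 hz c)] at h1

omit [Finite G] in
theorem isPGroup_sup_zpowers {W : Subgroup G} (hW : IsPGroup 2 W) {n : G} (hn : n ∈ normalizer (W : Set G))
    {k : ℕ} (hk : n ^ 2 ^ k = 1) : IsPGroup 2 ↥(W ⊔ zpowers n) :=
  IsPGroup.to_sup_of_normal_left' hW (isPGroup_zpowers_of_pow hk) (zpowers_le.2 hn)

/-- Normalisers grow in a 2-subgroup. -/
theorem exists_mem_normalizer [Fact (Nat.Prime 2)] {S W : Subgroup G} (hS : IsPGroup 2 S) (hW : W ≤ S)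
    (hne : W ≠ S) : ∃ n ∈ S, n ∈ normalizer (W : Set G) ∧ n ∉ W ∧ ∃ k : ℕ, n ^ 2 ^ k = 1 := by
  haveI := hS.isNilpotent
  have hlt : W.subgroupOf S < ⊤ := lt_top_iff_ne_top.2 fun e => hne (le_antisymm hW (subgroupOf_eq_top.1 e))
  obtain ⟨n, hn, hnW⟩ := SetLike.exists_of_lt (Group.normalizerCondition_of_isNilpotent _ hlt)
  refine ⟨n, n.2, mem_normalizer_iff.2 fun x => ?_, fun hc => hnW (mem_subgroupOf.2 hc), ?_⟩
  · constructor
    · intro hx
      exact mem_subgroupOf.1 ((mem_normalizer_iff.1 hn ⟨x, hW hx⟩).1 (mem_subgroupOf.2 hx))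
    · intro hx
      have hxS : x ∈ S := by
        have := S.mul_mem (S.mul_mem (S.inv_mem n.2) (hW hx)) n.2
        rwa [show (n : G)⁻¹ * (n * x * (n : G)⁻¹) * n = x by group] at this
      exact mem_subgroupOf.1 ((mem_normalizer_iff.1 hn ⟨x, hxS⟩).2 (mem_subgroupOf.2 hx))
  · obtain ⟨k, hk⟩ := hS n
    exact ⟨k, congrArg Subtype.val hk⟩

variable (h : SubCA G) (hq : Cfsg.IsQuasisimple G)

section Structure

include hq

theorem qs_normal_le (N : Subgroup G) [N.Normal] (hN : Group.IsSolvable N) : N ≤ center G := by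
  refine (Grp.IsQuasisimple.eq_top_or_le_center hq N).resolve_left fun e => ?_
  exact Grp.IsQuasisimple.not_isSolvable hq
    (Grp.isSolvable_of_injective (topEquiv (G := G)).symm.toMonoidHom (MulEquiv.injective _) (e ▸ hN))

theorem qs_core : Core (⊤ : Subgroup G) where
  normal := inferInstance
  qs := (Grp.isQuasisimple_congr (topEquiv (G := G))).2 hq
  cent := by
    intro x hx
    exact mem_center_iff.2 fun g => mem_centralizer_iff.1 hx g (mem_top g)

theorem qs_jz_ne_top {t : G} (ht : t ∉ center G) : Jz t ≠ ⊤ := (qs_core hq).jz_ne_top ht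

theorem qs_normalizer_ne_top {W : Subgroup G} (hW : IsPGroup 2 W) (hne : ¬ W ≤ center G) :
    normalizer (W : Set G) ≠ ⊤ := fun e => by
  haveI : Fact (Nat.Prime 2) := ⟨Nat.prime_two⟩
  haveI : W.Normal := normalizer_eq_top_iff.1 e
  haveI := hW.isNilpotent
  exact hne (qs_normal_le hq W inferInstance)

end Structure

include h hq

theorem jz_eq_centralizer {t : G} (ht : t ∉ center G) (hnc : ¬ IsMulCommutative (centralizer ({t} : Set G))) :
    Jz t ≤ centralizer ({t} : Set G) := by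
  obtain ⟨a, b, ha, hb, hab⟩ := exists_noncomm hnc
  exact le_centralizer_of_witness h ha hb hab (qs_jz_ne_top hq ht) (centralizer_le_Jz t)

/-- The normaliser of a Sylow subgroup of an involution centraliser is abelian. -/
theorem normalizer_comm [Fact (Nat.Prime 2)] {t : G} (ht : t ∉ center G) (ht2 : t * t ∈ center G) {k : ℕ}
    (htk : t ^ 2 ^ k = 1) (W : Sylow 2 (centralizer ({t} : Set G))) {a b : centralizer ({t} : Set G)}
    (ha : a ∈ normalizer ((W : Subgroup (centralizer ({t} : Set G))) : Set (centralizer ({t} : Set G))))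
    (hb : b ∈ normalizer ((W : Subgroup (centralizer ({t} : Set G))) : Set (centralizer ({t} : Set G)))) :
    (a : G) * b = b * a := by
  by_contra hab
  let C := centralizer ({t} : Set G)
  have htC : t ∈ C := mem_centralizer_singleton_iff.2 rfl
  set W' := (W : Subgroup C).map C.subtype with hW'
  have hW'p : IsPGroup 2 W' := W.isPGroup'.map _
  have htW : t ∈ W' := ⟨⟨t, htC⟩, central_mem_sylow W
    (mem_center_iff.2 fun c => Subtype.ext (mem_centralizer_singleton_iff.1 c.2)) (k := k) (Subtype.ext htk), rfl⟩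
  have hW'C : W' ≤ C := map_subtype_le _
  have haN : (a : G) ∈ normalizer (W' : Set G) := le_normalizer_map C.subtype ⟨a, ha, rfl⟩
  have hbN : (b : G) ∈ normalizer (W' : Set G) := le_normalizer_map C.subtype ⟨b, hb, rfl⟩
  have hac : (a : G) * t = t * a := mem_centralizer_singleton_iff.1 a.2
  have hbc : (b : G) * t = t * b := mem_centralizer_singleton_iff.1 b.2
  -- 2-subgroups of the centraliser containing `W'`
  have hWmax : ∀ U : Subgroup G, IsPGroup 2 U → U ≤ C → W' ≤ U → U = W' := by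
    intro U hU hUC hWU
    have h1 := W.is_maximal' (Q := U.subgroupOf C)
      (hU.of_equiv (subgroupOfEquivOfLe hUC).symm) (fun w hw => mem_subgroupOf.2 (hWU ⟨w, hw, rfl⟩))
    refine le_antisymm (fun u hu => ?_) hWU
    exact ⟨⟨u, hUC hu⟩, h1 ▸ mem_subgroupOf.2 hu, rfl⟩
  obtain ⟨T, hWT⟩ := hW'p.exists_le_sylow
  by_cases hTW : W' = (T : Subgroup G)
  swap
  · obtain ⟨n, -, hnN, hnW, m, hm⟩ := exists_mem_normalizer T.isPGroup' hWT hTW
    have hnC : t * n ≠ n * t := fun e => hnW (by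
      have h1 := hWmax (W' ⊔ zpowers n) (isPGroup_sup_zpowers hW'p hnN hm)
        (sup_le hW'C (zpowers_le.2 (mem_centralizer_singleton_iff.2 e.symm))) le_sup_left
      exact h1 ▸ mem_sup_right (mem_zpowers n))
    exact hab (h.comm_of_mem (qs_normalizer_ne_top hq hW'p fun hle => ht (hle htW)) (le_normalizer htW) hnN hnC
      haN hbN hac hbc)
  -- `W'` is a Sylow subgroup `T` of the whole group
  have hTC : (T : Subgroup G) ≤ C := hTW ▸ hW'C
  have htT : t ∈ (T : Subgroup G) := hTW ▸ htW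
  have hNT := qs_normalizer_ne_top hq T.isPGroup' (fun hle => ht (hle htT))
  have hconjT : ∀ c ∈ C, ∀ U : Subgroup G, IsPGroup 2 U → U ≤ C → True := fun _ _ _ _ _ => trivial
  have claim : ∀ g : G, g * t * g⁻¹ ∈ (T : Subgroup G) → g * t * g⁻¹ * t⁻¹ ∈ center G := by
    intro g hg
    by_contra hgn
    let α := {g : G // g * t * g⁻¹ ∈ (T : Subgroup G) ∧ g * t * g⁻¹ * t⁻¹ ∉ center G}
    haveI : Nonempty α := ⟨⟨g, hg, hgn⟩⟩
    obtain ⟨⟨g, hg, hgn⟩, hbig⟩ := Finite.exists_max fun g : α =>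
      Nat.card ↥((T : Subgroup G) ⊓ centralizer ({(g : G) * t * (g : G)⁻¹} : Set G))
    obtain ⟨s, hs⟩ : ∃ s, s = g * t * g⁻¹ := ⟨_, rfl⟩
    set W₂ := (T : Subgroup G) ⊓ centralizer ({s} : Set G) with hW₂
    have hsT : s ∈ (T : Subgroup G) := hs ▸ hg
    have hsW₂ : s ∈ W₂ := ⟨hsT, mem_centralizer_singleton_iff.2 rfl⟩
    by_cases hfull : W₂ = (T : Subgroup G)
    · obtain ⟨n, hn, hne⟩ := Sylow.conj_eq_normalizer_conj_of_mem_centralizer T t g⁻¹
        (mem_centralizer_iff.2 fun c hc => mem_centralizer_singleton_iff.1 (hTC hc))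
        (mem_centralizer_iff.2 fun c hc => by
          rw [inv_inv, ← hs]
          exact mem_centralizer_singleton_iff.1 (inf_eq_left.1 hfull hc))
      rw [inv_inv, ← hs] at hne
      have htn : t * n ≠ n * t := fun e => hgn (by
        rw [← hs, hne, show n⁻¹ * t * n * t⁻¹ = n⁻¹ * (t * n) * t⁻¹ by group, e,
          show n⁻¹ * (n * t) * t⁻¹ = 1 by group]
        exact one_mem _)
      exact hab (h.comm_of_mem hNT (le_normalizer htT) hn htn (hTW ▸ haN) (hTW ▸ hbN) hac hbc)
    -- 2-subgroups of both centralisers containing `W₂`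
    have hmax₂ : ∀ U : Subgroup G, IsPGroup 2 U → U ≤ C → U ≤ centralizer ({s} : Set G) → W₂ ≤ U → U = W₂ := by
      intro U hU hUC hUs hle
      obtain ⟨R, hR⟩ := (hU.of_equiv (subgroupOfEquivOfLe hUC).symm).exists_le_sylow
      obtain ⟨c, hc⟩ := MulAction.exists_smul_eq C R W
      have hcU : ∀ u ∈ U, (c : G) * u * (c : G)⁻¹ ∈ (T : Subgroup G) := fun u hu => by
        rw [← hTW]
        refine ⟨c * ⟨u, hUC hu⟩ * c⁻¹, ?_, rfl⟩
        rw [← hc]
        exact ⟨_, hR (mem_subgroupOf.2 hu : (⟨u, hUC hu⟩ : C) ∈ U.subgroupOf C), rfl⟩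
      have hs' : (c : G) * g * t * ((c : G) * g)⁻¹ = c * s * (c : G)⁻¹ := by rw [hs]; group
      have hbad : (c : G) * g * t * ((c : G) * g)⁻¹ * t⁻¹ ∉ center G := by
        rw [hs']
        intro hz
        have := (inferInstance : (center G).Normal).conj_mem _ hz (c : G)⁻¹
        have hct : (c : G)⁻¹ * t⁻¹ * c = t⁻¹ := by
          have hh : Commute (c : G) t := mem_centralizer_singleton_iff.1 c.2
          rw [(hh.inv_left.inv_right).eq, mul_assoc, inv_mul_cancel, mul_one]
        rw [show (c : G)⁻¹ * (c * s * (c : G)⁻¹ * t⁻¹) * (c : G)⁻¹⁻¹ = s * ((c : G)⁻¹ * t⁻¹ * c) by group, hct,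
          hs] at this
        exact hgn this
      have h1 := hbig ⟨(c : G) * g, hs' ▸ hcU s (hle hsW₂), hbad⟩
      have h2 : U.map (MulAut.conj (c : G)).toMonoidHom ≤
          (T : Subgroup G) ⊓ centralizer ({(c : G) * g * t * ((c : G) * g)⁻¹} : Set G) := by
        rintro _ ⟨u, hu, rfl⟩
        refine ⟨hcU u hu, mem_centralizer_singleton_iff.2 ?_⟩
        rw [hs']
        show (c : G) * u * (c : G)⁻¹ * (c * s * (c : G)⁻¹) = c * s * (c : G)⁻¹ * (c * u * (c : G)⁻¹)
        rw [show (c : G) * u * (c : G)⁻¹ * (c * s * (c : G)⁻¹) = c * (u * s) * (c : G)⁻¹ by group,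
          mem_centralizer_singleton_iff.1 (hUs hu)]
        group
      refine (eq_of_le_of_card_ge hle ?_).symm
      have h3 := card_le_of_le h2
      rw [card_map_of_injective (MulAut.conj (c : G)).injective] at h3
      exact h3.trans (by rw [hW₂, hs]; exact h1)
    obtain ⟨n₀, hn₀T, hn₀N, hn₀W, -⟩ := exists_mem_normalizer T.isPGroup' (inf_le_left : W₂ ≤ _) hfull
    -- a Sylow subgroup inside the centraliser of `s`
    have hgT : ((g • T : Sylow 2 G) : Subgroup G) ≤ centralizer ({s} : Set G) := by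
      rintro _ ⟨c, hc, rfl⟩
      refine mem_centralizer_singleton_iff.2 ?_
      show g * c * g⁻¹ * s = s * (g * c * g⁻¹)
      rw [hs, show g * c * g⁻¹ * (g * t * g⁻¹) = g * (c * t) * g⁻¹ by group,
        mem_centralizer_singleton_iff.1 (hTC hc)]
      group
    set D := centralizer ({s} : Set G)
    obtain ⟨R, hR⟩ := ((T.isPGroup'.to_le (inf_le_left : W₂ ≤ _)).of_equiv
      (subgroupOfEquivOfLe (inf_le_right : W₂ ≤ D)).symm).exists_le_sylow
    set R' := (R : Subgroup D).map D.subtype with hR'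
    have hWR : W₂ ≤ R' := fun w hw => ⟨⟨w, hw.2⟩, hR (mem_subgroupOf.2 hw), rfl⟩
    have hcardR : Nat.card (T : Subgroup G) ≤ Nat.card R' := by
      obtain ⟨R₀, hR₀⟩ := ((g • T : Sylow 2 G).isPGroup'.of_equiv (subgroupOfEquivOfLe hgT).symm).exists_le_sylow
      have e1 := card_le_of_le hR₀
      rw [Nat.card_congr (subgroupOfEquivOfLe hgT).toEquiv,
        Sylow.card_eq_multiplicity (g • T : Sylow 2 G), ← Sylow.card_eq_multiplicity T,
        Sylow.card_eq_multiplicity R₀, ← Sylow.card_eq_multiplicity R] at e1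
      rwa [hR', card_map_of_injective D.subtype_injective]
    have hR'ne : W₂ ≠ R' := fun e => hfull (eq_of_le_of_card_ge inf_le_left (e ▸ hcardR))
    obtain ⟨n, hnR, hnN, hnW, m, hm⟩ := exists_mem_normalizer (R.isPGroup'.map _) hWR hR'ne
    have hnC : t * n ≠ n * t := fun e => hnW (by
      have h1 := hmax₂ (W₂ ⊔ zpowers n) (isPGroup_sup_zpowers (T.isPGroup'.to_le inf_le_left) hnN hm)
        (sup_le ((inf_le_left : W₂ ≤ _).trans hTC) (zpowers_le.2 (mem_centralizer_singleton_iff.2 e.symm)))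
        (sup_le inf_le_right (zpowers_le.2 (map_subtype_le _ hnR))) le_sup_left
      exact h1 ▸ mem_sup_right (mem_zpowers n))
    have htN : t ∈ normalizer (W₂ : Set G) := le_normalizer ⟨htT, mem_centralizer_singleton_iff.2
      (mem_centralizer_singleton_iff.1 (hTC hsT)).symm⟩
    refine hn₀W ⟨hn₀T, mem_centralizer_singleton_iff.2 (h.comm_of_mem
      (qs_normalizer_ne_top hq (T.isPGroup'.to_le inf_le_left) fun hle => ?_) htN hnN hnC hn₀N (le_normalizer hsW₂)
      (mem_centralizer_singleton_iff.1 (hTC hn₀T)) (mem_centralizer_singleton_iff.1 (hTC hsT)))⟩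
    refine ht ?_
    have := (inferInstance : (center G).Normal).conj_mem _ (hle hsW₂) g⁻¹
    rwa [hs, show g⁻¹ * (g * t * g⁻¹) * g⁻¹⁻¹ = t by group] at this
  -- so the image is isolated
  set π := QuotientGroup.mk' (center G) with hπ
  have hπt : orderOf (π t) = 2 := orderOf_eq_prime
    (by rw [← map_pow, QuotientGroup.mk'_apply, QuotientGroup.eq_one_iff, pow_two]; exact ht2)
    (fun e => ht ((QuotientGroup.eq_one_iff t).1 e))
  let TX := T.mapSurjective (QuotientGroup.mk'_surjective (center G))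
  have hTX : (TX : Subgroup (G ⧸ center G)) = (T : Subgroup G).map π := Sylow.coe_mapSurjective _ _
  have hiso : Cfsg.IsIsolatedInvolution (π t) := by
    refine Cfsg.Agent.ZStar.isIsolated_of_sylow (P := TX) (show π t ∈ (TX : Subgroup (G ⧸ center G)) by rw [hTX]; exact ⟨t, htT, rfl⟩) hπt ?_
    intro q hqT
    obtain ⟨g, rfl⟩ := QuotientGroup.mk'_surjective _ q
    rw [← map_inv, ← map_mul, ← map_mul] at hqT ⊢
    change π (g * t * g⁻¹) ∈ (TX : Subgroup (G ⧸ center G)) at hqT
    rw [hTX] at hqT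
    obtain ⟨τ, hτ, hτe⟩ := hqT
    have hz : τ⁻¹ * (g * t * g⁻¹) ∈ center G := by
      rw [← QuotientGroup.eq_one_iff]
      show π (τ⁻¹ * (g * t * g⁻¹)) = 1
      rw [map_mul, map_inv, hτe, inv_mul_cancel]
    have hzk : ∃ N : ℕ, (τ⁻¹ * (g * t * g⁻¹)) ^ 2 ^ N = 1 := by
      obtain ⟨l, hl⟩ := T.isPGroup' ⟨τ, hτ⟩
      refine ⟨l + k, ?_⟩
      have hcm : Commute τ (τ⁻¹ * (g * t * g⁻¹)) := mem_center_iff.1 hz τ
      have h1 : (τ * (τ⁻¹ * (g * t * g⁻¹))) ^ 2 ^ (l + k) = 1 := by
        rw [mul_inv_cancel_left, conj_pow, pow_add 2, mul_comm (2 ^ l), pow_mul, htk, one_pow, mul_one,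
          mul_inv_cancel]
      rwa [hcm.mul_pow, pow_add 2 l k, pow_mul τ, show τ ^ 2 ^ l = 1 from congrArg Subtype.val hl, one_pow,
        one_mul, ← pow_add 2 l k] at h1
    obtain ⟨N, hN⟩ := hzk
    have hmem : g * t * g⁻¹ ∈ (T : Subgroup G) := by
      have := mul_mem hτ (central_mem_sylow T hz hN)
      rwa [mul_inv_cancel_left] at this
    have h2 : π (g * t * g⁻¹ * t⁻¹) = 1 := (QuotientGroup.eq_one_iff _).2 (claim g hmem)
    rwa [map_mul, map_inv, mul_inv_eq_one] at h2
  obtain ⟨N, hN, hNo, hNc⟩ := Cfsg.Agent.ZStar.exists_odd_normal hiso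
  haveI := hq.2
  rcases hN.eq_bot_or_eq_top with e | e
  · refine qs_jz_ne_top hq ht (top_le_iff.1 fun g _ => mem_Jz.2 ((QuotientGroup.eq_one_iff _).1 ?_))
    show π (g * t * g⁻¹ * t⁻¹) = 1
    have := hNc (π g)
    rw [e, mem_bot] at this
    rw [map_mul, map_mul, map_mul, map_inv, map_inv, ← inv_eq_one]
    simpa [mul_inv_rev, mul_assoc] using this
  · rw [e, card_top] at hNo
    exact Grp.IsQuasisimple.not_isSolvable hq (isSolvable_ext (center G)
      (Group.isSolvable_of_comm fun a b => Subtype.ext (mem_center_iff.1 b.2 a)) (Cfsg.Agent.S0205.result hNo))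

omit h in
/-- A 2-element lifting an involution of the central quotient. -/
theorem exists_lift {q : G ⧸ center G} (hq2 : q * q = 1) (hq1 : q ≠ 1) :
    ∃ t : G, QuotientGroup.mk' (center G) t = q ∧ t ∉ center G ∧ t * t ∈ center G ∧ ∃ k : ℕ, t ^ 2 ^ k = 1 := by
  obtain ⟨g, rfl⟩ := QuotientGroup.mk'_surjective _ q
  obtain ⟨e, k, he, hk⟩ := Grp.Pyramidal.exists_two_part g 1
  have h2 : QuotientGroup.mk' (center G) g ^ 2 ^ 1 = 1 := by rw [pow_one, pow_two, hq2]
  have hge : QuotientGroup.mk' (center G) (g ^ e) = QuotientGroup.mk' (center G) g := by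
    rw [map_pow]; exact Grp.Pyramidal.pow_of_modEq h2 he
  refine ⟨g ^ e, hge, fun hc => hq1 ?_, ?_, k, hk⟩
  · rw [← hge]; exact (QuotientGroup.eq_one_iff _).2 hc
  · rw [← QuotientGroup.eq_one_iff, ← QuotientGroup.mk'_apply, map_mul, hge, hq2]

/-- Central involutions modulo the centre have abelian centralisers when the Sylow subgroups are nonabelian. -/
theorem central_comm [Fact (Nat.Prime 2)] (T : Sylow 2 G) (hT : ¬ IsMulCommutative (T : Subgroup G)) {t : G}
    (ht : t ∉ center G) (ht2 : t * t ∈ center G) {k : ℕ} (htk : t ^ 2 ^ k = 1) (hTt : (T : Subgroup G) ≤ Jz t) :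
    IsMulCommutative (centralizer ({t} : Set G)) := by
  by_contra hnc
  have hTC : (T : Subgroup G) ≤ centralizer ({t} : Set G) := hTt.trans (jz_eq_centralizer h hq ht hnc)
  refine hT ⟨⟨fun a b => Subtype.ext ?_⟩⟩
  let W := T.subtype hTC
  have hW : (W : Subgroup (centralizer ({t} : Set G))) = (T : Subgroup G).subgroupOf (centralizer ({t} : Set G)) := rfl
  exact normalizer_comm h hq ht ht2 htk W (a := ⟨a, hTC a.2⟩) (b := ⟨b, hTC b.2⟩)
    (le_normalizer (hW ▸ mem_subgroupOf.2 a.2)) (le_normalizer (hW ▸ mem_subgroupOf.2 b.2))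

/-- Roots and odd elements of the centraliser of a central involution commute. -/
theorem roots_comm [Fact (Nat.Prime 2)] (S : Sylow 2 (G ⧸ center G))
    (hS : ∃ x ∈ (S : Subgroup (G ⧸ center G)), ∃ y ∈ (S : Subgroup (G ⧸ center G)), x * y ≠ y * x)
    {c v : G ⧸ center G} (hc : c * c ≠ 1) (hc4 : c * c * (c * c) = 1)
    (hcS : ∀ y ∈ (S : Subgroup (G ⧸ center G)), y * (c * c) = c * c * y) (hvc : v * (c * c) = c * c * v)
    (hv : Odd (orderOf v) ∨ v * v ≠ 1 ∧ v * v * (v * v) = 1 ∧
      ∀ y ∈ (S : Subgroup (G ⧸ center G)), y * (v * v) = v * v * y) :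
    c * v = v * c := by
  set π := QuotientGroup.mk' (center G) with hπ
  have hsurj := QuotientGroup.mk'_surjective (center G)
  obtain ⟨T₀⟩ : Nonempty (Sylow 2 G) := inferInstance
  obtain ⟨q, hq'⟩ := MulAction.exists_smul_eq (G ⧸ center G) (T₀.mapSurjective hsurj) S
  obtain ⟨g, rfl⟩ := hsurj q
  let T := g • T₀
  have hT : ∀ y ∈ (T : Subgroup G), π y ∈ (S : Subgroup (G ⧸ center G)) := by
    rintro _ ⟨y, hy, rfl⟩
    rw [← hq']
    refine ⟨π y, by rw [Sylow.coe_mapSurjective]; exact ⟨y, hy, rfl⟩, ?_⟩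
    show π g * π y * (π g)⁻¹ = π (g * y * g⁻¹)
    rw [map_mul, map_mul, map_inv]
  have hTn : ¬ IsMulCommutative (T : Subgroup G) := fun hcm => by
    obtain ⟨x, hx, y, hy, hxy⟩ := hS
    have hpre : ∀ z ∈ (S : Subgroup (G ⧸ center G)), ∃ y ∈ (T : Subgroup G), π y = z := fun z hz => by
      rw [← hq'] at hz
      obtain ⟨w, hw, rfl⟩ := hz
      rw [SetLike.mem_coe, Sylow.coe_mapSurjective] at hw
      obtain ⟨y, hy, rfl⟩ := hw
      exact ⟨g * y * g⁻¹, ⟨y, hy, rfl⟩, by rw [map_mul, map_mul, map_inv]; rfl⟩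
    obtain ⟨a, ha, rfl⟩ := hpre x hx
    obtain ⟨b, hb, rfl⟩ := hpre y hy
    exact hxy (by rw [← map_mul, ← map_mul, comm_of_isMulCommutative hcm ha hb])
  have key : ∀ u : G ⧸ center G, u ≠ 1 → u * u = 1 → (∀ y ∈ (S : Subgroup (G ⧸ center G)), y * u = u * y) →
      ∃ t : G, π t = u ∧ t * t ∈ center G ∧ IsMulCommutative (centralizer ({t} : Set G)) := fun u hu hu2 huS => by
    obtain ⟨t, hte, ht, ht2, k, htk⟩ := exists_lift hq hu2 hu
    refine ⟨t, hte, ht2, central_comm h hq T hTn ht ht2 htk fun y hy => mem_Jz.2 ((QuotientGroup.eq_one_iff _).1 ?_)⟩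
    show π (y * t * y⁻¹ * t⁻¹) = 1
    rw [map_mul, map_mul, map_mul, map_inv, map_inv, hte, huS _ (hT y hy)]
    group
  obtain ⟨t, hte, ht2, hCt⟩ := key (c * c) hc hc4 hcS
  obtain ⟨a, rfl⟩ := hsurj c
  obtain ⟨b, rfl⟩ := hsurj v
  simp only [← hπ] at *
  -- elements over a square root of `t` centralise `t`
  have hroot : ∀ {x s : G}, π s = π x * π x → x * s = s * x := fun {x s} hxs => by
    obtain ⟨z, hz⟩ : ∃ z, z = (x * x)⁻¹ * s := ⟨_, rfl⟩
    have hzc : z ∈ center G := by
      rw [← QuotientGroup.eq_one_iff]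
      show π z = 1
      rw [hz, map_mul, map_inv, map_mul, hxs, inv_mul_cancel]
    rw [show s = x * x * z by rw [hz]; group, mul_assoc (x * x), ← mem_center_iff.1 hzc x]
    group
  have hat : a * t = t * a := hroot hte
  have hbJ : b * t * b⁻¹ * t⁻¹ ∈ center G := (QuotientGroup.eq_one_iff _).1 (by
    show π (b * t * b⁻¹ * t⁻¹) = 1
    rw [map_mul, map_mul, map_mul, map_inv, map_inv, hte, hvc]; group)
  have hz2 : (b * t * b⁻¹ * t⁻¹) * (b * t * b⁻¹ * t⁻¹) = 1 := by
    obtain ⟨z, hz⟩ : ∃ z, z = b * t * b⁻¹ * t⁻¹ := ⟨_, rfl⟩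
    have hzc : z ∈ center G := hz ▸ hbJ
    rw [← hz]
    have e2 : b * t * b⁻¹ * (b * t * b⁻¹) = t * t := by
      rw [show b * t * b⁻¹ * (b * t * b⁻¹) = b * (t * t) * b⁻¹ by group]
      exact conj_eq_of_comm (mem_center_iff.1 ht2 b)
    rw [show b * t * b⁻¹ = z * t by rw [hz]; group, mul_assoc z t, central_swap (a := t) hzc, ← mul_assoc z z] at e2
    exact mul_eq_right.1 e2
  rw [← map_mul, ← map_mul]
  refine congrArg π ?_
  rcases hv with hodd | ⟨hv1, hv4, hvS⟩
  · have hbt : b * t = t * b := by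
      have h1 : (b * t * b⁻¹ * t⁻¹) ^ orderOf (π b) = 1 := by
        rw [← jz_pow (mem_Jz.2 hbJ : b ∈ Jz t)]
        have hbz : b ^ orderOf (π b) ∈ center G := by
          rw [← QuotientGroup.eq_one_iff, ← QuotientGroup.mk'_apply, map_pow, pow_orderOf_eq_one]
        rw [conj_eq_of_comm (mem_center_iff.1 hbz t).symm, mul_inv_cancel]
      refine comm_eq_of_conj (mul_inv_eq_one.1 ?_)
      exact eq_one_of_pow_coprime (a := 2) (by rw [pow_two, hz2]) h1 (Nat.coprime_two_left.2 hodd)
    exact comm_of_isMulCommutative hCt (mem_centralizer_singleton_iff.2 hat) (mem_centralizer_singleton_iff.2 hbt)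
  · obtain ⟨t', hte', -, hCt'⟩ := key (π b * π b) hv1 hv4 hvS
    have hbt' : b * t' = t' * b := hroot hte'
    have ht't : t' * t = t * t' := by
      obtain ⟨z, hz⟩ : ∃ z, z = (b * b)⁻¹ * t' := ⟨_, rfl⟩
      have hzc : z ∈ center G := by
        rw [← QuotientGroup.eq_one_iff]
        show π z = 1
        rw [hz, map_mul, map_inv, map_mul, hte', inv_mul_cancel]
      have h2 : b * b * t = t * (b * b) := by
        refine comm_eq_of_conj (mul_inv_eq_one.1 ?_)
        rw [← pow_two b, jz_pow (mem_Jz.2 hbJ : b ∈ Jz t), pow_two, hz2]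
      rw [show t' = b * b * z by rw [hz]; group]
      exact ((show Commute (b * b) t from h2).mul_left (show Commute z t from (mem_center_iff.1 hzc t).symm)).eq
    have hat' : a * t' = t' * a := comm_of_isMulCommutative hCt (mem_centralizer_singleton_iff.2 hat)
      (mem_centralizer_singleton_iff.2 ht't)
    exact comm_of_isMulCommutative hCt' (mem_centralizer_singleton_iff.2 hat') (mem_centralizer_singleton_iff.2 hbt')

/-- All centralisers of involutions of the central quotient have normal 2-complements. -/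
theorem two_nilpotent (q : G ⧸ center G) (hq2 : orderOf q = 2) :
    Cfsg.HasNormalPComplement 2 ↥(centralizer ({q} : Set (G ⧸ center G))) := by
  haveI : Fact (Nat.Prime 2) := ⟨Nat.prime_two⟩
  set π := QuotientGroup.mk' (center G)
  obtain ⟨t, hte, ht, ht2, k, htk⟩ := exists_lift hq (q := q)
    (by rw [← pow_two, ← hq2, pow_orderOf_eq_one]) (fun e => by rw [e, orderOf_one] at hq2; omega)
  let f : Jz t →* centralizer ({q} : Set (G ⧸ center G)) := MonoidHom.mk' (fun g => ⟨π g,
    mem_centralizer_singleton_iff.2 (by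
      have h1 : π ((g : G) * t * (g : G)⁻¹ * t⁻¹) = 1 := (QuotientGroup.eq_one_iff _).2 g.2
      rw [map_mul, map_mul, map_mul, map_inv, map_inv, hte] at h1
      exact mul_inv_eq_iff_eq_mul.1 (mul_inv_eq_one.1 h1))⟩) fun a b => Subtype.ext (map_mul π (a : G) b)
  have hf : Function.Surjective f := fun x => by
    obtain ⟨g, hg⟩ := QuotientGroup.mk'_surjective _ (x : G ⧸ center G)
    refine ⟨⟨g, mem_Jz.2 ((QuotientGroup.eq_one_iff _).1 ?_)⟩, Subtype.ext hg⟩
    show π (g * t * g⁻¹ * t⁻¹) = 1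
    rw [map_mul, map_mul, map_mul, map_inv, map_inv, hte, show π g = (x : G ⧸ center G) from hg,
      mem_centralizer_singleton_iff.1 x.2]
    group
  refine Cfsg.Agent.Transfer.hasNormalPComplement_of_surjective f hf ?_
  by_cases hCt : IsMulCommutative (centralizer ({t} : Set G))
  · rw [Cfsg.Agent.Transfer.hasNormalPComplement_iff_exists]
    let N : Subgroup (Jz t) :=
      { carrier := {g | (g : G) * t = t * g ∧ Odd (orderOf g)}
        one_mem' := ⟨by simp, by rw [orderOf_one]; exact odd_one⟩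
        mul_mem' := by
          rintro a b ⟨ha, ha'⟩ ⟨hb, hb'⟩
          refine ⟨((show Commute (a : G) t from ha).mul_left hb).eq, (ha'.mul hb').of_dvd_nat ?_⟩
          refine (show Commute a b from Subtype.ext ?_).orderOf_mul_dvd_mul_orderOf
          exact comm_of_isMulCommutative hCt (mem_centralizer_singleton_iff.2 ha) (mem_centralizer_singleton_iff.2 hb)
        inv_mem' := by
          rintro a ⟨ha, ha'⟩
          exact ⟨((show Commute (a : G) t from ha).inv_left).eq, by rwa [orderOf_inv]⟩ }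
    haveI : N.Normal := by
      refine ⟨fun a ha g => ⟨?_, by rw [Invol.orderOf_conj_eq]; exact ha.2⟩⟩
      have h0 : commHom t a = 1 := commHom_eq_one.2 ha.1
      refine commHom_eq_one.1 ?_
      rw [map_mul, map_mul, map_inv, h0, mul_one, mul_inv_cancel]
    refine ⟨N, inferInstance, fun hd => ?_, ?_⟩
    · obtain ⟨y, hy⟩ := exists_prime_orderOf_dvd_card' 2 hd
      have := y.2.2
      rw [Subgroup.orderOf_coe, hy] at this
      exact absurd this (by decide)
    · have hp : IsPGroup 2 (Jz t ⧸ N) := fun y => by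
        obtain ⟨g, rfl⟩ := QuotientGroup.mk'_surjective N y
        have hgt : ((g * g : Jz t) : G) * t = t * ((g * g : Jz t) : G) := by
          refine commHom_eq_one.1 (Subtype.ext ?_)
          rw [map_mul]
          obtain ⟨z, hz⟩ : ∃ z, z = (g : G) * t * (g : G)⁻¹ * t⁻¹ := ⟨_, rfl⟩
          have hzc : z ∈ center G := hz ▸ g.2
          have e2 : (g : G) * t * (g : G)⁻¹ * ((g : G) * t * (g : G)⁻¹) = t * t := by
            rw [show (g : G) * t * (g : G)⁻¹ * ((g : G) * t * (g : G)⁻¹) = g * (t * t) * (g : G)⁻¹ by group]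
            exact conj_eq_of_comm (mem_center_iff.1 ht2 g)
          rw [show (g : G) * t * (g : G)⁻¹ = z * t by rw [hz]; group, mul_assoc z t, central_swap (a := t) hzc,
            ← mul_assoc z z] at e2
          show (commHom t g : G) * (commHom t g : G) = 1
          rw [commHom_apply, ← hz]
          exact mul_eq_right.1 e2
        refine ⟨1 + (orderOf (g * g)).factorization 2, ?_⟩
        rw [pow_add, pow_one, pow_mul, pow_two, ← map_mul, ← map_pow, QuotientGroup.mk'_apply,
          QuotientGroup.eq_one_iff]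
        refine ⟨?_, ?_⟩
        · rw [SubmonoidClass.coe_pow]
          exact ((show Commute ((g * g : Jz t) : G) t from hgt).pow_left _).eq
        · rw [orderOf_pow_of_dvd (pow_ne_zero _ (by norm_num)) (Nat.ordProj_dvd _ _)]
          exact Nat.not_even_iff_odd.1 fun he =>
            Nat.not_dvd_ordCompl Nat.prime_two (orderOf_pos (g * g)).ne' he.two_dvd
      obtain ⟨j, hj⟩ := hp.exists_card_eq
      exact ⟨j, by rw [index_eq_card, hj]⟩
  · have hJ : Jz t = centralizer ({t} : Set G) :=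
      le_antisymm (jz_eq_centralizer h hq ht hCt) (centralizer_le_Jz t)
    rw [hJ]
    obtain ⟨W⟩ : Nonempty (Sylow 2 (centralizer ({t} : Set G))) := inferInstance
    have hB : normalizer ((W : Subgroup (centralizer ({t} : Set G))) : Set (centralizer ({t} : Set G))) ≤
        centralizer ((W : Subgroup (centralizer ({t} : Set G))) : Set (centralizer ({t} : Set G))) := fun n hn =>
      mem_centralizer_iff.2 fun c hc => Subtype.ext (normalizer_comm h hq ht ht2 htk W (le_normalizer hc) hn)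
    exact ⟨W, _, MonoidHom.normal_ker _, MonoidHom.ker_transferSylow_isComplement' W hB⟩

end Cfsg.Agent.Invol.MinNonCA
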