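import Cfsg.Agent.Lib.Invol.MinNonCA.RadicalAbelian
import Cfsg.Agent.Lib.Grp.Frattini
import Cfsg.Agent.Lib.Grp.Solvable

/-!
# The solvable radical is the centre (for S4369)
-/

set_option autoImplicit false
set_option linter.style.haveILetI false

namespace Cfsg.Agent.Invol.MinNonCA

open Subgroup

universe u

variable {G : Type u} [Group G] [Finite G]

omit [Finite G] in
theorem conj_comm_eq {g a b z : G} (hz : z ∈ center G) (h : a * b = z * (b * a)) :
    g * a * g⁻¹ * (g * b * g⁻¹) = z * (g * b * g⁻¹ * (g * a * g⁻¹)) := by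
  have hzg : g * z * g⁻¹ = z := conj_eq_of_comm (mem_center_iff.1 hz g)
  calc g * a * g⁻¹ * (g * b * g⁻¹) = g * (a * b) * g⁻¹ := by group
    _ = g * z * g⁻¹ * (g * b * g⁻¹ * (g * a * g⁻¹)) := by rw [h]; group
    _ = _ := by rw [hzg]

omit [Finite G] in
theorem central_swap {z a b : G} (hz : z ∈ center G) : a * (z * b) = z * (a * b) := by
  rw [← mul_assoc, mem_center_iff.1 hz a, mul_assoc]

/-- A class two normal subgroup which is commuted into the centre. -/
structure ClassTwo (P : Subgroup G) : Prop where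
  normal : P.Normal
  solv : Group.IsSolvable P
  comm : ∀ a ∈ P, ∀ b ∈ P, a * b * a⁻¹ * b⁻¹ ∈ center G
  ne : ¬ P ≤ center G

namespace ClassTwo

variable {P : Subgroup G} (hP : ClassTwo P)
include hP

theorem centralizer_le (h : SubCA G) (hns : ¬ Group.IsSolvable G) : centralizer (P : Set G) ≤ center G := by
  haveI : Fact (Nat.Prime 2) := ⟨Nat.prime_two⟩
  haveI := hP.normal
  set C := centralizer (P : Set G) with hC
  haveI : C.Normal := inferInstance
  have hZ : P ⊓ C ≤ center G := abelian_normal_le_center h hns _ ⟨⟨fun a b => Subtype.ext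
    (mem_centralizer_iff.1 b.2.2 (a : G) a.2.1)⟩⟩
  obtain ⟨x, hxP, hxZ⟩ := SetLike.not_le_iff_exists.1 hP.ne
  obtain ⟨y, hy, hxy⟩ : ∃ y ∈ P, x * y ≠ y * x := by
    by_contra hc
    push Not at hc
    exact hxZ (hZ ⟨hxP, mem_centralizer_iff.2 fun y hy => (hc y hy).symm⟩)
  have hxC : ∀ c ∈ C, c * x = x * c := fun c hc => (mem_centralizer_iff.1 hc x hxP).symm
  have hCs : Group.IsSolvable C := by
    obtain ⟨S⟩ : Nonempty (Sylow 2 C) := inferInstance
    have hH := ne_top_of_solvable hns (isSolvable_sup hP.solv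
      (Grp.isSolvable_map (isSolvable_sylow_normalizer S) C.subtype))
    exact isSolvable_of_burnside S fun n hn => mem_centralizer_iff.2 fun c hc => Subtype.ext
      (h.comm_of_mem hH (mem_sup_left hxP) (mem_sup_left hy) hxy (mem_sup_right ⟨c, le_normalizer hc, rfl⟩)
        (mem_sup_right ⟨n, hn, rfl⟩) (hxC _ c.2) (hxC _ n.2))
  refine abelian_normal_le_center h hns C ⟨⟨fun a b => Subtype.ext ?_⟩⟩
  exact h.comm_of_mem (ne_top_of_solvable hns (isSolvable_sup hP.solv hCs)) (mem_sup_left hxP) (mem_sup_left hy)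
    hxy (mem_sup_right a.2) (mem_sup_right b.2) (hxC _ a.2) (hxC _ b.2)

theorem exists_noncomm (h : SubCA G) (hns : ¬ Group.IsSolvable G) {x : G} (hxZ : x ∉ center G) :
    ∃ y ∈ P, x * y ≠ y * x := by
  by_contra hc
  push Not at hc
  exact hxZ (hP.centralizer_le h hns (mem_centralizer_iff.2 fun y hy => (hc y hy).symm))

theorem trans (h : SubCA G) (hns : ¬ Group.IsSolvable G) {x a b : G} (hx : x ∈ P) (hxZ : x ∉ center G)
    (ha : a ∈ P) (hb : b ∈ P) (hax : a * x = x * a) (hbx : b * x = x * b) : a * b = b * a := by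
  obtain ⟨y, hy, hxy⟩ := hP.exists_noncomm h hns hxZ
  exact h.comm_of_mem (ne_top_of_solvable hns hP.solv) hx hy hxy ha hb hax hbx

/-- Fixing an element modulo the centre makes the action trivial on the quotient by its centraliser. -/
theorem fix_quot {g v w : G} (hv : v ∈ P) (hfix : g * v * g⁻¹ * v⁻¹ ∈ center G) (hw : w ∈ P) :
    w⁻¹ * (g * w * g⁻¹) * v = v * (w⁻¹ * (g * w * g⁻¹)) := by
  set c := v * w * v⁻¹ * w⁻¹ with hc
  have hcZ := hP.comm v hv w hw
  have h1 : v * w = c * (w * v) := by rw [hc]; group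
  have h2 := conj_comm_eq (g := g) hcZ h1
  set z := g * v * g⁻¹ * v⁻¹ with hz
  rw [show g * v * g⁻¹ = z * v by rw [hz]; group, mul_assoc z v, central_swap (a := g * w * g⁻¹) hfix,
    ← mul_assoc c z, ← mem_center_iff.1 hcZ z, mul_assoc z c] at h2
  have h3 : v * (g * w * g⁻¹) = c * (g * w * g⁻¹ * v) := mul_left_cancel h2
  refine (mul_left_cancel (a := c * w) ?_).symm
  calc c * w * (v * (w⁻¹ * (g * w * g⁻¹))) = c * (w * v) * (w⁻¹ * (g * w * g⁻¹)) := by group
    _ = v * w * (w⁻¹ * (g * w * g⁻¹)) := by rw [h1]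
    _ = v * (g * w * g⁻¹) := by group
    _ = c * (g * w * g⁻¹ * v) := h3
    _ = c * w * (w⁻¹ * (g * w * g⁻¹) * v) := by group

/-- An element fixing `v` modulo the centre fixes its centraliser modulo the centre. -/
theorem fix_cent (h : SubCA G) (hns : ¬ Group.IsSolvable G) {g v m : G} (hv : v ∈ P) (hvZ : v ∉ center G)
    (hfix : g * v * g⁻¹ * v⁻¹ ∈ center G) (hm : m ∈ P) (hmv : m * v = v * m) :
    g * m * g⁻¹ * m⁻¹ ∈ center G := by
  haveI := hP.normal
  set m' := g * m * g⁻¹ with hm'def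
  have hm' : m' ∈ P := hP.normal.conj_mem m hm g
  have hm'v : m' * v = v * m' := by
    have h1 : m' * (g * v * g⁻¹) = g * v * g⁻¹ * m' := by
      rw [hm'def, show g * m * g⁻¹ * (g * v * g⁻¹) = g * (m * v) * g⁻¹ by group, hmv]; group
    set z := g * v * g⁻¹ * v⁻¹ with hz
    rw [show g * v * g⁻¹ = z * v by rw [hz]; group, central_swap hfix, mul_assoc z v] at h1
    exact mul_left_cancel h1
  have hd : m' * m⁻¹ * v = v * (m' * m⁻¹) := by
    have hmv' : m⁻¹ * v = v * m⁻¹ := ((show Commute m v from hmv).inv_left).eq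
    rw [mul_assoc, hmv', ← mul_assoc, hm'v, mul_assoc]
  by_contra hn
  obtain ⟨w, hw, hwd⟩ := hP.exists_noncomm h hns hn
  apply hwd
  set w' := g * w * g⁻¹ with hw'def
  set k := w⁻¹ * w' with hk
  have hkP : k ∈ P := mul_mem (inv_mem hw) (hP.normal.conj_mem w hw g)
  have hkm : k * m' = m' * k := hP.trans h hns hv hvZ hkP hm' (hP.fix_quot hv hfix hw) hm'v
  obtain ⟨c, hc⟩ : ∃ c, c = w * m * w⁻¹ * m⁻¹ := ⟨_, rfl⟩
  have hcZ : c ∈ center G := hc ▸ hP.comm w hw m hm
  have h1 : w * m = c * (m * w) := by rw [hc]; group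
  have h2 : w' * m' = c * (m' * w') := conj_comm_eq hcZ h1
  have hw' : w' = w * k := by rw [hk]; group
  rw [hw', mul_assoc, hkm, ← mul_assoc w, ← mul_assoc m', ← mul_assoc c] at h2
  have h3 : w * m' = c * (m' * w) := mul_right_cancel h2
  calc m' * m⁻¹ * w = m' * (c⁻¹ * c) * m⁻¹ * w := by group
    _ = m' * c * (c⁻¹ * (m⁻¹ * w)) := by group
    _ = c * m' * (c⁻¹ * (m⁻¹ * w)) := by rw [mem_center_iff.1 hcZ m']
    _ = c * m' * (w * m⁻¹) := by
      congr 1
      calc c⁻¹ * (m⁻¹ * w) = c⁻¹ * m⁻¹ * (w * m) * m⁻¹ := by group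
        _ = m⁻¹ * (c⁻¹ * (w * m)) * m⁻¹ := by rw [← mem_center_iff.1 (inv_mem hcZ) m⁻¹]; group
        _ = m⁻¹ * (c⁻¹ * (c * (m * w))) * m⁻¹ := by rw [h1]
        _ = m⁻¹ * (m * w) * m⁻¹ := by group
        _ = w * m⁻¹ := by group
    _ = w * (m' * m⁻¹) := by rw [← mul_assoc w, h3]; group

theorem odd_case (h : SubCA G) (hns : ¬ Group.IsSolvable G) {p : ℕ} (hp : Odd p) (hPp : IsPGroup p P) :
    False := by
  haveI := hP.normal
  haveI := wmod_normal P
  have hCZ := hP.centralizer_le h hns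
  have hW := isSolvable_wmod (P := P)
    (Group.isSolvable_of_comm fun a b => Subtype.ext (mem_center_iff.1 (hCZ b.2) a))
  have hW2 : ∀ w ∈ Wmod P, ∀ k : ℕ, w ^ 2 ^ k = 1 → w ∈ center G := fun w hw k hk => by
    refine hCZ (mem_centralizer_iff.2 fun a ha => (comm_eq_of_conj ?_).symm)
    have hz := mem_Wmod.1 hw a ha
    obtain ⟨j, hj⟩ := hPp ⟨a, ha⟩
    have hj' : a ^ p ^ j = 1 := congrArg Subtype.val hj
    have h1 : (w * a * w⁻¹ * a⁻¹) ^ 2 ^ k = 1 := by
      rw [← jz_pow (mem_Wmod.1 hw a ha : w ∈ Jz a), hk]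
      group
    have h2 : (w * a * w⁻¹ * a⁻¹) ^ p ^ j = 1 := by
      have hcm : Commute (w * a * w⁻¹ * a⁻¹) a := (mem_center_iff.1 hz a).symm
      have h3 := hcm.mul_pow (p ^ j)
      rw [show w * a * w⁻¹ * a⁻¹ * a = w * a * w⁻¹ by group, conj_pow, hj', mul_one, mul_inv_cancel,
        mul_one] at h3
      exact h3.symm
    exact mul_inv_eq_one.1
      (eq_one_of_pow_coprime h1 h2 ((Nat.Coprime.pow _ _) (Nat.coprime_two_left.2 hp)))
  obtain ⟨t, htW, htt, k, hk⟩ := exists_two_element hns hW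
  have httZ : t * t ∈ center G := hW2 _ htt k (by
    rw [← pow_two, ← pow_mul, mul_comm, pow_mul, hk, one_pow])
  refine not_inverts h hns hP.solv hW hW2 htW hk httZ fun v hv => Classical.byContradiction fun hn => htW ?_
  have hv' : t * v * t⁻¹ ∈ P := hP.normal.conj_mem v hv t
  set d := t * v * t⁻¹ * v with hd
  have hdP : d ∈ P := mul_mem hv' hv
  have hdfix : t * d * t⁻¹ * d⁻¹ ∈ center G := by
    have e : t * d * t⁻¹ = v * (t * v * t⁻¹) := by
      rw [hd, show t * (t * v * t⁻¹ * v) * t⁻¹ = t * t * v * (t * t)⁻¹ * (t * v * t⁻¹) by group,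
        conj_eq_of_comm (mem_center_iff.1 httZ v).symm]
    rw [e, hd, mul_inv_rev, ← mul_assoc]
    exact hP.comm v hv _ hv'
  refine mem_Wmod.2 fun w hw => ?_
  set m := w⁻¹ * (t * w * t⁻¹) with hm
  have hmP : m ∈ P := mul_mem (inv_mem hw) (hP.normal.conj_mem w hw t)
  have hmd := hP.fix_quot hdP hdfix hw
  have h1 := hP.fix_cent h hns hdP hn hdfix hmP hmd
  have e : t * m * t⁻¹ = m⁻¹ := by
    rw [hm, show t * (w⁻¹ * (t * w * t⁻¹)) * t⁻¹ = (t * w * t⁻¹)⁻¹ * (t * t * w * (t * t)⁻¹) by group,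
      conj_eq_of_comm (mem_center_iff.1 httZ w).symm]
    group
  rw [e, ← mul_inv_rev] at h1
  obtain ⟨j, hj⟩ := hPp ⟨m, hmP⟩
  have hmZ : m ∈ center G :=
    mem_of_sq_mem (orderOf_odd_of_pow hp (congrArg Subtype.val hj)) (inv_mem_iff.1 h1)
  rw [show t * w * t⁻¹ = w * m by rw [hm]; group, mem_center_iff.1 hmZ w, mul_inv_cancel_right]
  exact hmZ

/-- Squares modulo the centre, and the two-element bound. -/
theorem two_case (h : SubCA G) (hns : ¬ Group.IsSolvable G) (hP2 : IsPGroup 2 P) : False := by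
  haveI : Fact (Nat.Prime 2) := ⟨Nat.prime_two⟩
  haveI := hP.normal
  haveI := wmod_normal P
  have hCZ := hP.centralizer_le h hns
  have hW := isSolvable_wmod (P := P)
    (Group.isSolvable_of_comm fun a b => Subtype.ext (mem_center_iff.1 (hCZ b.2) a))
  obtain ⟨S₀⟩ : Nonempty (Sylow 2 G) := inferInstance
  obtain ⟨S, hPS⟩ := hP2.exists_le_sylow
  -- an element fixed by the Sylow subgroup
  obtain ⟨v, hv, hvZ, hv2, hvfix⟩ : ∃ v ∈ P, v ∉ center G ∧ v * v ∈ center G ∧
      ∀ s ∈ (S : Subgroup G), s * v * s⁻¹ * v⁻¹ ∈ center G := by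
    let Zs := (center G).subgroupOf (S : Subgroup G)
    let π := QuotientGroup.mk' Zs
    haveI : Group.IsNilpotent (↥(S : Subgroup G) ⧸ Zs) := (S.isPGroup'.to_quotient Zs).isNilpotent
    let N := (P.subgroupOf (S : Subgroup G)).map π
    haveI : N.Normal := Subgroup.Normal.map inferInstance π (QuotientGroup.mk'_surjective _)
    have hN : N ≠ ⊥ := fun e => hP.ne fun x hx => by
      have h1 : π ⟨x, hPS hx⟩ ∈ N := ⟨_, hx, rfl⟩
      rw [e, mem_bot] at h1
      exact mem_subgroupOf.1 ((QuotientGroup.eq_one_iff (N := Zs) ⟨x, hPS hx⟩).1 h1)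
    obtain ⟨⟨q, hqN, hqc⟩, hq1⟩ := (ne_bot_iff_exists_ne_one).1 (Grp.inf_center_ne_bot N hN)
    obtain ⟨x, hx, rfl⟩ := hqN
    have hxZ : (x : G) ∉ center G := fun hc => hq1 (Subtype.ext ((QuotientGroup.eq_one_iff x).2 hc))
    have hfix : ∀ s ∈ (S : Subgroup G), s * x * s⁻¹ * (x : G)⁻¹ ∈ center G := fun s hs => by
      have h1 : π (⟨s, hs⟩ * x * ⟨s, hs⟩⁻¹ * x⁻¹) = 1 := by
        rw [map_mul, map_mul, map_mul, map_inv, map_inv, mem_center_iff.1 hqc (π ⟨s, hs⟩)]
        group
      exact mem_subgroupOf.1 ((QuotientGroup.eq_one_iff (N := Zs) _).1 h1)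
    obtain ⟨j, hj⟩ := hP2 ⟨x, hx⟩
    have hj' : (x : G) ^ 2 ^ j ∈ center G := by
      rw [show (x : G) ^ 2 ^ j = 1 from congrArg Subtype.val hj]; exact one_mem _
    clear hj hq1 hqc
    have hxP : (x : G) ∈ P := hx
    generalize (x : G) = y at hxZ hfix hj' hxP
    induction j generalizing y with
    | zero => exact absurd (by rwa [pow_zero, pow_one] at hj') hxZ
    | succ j ih =>
      by_cases h2 : y * y ∈ center G
      · exact ⟨y, hxP, hxZ, h2, hfix⟩
      · refine ih (y * y) h2 (fun s hs => ?_) (by rwa [← pow_two, ← pow_mul, ← pow_succ']) (mul_mem hxP hxP)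
        set z := s * y * s⁻¹ * y⁻¹ with hz
        have hzc := hfix s hs
        rw [show s * (y * y) * s⁻¹ = s * y * s⁻¹ * (s * y * s⁻¹) by group,
          show s * y * s⁻¹ = z * y by rw [hz]; group, mul_assoc z y, central_swap (a := y) hzc, ← mul_assoc z z,
          mul_inv_cancel_right]
        exact mul_mem hzc hzc
  -- a conjugate not commuting with it
  obtain ⟨g, hg⟩ : ∃ g : G, g * v * g⁻¹ * v ≠ v * (g * v * g⁻¹) := by
    by_contra hc
    push Not at hc
    let M := P ⊓ centralizer ({v} : Set G)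
    haveI : M.Normal := by
      refine ⟨fun m hm g => ⟨hP.normal.conj_mem m hm.1 g, mem_centralizer_singleton_iff.2 ?_⟩⟩
      have hgv : g * v * g⁻¹ ∉ center G := fun hz => hvZ (by
        have := (inferInstance : (center G).Normal).conj_mem _ hz g⁻¹
        rwa [show g⁻¹ * (g * v * g⁻¹) * g⁻¹⁻¹ = v by group] at this)
      refine hP.trans h hns (hP.normal.conj_mem v hv g) hgv (hP.normal.conj_mem m hm.1 g) hv ?_ (hc g).symm
      rw [show g * m * g⁻¹ * (g * v * g⁻¹) = g * (m * v) * g⁻¹ by group, mem_centralizer_singleton_iff.1 hm.2]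
      group
    exact hvZ (abelian_normal_le_center h hns M ⟨⟨fun a b => Subtype.ext (hP.trans h hns hv hvZ a.2.1 b.2.1
      (mem_centralizer_singleton_iff.1 a.2.2) (mem_centralizer_singleton_iff.1 b.2.2))⟩⟩ ⟨hv,
      mem_centralizer_singleton_iff.2 rfl⟩)
  set v' := g * v * g⁻¹ with hv'def
  have hv' : v' ∈ P := hP.normal.conj_mem v hv g
  have hv'2 : v' * v' ∈ center G := by
    have := (inferInstance : (center G).Normal).conj_mem _ hv2 g
    rwa [show g * (v * v) * g⁻¹ = v' * v' by rw [hv'def]; group] at this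
  have sq_comm : ∀ u ∈ P, u * u ∈ center G → ∀ w ∈ P, w * w * u = u * (w * w) := fun u hu hu2 w hw => by
    obtain ⟨c, hc⟩ : ∃ c, c = w * u * w⁻¹ * u⁻¹ := ⟨_, rfl⟩
    have hcZ : c ∈ center G := hc ▸ hP.comm w hw u hu
    have hc2 : c * c = 1 := by
      have e2 : w * u * w⁻¹ * (w * u * w⁻¹) = u * u := by
        rw [show w * u * w⁻¹ * (w * u * w⁻¹) = w * (u * u) * w⁻¹ by group]
        exact conj_eq_of_comm (mem_center_iff.1 hu2 w)
      rw [show w * u * w⁻¹ = c * u by rw [hc]; group, mul_assoc, central_swap (a := u) hcZ, ← mul_assoc] at e2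
      exact mul_eq_right.1 e2
    refine comm_eq_of_conj ?_
    rw [show w * w * u * (w * w)⁻¹ = w * (w * u * w⁻¹) * w⁻¹ by group,
      show w * u * w⁻¹ = c * u by rw [hc]; group, show w * (c * u) * w⁻¹ = w * c * w⁻¹ * (w * u * w⁻¹) by group,
      conj_eq_of_comm (mem_center_iff.1 hcZ w), show w * u * w⁻¹ = c * u by rw [hc]; group, ← mul_assoc c c, hc2,
      one_mul]
  have hsq : ∀ w ∈ P, w * w ∈ center G := fun w hw => Classical.byContradiction fun hn =>
    hg (hP.trans h hns (mul_mem hw hw) hn hv' hv (sq_comm v' hv' hv'2 w hw).symm (sq_comm v hv hv2 w hw).symm)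
  -- outside `Wmod P` the commutators with `v` take at most two values
  have bound : ∀ s ∈ (S : Subgroup G), s ∉ Wmod P → ∀ w ∈ P, ∀ w' ∈ P, w * v ≠ v * w → w' * v ≠ v * w' →
      w⁻¹ * w' * v = v * (w⁻¹ * w') := by
    intro s hs hsW
    by_contra hc
    push Not at hc
    obtain ⟨w, hw, w', hw', hwv, hw'v, hd⟩ := hc
    -- the commutator with `v` modulo `fix`
    set c₀ := s * v * s⁻¹ * v⁻¹ with hc₀
    have hc₀Z := hvfix s hs
    have hgood : ∀ u ∈ P, (s * u) * v = v * (s * u) ∨ (s * u) * (s * u) ∈ center G := by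
      intro u hu
      by_cases hy : s * u * v = v * (s * u)
      · exact Or.inl hy
      refine Or.inr (Classical.byContradiction fun hn => hy ?_)
      obtain ⟨x, hx, hxy⟩ := hP.exists_noncomm h hns hn
      have hyS : s * u ∈ (S : Subgroup G) := mul_mem hs (hPS hu)
      have hy2v : v * (s * u * (s * u)) = s * u * (s * u) * v := by
        set c := u * v * u⁻¹ * v⁻¹ with hcu
        have hcZ := hP.comm u hu v hv
        have e1 : s * u * v * (s * u)⁻¹ = c * c₀ * v := by
          rw [show s * u * v * (s * u)⁻¹ = s * (u * v * u⁻¹) * s⁻¹ by group,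
            show u * v * u⁻¹ = c * v by rw [hcu]; group, show s * (c * v) * s⁻¹ = s * c * s⁻¹ * (s * v * s⁻¹) by group,
            conj_eq_of_comm (mem_center_iff.1 hcZ s), show s * v * s⁻¹ = c₀ * v by rw [hc₀]; group, ← mul_assoc]
        have hz := mul_mem hcZ hc₀Z
        have hz2 : c * c₀ * (c * c₀) = 1 := by
          have e2 : s * u * v * (s * u)⁻¹ * (s * u * v * (s * u)⁻¹) = v * v := by
            rw [show s * u * v * (s * u)⁻¹ * (s * u * v * (s * u)⁻¹) = s * u * (v * v) * (s * u)⁻¹ by group]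
            exact conj_eq_of_comm (mem_center_iff.1 hv2 (s * u))
          rw [e1, mul_assoc, central_swap (a := v) hz, ← mul_assoc] at e2
          exact mul_eq_right.1 e2
        refine (comm_eq_of_conj ?_).symm
        rw [show s * u * (s * u) * v * (s * u * (s * u))⁻¹ = s * u * (s * u * v * (s * u)⁻¹) * (s * u)⁻¹ by group,
          e1, show s * u * (c * c₀ * v) * (s * u)⁻¹ =
            s * u * (c * c₀) * (s * u)⁻¹ * (s * u * v * (s * u)⁻¹) by group,
          conj_eq_of_comm (mem_center_iff.1 hz (s * u)), e1, ← mul_assoc, hz2, one_mul]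
      exact (h.comm_of_mem (ne_top_of_solvable hns (haveI := S.isPGroup'.isNilpotent; inferInstance))
        (mul_mem hyS hyS) (hPS hx) hxy hyS (hPS hv) (by group) hy2v)
    have key : ∀ u ∈ P, ∀ d ∈ P, (s * u) * (s * u) ∈ center G → (s * u * d) * (s * u * d) ∈ center G →
        d * v ≠ v * d → False := by
      intro u hu d hd h1 h2 hdv
      have hyd : (s * u) * d * (s * u)⁻¹ * d⁻¹ ∈ center G := by
        set y := s * u with hy
        have h3 : y⁻¹ * d * y * d ∈ center G := by
          have := mul_mem (inv_mem h1) h2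
          rwa [show (y * y)⁻¹ * (y * d * (y * d)) = y⁻¹ * d * y * d by group] at this
        have h4 := (inferInstance : (center G).Normal).conj_mem _ h3 y
        rw [show y * (y⁻¹ * d * y * d) * y⁻¹ = d * (y * d * y⁻¹) by group] at h4
        have h5 := mul_mem h4 (inv_mem (hsq d hd))
        have h6 : (y * d * y⁻¹ * d⁻¹) = d⁻¹ * (d * (y * d * y⁻¹) * (d * d)⁻¹) * d := by group
        rw [h6]
        have := (inferInstance : (center G).Normal).conj_mem _ h5 d⁻¹
        rwa [inv_inv] at this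
      have hdfix : s * d * s⁻¹ * d⁻¹ ∈ center G := by
        set c := u * d * u⁻¹ * d⁻¹ with hcu
        have hcZ := hP.comm u hu d hd
        rw [show s * u * d * (s * u)⁻¹ = s * (u * d * u⁻¹) * s⁻¹ by group,
          show u * d * u⁻¹ = c * d by rw [hcu]; group, show s * (c * d) * s⁻¹ = s * c * s⁻¹ * (s * d * s⁻¹) by group,
          conj_eq_of_comm (mem_center_iff.1 hcZ s), mul_assoc c] at hyd
        exact (Subgroup.mul_mem_cancel_left _ hcZ).1 hyd
      have hdZ : d ∉ center G := fun hz => hdv (mem_center_iff.1 hz v).symm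
      refine hsW (mem_Wmod.2 fun x hx => ?_)
      set m := x⁻¹ * (s * x * s⁻¹) with hm
      have hmP : m ∈ P := mul_mem (inv_mem hx) (hP.normal.conj_mem x hx s)
      have hmZ : m ∈ center G := Classical.byContradiction fun hn => hdv
        (hP.trans h hns hmP hn hd hv (hP.fix_quot hd hdfix hx).symm (hP.fix_quot hv (hvfix s hs) hx).symm)
      rw [show s * x * s⁻¹ = x * m by rw [hm]; group, mem_center_iff.1 hmZ x, mul_inv_cancel_right]
      exact hmZ
    have hone : s * v ≠ v * s → s * s ∈ center G := fun hne => by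
      rcases hgood 1 P.one_mem with h0 | h0
      · rw [mul_one] at h0; exact absurd h0 hne
      · rwa [mul_one] at h0
    have hmix : ∀ u ∈ P, ∀ u' ∈ P, u * v ≠ v * u → u' * v ≠ v * u' → s * u * v = v * (s * u) →
        s * u' * (s * u') ∈ center G → False := by
      intro u hu u' hu' huv hu'v h1 h2
      refine key 1 P.one_mem u' hu' ?_ (by rwa [mul_one]) hu'v
      rw [mul_one]
      refine hone fun e => huv (mul_left_cancel (a := s) ?_)
      rw [← mul_assoc, h1, ← mul_assoc, ← e, mul_assoc]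
    rcases hgood w hw with h1 | h1 <;> rcases hgood w' hw' with h2 | h2
    · refine hd ?_
      rw [show w⁻¹ * w' = (s * w)⁻¹ * (s * w') by group]
      exact (((show Commute (s * w) v from h1).inv_left).mul_left h2).eq
    · exact hmix w hw w' hw' hwv hw'v h1 h2
    · exact hmix w' hw' w hw hw'v hwv h2 h1
    · exact key w hw (w⁻¹ * w') (mul_mem (inv_mem hw) hw') h1
        (by rwa [show s * w * (w⁻¹ * w') = s * w' by group]) hd
  by_cases hSW : (S : Subgroup G) ≤ Wmod P
  · refine hns (isSolvable_of_odd_index _ hW (Nat.not_even_iff_odd.1 fun he => ?_))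
    exact S.not_dvd_index (he.two_dvd.trans (index_dvd_of_le hSW))
  obtain ⟨s, hs, hsW⟩ := SetLike.not_le_iff_exists.1 hSW
  have bv := bound s hs hsW
  have bv' : ∀ w ∈ P, ∀ w' ∈ P, w * v' ≠ v' * w → w' * v' ≠ v' * w' → w⁻¹ * w' * v' = v' * (w⁻¹ * w') := by
    intro w hw w' hw' hwv hw'v
    have hback : ∀ x : G, g⁻¹ * x * g * v = v * (g⁻¹ * x * g) → x * v' = v' * x := fun x e => by
      rw [hv'def, show x * (g * v * g⁻¹) = g * (g⁻¹ * x * g * v) * g⁻¹ by group, e]; group
    have hc : ∀ x ∈ P, g⁻¹ * x * g ∈ P := fun x hx => by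
      have := hP.normal.conj_mem x hx g⁻¹
      rwa [inv_inv] at this
    have h1 := bv _ (hc w hw) _ (hc w' hw') (fun e => hwv (hback w e)) (fun e => hw'v (hback w' e))
    refine hback _ ?_
    rwa [show (g⁻¹ * w * g)⁻¹ * (g⁻¹ * w' * g) = g⁻¹ * (w⁻¹ * w') * g by group] at h1
  have hboth : ∀ x ∈ P, x * v = v * x → x * v' = v' * x → x ∈ center G := fun x hx h1 h2 =>
    Classical.byContradiction fun hn => hg (hP.trans h hns hx hn hv' hv h2.symm h1.symm)
  let π := QuotientGroup.mk' (center G)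
  have hcover : ∀ x ∈ P, π x = 1 ∨ π x = π v ∨ π x = π v' ∨ π x = π (v' * v) := by
    intro x hx
    have heq : ∀ a : G, a⁻¹ * x ∈ center G → π x = π a := fun a ha => by
      rw [show x = a * (a⁻¹ * x) by group, map_mul, (show π (a⁻¹ * x) = 1 from (QuotientGroup.eq_one_iff _).2 ha),
        mul_one]
    by_cases h1 : x * v = v * x <;> by_cases h2 : x * v' = v' * x
    · exact Or.inl ((QuotientGroup.eq_one_iff x).2 (hboth x hx h1 h2))
    · exact Or.inr (Or.inl (heq v (hboth _ (mul_mem (inv_mem hv) hx)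
        (((show Commute v v from rfl).inv_left.mul_left h1).eq) (bv' v hv x hx (fun e => hg e.symm) h2))))
    · exact Or.inr (Or.inr (Or.inl (heq v' (hboth _ (mul_mem (inv_mem hv') hx) (bv v' hv' x hx hg h1)
        (((show Commute v' v' from rfl).inv_left.mul_left h2).eq)))))
    · refine Or.inr (Or.inr (Or.inr (heq (v' * v) ?_)))
      have hy := mul_mem (inv_mem hv') hx
      have hyv : v'⁻¹ * x * v = v * (v'⁻¹ * x) := bv v' hv' x hx hg h1
      have hyv' : v'⁻¹ * x * v' ≠ v' * (v'⁻¹ * x) := fun e => h2 (by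
        rw [show x = v' * (v'⁻¹ * x) by group, mul_assoc, e, ← mul_assoc])
      rw [mul_inv_rev, mul_assoc]
      exact hboth _ (mul_mem (inv_mem hv) hy) (((show Commute v v from rfl).inv_left.mul_left hyv).eq)
        (bv' v hv _ hy (fun e => hg e.symm) hyv')
  let Pb := P.map π
  haveI : Pb.Normal := Subgroup.Normal.map hP.normal π (QuotientGroup.mk'_surjective _)
  let e4 : Bool × Bool → Pb := fun b => ⟨π ((if b.1 then v' else 1) * (if b.2 then v else 1)),
    mem_map_of_mem π (mul_mem (by split_ifs <;> simp [hv']) (by split_ifs <;> simp [hv]))⟩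
  have he4 : Function.Surjective e4 := by
    rintro ⟨_, x, hx, rfl⟩
    rcases hcover x hx with e | e | e | e
    · exact ⟨(false, false), Subtype.ext (by simpa [e4] using e.symm)⟩
    · exact ⟨(false, true), Subtype.ext (by simpa [e4] using e.symm)⟩
    · exact ⟨(true, false), Subtype.ext (by simpa [e4] using e.symm)⟩
    · exact ⟨(true, true), Subtype.ext (by simpa [e4] using e.symm)⟩
  have hcard : Nat.card Pb ≤ 4 := (Nat.card_le_card_of_surjective e4 he4).trans (by simp)
  let f : G →* Equiv.Perm Pb := (MulAut.toPerm Pb).comp (MulAut.conjNormal.comp π)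
  haveI : Group.IsSolvable (Equiv.Perm Pb) := by
    have h := Nat.card_perm (α := Pb)
    have hpos : 0 < Nat.card Pb := Nat.card_pos
    interval_cases hn : Nat.card Pb
    · exact Cfsg.Agent.S0144.result 2 3 0 0 Nat.prime_two Nat.prime_three (h.trans rfl)
    · exact Cfsg.Agent.S0144.result 2 3 1 0 Nat.prime_two Nat.prime_three (h.trans rfl)
    · exact Cfsg.Agent.S0144.result 2 3 1 1 Nat.prime_two Nat.prime_three (h.trans rfl)
    · exact Cfsg.Agent.S0144.result 2 3 3 1 Nat.prime_two Nat.prime_three (h.trans rfl)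
  have hker : f.ker ≤ Wmod P := fun a ha => mem_Wmod.2 fun x hx => by
    refine (QuotientGroup.eq_one_iff _).1 ?_
    have h1 := congrArg (fun σ : Equiv.Perm Pb => ((σ ⟨π x, mem_map_of_mem π hx⟩ : Pb) : G ⧸ center G))
      (MonoidHom.mem_ker.1 ha)
    have h2 : π a * π x * (π a)⁻¹ = π x := h1
    show π (a * x * a⁻¹ * x⁻¹) = 1
    rw [map_mul, map_mul, map_mul, map_inv, map_inv, h2, mul_inv_cancel]
  haveI : Group.IsSolvable f.ker := Grp.isSolvable_of_le hker hW
  exact hns (solvable_of_ker_le_range f.ker.subtype f (by rw [range_subtype]))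

end ClassTwo

/-- The solvable radical is central. -/
theorem radical_le_center (h : SubCA G) (hns : ¬ Group.IsSolvable G) (N : Subgroup G) [hNn : N.Normal]
    (hN : Group.IsSolvable N) : N ≤ center G := by
  classical
  by_contra hNZ
  have hex : ∃ n, ∃ B : Subgroup G, B.Normal ∧ Group.IsSolvable B ∧ ¬ B ≤ center G ∧ Nat.card B = n :=
    ⟨_, N, hNn, hN, hNZ, rfl⟩
  obtain ⟨B, hBn, hBs, hBZ, hBc⟩ := Nat.find_spec hex
  have hmin : ∀ B' : Subgroup G, B'.Normal → B' < B → B' ≤ center G := fun B' hn hlt =>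
    Classical.byContradiction fun hc => Nat.find_min hex
      (hBc ▸ lt_of_le_of_ne (card_le_of_le hlt.le) fun e => hlt.ne (eq_of_le_of_card_ge hlt.le e.ge))
      ⟨B', hn, Grp.isSolvable_of_le hlt.le hBs, hc, rfl⟩
  haveI := hBn
  have hBne : B ≠ ⊥ := fun e => hBZ (e ▸ bot_le)
  have hder : ⁅B, B⁆ ≤ center G := hmin _ inferInstance (Grp.commutator_lt_self_of_solvable hBs hBne)
  have hcomm : ∀ a ∈ B, ∀ b ∈ B, a * b * a⁻¹ * b⁻¹ ∈ center G := fun a ha b hb =>
    hder (commutator_mem_commutator ha hb)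
  haveI hnil : Group.IsNilpotent B := by
    refine Grp.isNilpotent_of_commutator_le_center (G := B) ?_
    rw [_root_.commutator_def, commutator_le]
    intro a _ b _
    exact mem_center_iff.2 fun c => Subtype.ext (mem_center_iff.1 (hcomm a a.2 b b.2) (c : G))
  -- some Sylow subgroup is not central
  obtain ⟨p, hp, Q, hQ⟩ : ∃ p : ℕ, p.Prime ∧ ∃ Q : Sylow p B, ¬ (Q : Subgroup B).map B.subtype ≤ center G := by
    by_contra hc
    push Not at hc
    refine hBZ fun b hb => MaxNorm.mem_of_prime_parts _ b fun p k hp hpk => ?_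
    haveI := Fact.mk hp
    have hpow : ((⟨b, hb⟩ : B) ^ (orderOf b / p ^ k)) ^ p ^ k = 1 := Subtype.ext (by
      show (b ^ (orderOf b / p ^ k)) ^ p ^ k = 1
      rw [← pow_mul, Nat.div_mul_cancel hpk, pow_orderOf_eq_one])
    have hP : IsPGroup p (zpowers ((⟨b, hb⟩ : B) ^ (orderOf b / p ^ k))) := by
      obtain ⟨j, -, hj⟩ := (Nat.dvd_prime_pow hp).1 (orderOf_dvd_of_pow_eq_one hpow)
      exact IsPGroup.of_card (n := j) (by rw [Nat.card_zpowers, hj])
    obtain ⟨Q, hQ⟩ := hP.exists_le_sylow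
    exact hc p hp Q ⟨_, hQ (mem_zpowers _), rfl⟩
  haveI := Fact.mk hp
  haveI : (Q : Subgroup B).Normal := Sylow.normal_of_normalizerCondition Group.normalizerCondition_of_isNilpotent Q
  haveI : (Q : Subgroup B).Characteristic := Sylow.characteristic_of_normal Q inferInstance
  set P := (Q : Subgroup B).map B.subtype
  have hPB : P ≤ B := map_subtype_le _
  have hPn : P.Normal := Grp.normal_of_characteristic_map _
  have hPC : ClassTwo P := ⟨hPn, Grp.isSolvable_of_le hPB hBs, fun a ha b hb => hcomm a (hPB ha) b (hPB hb), hQ⟩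
  have hPp : IsPGroup p P := Q.isPGroup'.map _
  rcases hp.eq_two_or_odd' with rfl | hodd
  · exact hPC.two_case h hns hPp
  · exact hPC.odd_case h hns hodd hPp

end Cfsg.Agent.Invol.MinNonCA
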