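import Cfsg.Agent.Lib.Invol.MinNonCA.Mod

/-!
# Abelian normal subgroups are central (for S4369)
-/

set_option autoImplicit false
set_option linter.style.haveILetI false

namespace Cfsg.Agent.Invol.MinNonCA

open Subgroup

universe u

variable {G : Type u} [Group G] [Finite G]

theorem ne_top_of_solvable (hns : ¬ Group.IsSolvable G) {H : Subgroup G} (h : Group.IsSolvable H) : H ≠ ⊤ :=
  fun e => hns (Grp.isSolvable_of_injective (topEquiv (G := G)).symm.toMonoidHom (MulEquiv.injective _) (e ▸ h))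

/-- If `W` has odd index then `G` is solvable; otherwise there is an involution modulo `W` which is a
2-element. -/
theorem exists_two_element {W : Subgroup G} [W.Normal] (hns : ¬ Group.IsSolvable G) (hW : Group.IsSolvable W) :
    ∃ t : G, t ∉ W ∧ t * t ∈ W ∧ ∃ k : ℕ, t ^ 2 ^ k = 1 := by
  have hne : Even W.index := Nat.not_odd_iff_even.1 fun ho => hns (isSolvable_of_odd_index W hW ho)
  haveI : Fact (Nat.Prime 2) := ⟨Nat.prime_two⟩
  obtain ⟨q, hq⟩ := exists_prime_orderOf_dvd_card' (G := G ⧸ W) 2 (by rw [← index_eq_card]; exact hne.two_dvd)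
  obtain ⟨g, rfl⟩ := QuotientGroup.mk'_surjective W q
  obtain ⟨e, k, he, hk⟩ := Grp.Pyramidal.exists_two_part g 1
  have hq2 : (QuotientGroup.mk' W g) ^ 2 ^ 1 = 1 := by rw [pow_one, ← hq, pow_orderOf_eq_one]
  have hge : QuotientGroup.mk' W (g ^ e) = QuotientGroup.mk' W g := by
    rw [map_pow]
    exact Grp.Pyramidal.pow_of_modEq hq2 he
  refine ⟨g ^ e, fun h => ?_, ?_, k, hk⟩
  · rw [show QuotientGroup.mk' W g = 1 from hge ▸ (QuotientGroup.eq_one_iff (g ^ e)).2 h, orderOf_one] at hq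
    omega
  · rw [← QuotientGroup.eq_one_iff, ← QuotientGroup.mk'_apply, map_mul, hge, ← pow_two]
    rwa [pow_one] at hq2

theorem orderOf_odd_of_pow {p k : ℕ} (hp : Odd p) {x : G} (h : x ^ p ^ k = 1) : Odd (orderOf x) :=
  (hp.pow).of_dvd_nat (orderOf_dvd_of_pow_eq_one h)

theorem mem_of_sq_mem {K : Subgroup G} {x : G} (hx : Odd (orderOf x)) (h : x * x ∈ K) : x ∈ K := by
  obtain ⟨j, hj⟩ := hx
  have he : x = (x * x) ^ (j + 1) := by
    rw [← pow_two, ← pow_mul, show 2 * (j + 1) = orderOf x + 1 by omega, pow_succ, pow_orderOf_eq_one, one_mul]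
  rw [he]
  exact pow_mem h _

theorem eq_one_of_pow_coprime {x : G} {a b : ℕ} (ha : x ^ a = 1) (hb : x ^ b = 1) (h : a.Coprime b) : x = 1 :=
  orderOf_eq_one_iff.1 (Nat.eq_one_of_dvd_coprimes h (orderOf_dvd_of_pow_eq_one ha) (orderOf_dvd_of_pow_eq_one hb))

/-- An involution modulo the centre inverting a normal subgroup modulo the centre is impossible. -/
theorem not_inverts (h : SubCA G) (hns : ¬ Group.IsSolvable G) {P : Subgroup G} [P.Normal]
    (hPs : Group.IsSolvable P) (hW : Group.IsSolvable (Wmod P))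
    (hW2 : ∀ w ∈ Wmod P, ∀ k : ℕ, w ^ 2 ^ k = 1 → w ∈ center G) {t : G} (htW : t ∉ Wmod P) {k : ℕ}
    (ht2 : t ^ 2 ^ k = 1) (htt : t * t ∈ center G)
    (hinv : ∀ v ∈ P, t * v * t⁻¹ * v ∈ center G) : False := by
  haveI : Fact (Nat.Prime 2) := ⟨Nat.prime_two⟩
  haveI := wmod_normal P
  obtain ⟨v, hvP, hvt⟩ : ∃ v ∈ P, t * v ≠ v * t := by
    by_contra hc
    push Not at hc
    exact htW (mem_Wmod.2 fun v hv => by rw [conj_eq_of_comm (hc v hv), mul_inv_cancel]; exact one_mem _)
  -- conjugates of `t` lie in its coset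
  have hconj : ∀ g : G, t⁻¹ * (g * t * g⁻¹) ∈ Wmod P := fun g => by
    refine mem_Wmod.2 fun u hu => ?_
    have hu' : g⁻¹ * u * g ∈ P := by
      have := (inferInstance : P.Normal).conj_mem u hu g⁻¹
      rwa [inv_inv] at this
    have h1 : g * t * g⁻¹ * u * (g * t * g⁻¹)⁻¹ * u ∈ center G := by
      have := (inferInstance : (center G).Normal).conj_mem _ (hinv _ hu') g
      rwa [show g * (t * (g⁻¹ * u * g) * t⁻¹ * (g⁻¹ * u * g)) * g⁻¹ =
        g * t * g⁻¹ * u * (g * t * g⁻¹)⁻¹ * u by group] at this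
    have hw : t⁻¹ * u⁻¹ * t ∈ P := by
      have := (inferInstance : P.Normal).conj_mem u⁻¹ (P.inv_mem hu) t⁻¹
      rwa [inv_inv] at this
    have h2 : u * (t⁻¹ * u * t) ∈ center G := by
      have := inv_mem (hinv _ hw)
      rw [show (t * (t⁻¹ * u⁻¹ * t) * t⁻¹ * (t⁻¹ * u⁻¹ * t))⁻¹ = t⁻¹ * u * t * u by group] at this
      have := (inferInstance : (center G).Normal).conj_mem _ this u
      rwa [show u * (t⁻¹ * u * t * u) * u⁻¹ = u * (t⁻¹ * u * t) by group] at this
    -- write both images of `u` as central multiples of inverses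
    set z1 := g * t * g⁻¹ * u * (g * t * g⁻¹)⁻¹ * u with hz1
    set z2 := u * (t⁻¹ * u * t) with hz2
    have hz : t⁻¹ * z1 * t = z1 := by
      rw [mul_assoc, ← mem_center_iff.1 h1 t, ← mul_assoc, inv_mul_cancel, one_mul]
    have e : t⁻¹ * (g * t * g⁻¹) * u * (t⁻¹ * (g * t * g⁻¹))⁻¹ * u⁻¹ = (t⁻¹ * z1 * t) * z2⁻¹ := by
      rw [hz1, hz2]; group
    rw [e, hz]
    exact mul_mem h1 (inv_mem h2)
  set J := Wmod P ⊔ zpowers t with hJ
  have hJs : Group.IsSolvable J := isSolvable_sup hW inferInstance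
  haveI hJn : J.Normal := by
    refine ⟨fun x hx g => ?_⟩
    have hle : J ≤ J.comap (MulAut.conj g).toMonoidHom := sup_le (fun w hw =>
        mem_sup_left ((wmod_normal P).conj_mem w hw g)) (zpowers_le.2 ?_)
    · exact hle hx
    · show g * t * g⁻¹ ∈ J
      have := mul_mem (mem_sup_right (mem_zpowers t) : t ∈ J) (mem_sup_left (hconj g))
      rwa [mul_inv_cancel_left] at this
  have htJ : t ∈ J := mem_sup_right (mem_zpowers t)
  have hpart : ∀ j ∈ J, j ∈ Wmod P ∨ j * t⁻¹ ∈ Wmod P := by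
    intro j hj
    obtain ⟨w, hw, x, hx, rfl⟩ := mem_sup_of_normal_left.1 hj
    obtain ⟨i, rfl⟩ := mem_zpowers_iff.1 hx
    have htc : t * t ∈ Wmod P := mem_Wmod.2 fun u _ => by
      rw [conj_eq_of_comm (mem_center_iff.1 htt u).symm, mul_inv_cancel]; exact one_mem _
    rcases Int.even_or_odd' i with ⟨c, rfl | rfl⟩
    · left
      rw [zpow_mul, zpow_two]
      exact mul_mem hw (zpow_mem htc c)
    · right
      rw [zpow_add_one, zpow_mul, zpow_two, ← mul_assoc, mul_inv_cancel_right]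
      exact mul_mem hw (zpow_mem htc c)
  -- a Sylow subgroup of `J` through `t`
  have htp : IsPGroup 2 (zpowers (⟨t, htJ⟩ : J)) := by
    obtain ⟨j, -, hj⟩ := (Nat.dvd_prime_pow Nat.prime_two).1
      (orderOf_dvd_of_pow_eq_one (show (⟨t, htJ⟩ : J) ^ 2 ^ k = 1 from Subtype.ext ht2))
    exact IsPGroup.of_card (n := j) (by rw [Nat.card_zpowers, hj])
  obtain ⟨T, hT⟩ := htp.exists_le_sylow
  have htT : (⟨t, htJ⟩ : J) ∈ (T : Subgroup J) := hT (mem_zpowers _)
  have hTW : ∀ y ∈ (T : Subgroup J), (y : G) ∈ Wmod P → (y : G) ∈ center G := fun y hy hyW => by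
    obtain ⟨m, hm⟩ := T.isPGroup' ⟨y, hy⟩
    exact hW2 y hyW m (congrArg (fun z : (T : Subgroup J) => ((z : J) : G)) hm)
  set N := normalizer (((T : Subgroup J).map J.subtype : Subgroup G) : Set G)
  have hNJ : N ≤ Jz t := fun n hn => by
    obtain ⟨y, hy, hyn⟩ := ((mem_normalizer_iff.1 hn t).1 ⟨⟨t, htJ⟩, htT, rfl⟩ :
      n * t * n⁻¹ ∈ (T : Subgroup J).map J.subtype)
    have hyn' : (y : G) = n * t * n⁻¹ := hyn
    rcases hpart _ y.2 with h1 | h1
    · exfalso
      rw [hyn'] at h1
      have h2 := (wmod_normal P).conj_mem _ h1 n⁻¹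
      rw [inv_inv, show n⁻¹ * (n * t * n⁻¹) * n = t by group] at h2
      exact htW h2
    · have h2 := hTW (y * (⟨t, htJ⟩ : J)⁻¹) (mul_mem hy (inv_mem htT)) h1
      rw [mem_Jz]
      show n * t * n⁻¹ * t⁻¹ ∈ center G
      rw [← hyn']
      exact h2
  have hfr : N ⊔ J = ⊤ := Sylow.normalizer_sup_eq_top T
  by_cases hC : Group.IsSolvable (centralizer ({t} : Set G))
  · refine hns (Grp.isSolvable_of_injective (topEquiv (G := G)).symm.toMonoidHom (MulEquiv.injective _) ?_)
    rw [← hfr, sup_comm]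
    exact isSolvable_sup hJs (Grp.isSolvable_of_le hNJ (isSolvable_jz hC))
  obtain ⟨N₀, hN₀C, hN₀s, a, ha, b, hb, hab⟩ := exists_solvable_noncomm _ hC
  have hN₀t : N₀ ≤ normalizer (zpowers t : Set G) := fun n hn => by
    refine Grp.Wielandt.mem_normalizer_of_le ?_
    rw [← Grp.map_conj_eq_smul, MonoidHom.map_zpowers, zpowers_le]
    show n * t * n⁻¹ ∈ _
    rw [conj_eq_of_comm (mem_centralizer_singleton_iff.1 (hN₀C hn))]
    exact mem_zpowers t
  set H := P ⊔ (zpowers t ⊔ N₀)
  have hH : H ≠ ⊤ :=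
    ne_top_of_solvable hns (isSolvable_sup hPs (isSolvable_sup_normalizer hN₀t inferInstance hN₀s))
  exact hab (h.comm_of_mem hH (mem_sup_right (mem_sup_left (mem_zpowers t))) (mem_sup_left hvP) hvt
    (mem_sup_right (mem_sup_right ha)) (mem_sup_right (mem_sup_right hb))
    (mem_centralizer_singleton_iff.1 (hN₀C ha)) (mem_centralizer_singleton_iff.1 (hN₀C hb)))

/-- The centraliser of an abelian normal subgroup is as large as possible. -/
def MaxCent (A : Subgroup G) : Prop :=
  ∀ B : Subgroup G, B.Normal → IsMulCommutative B → ¬ B ≤ center G →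
    centralizer (A : Set G) ≤ centralizer (B : Set G) → centralizer (B : Set G) = centralizer (A : Set G)

omit [Finite G] in
theorem comm_of_isMulCommutative {A : Subgroup G} (hA : IsMulCommutative A) {a b : G} (ha : a ∈ A) (hb : b ∈ A) :
    a * b = b * a :=
  congrArg Subtype.val (hA.is_comm.comm ⟨a, ha⟩ ⟨b, hb⟩)

/-- The centraliser of an abelian noncentral normal subgroup is abelian. -/
theorem abelian_centralizer (h : SubCA G) (hns : ¬ Group.IsSolvable G) {A : Subgroup G} [A.Normal]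
    (hA : IsMulCommutative A) (hAZ : ¬ A ≤ center G) :
    IsMulCommutative (centralizer (A : Set G)) := by
  haveI : Fact (Nat.Prime 2) := ⟨Nat.prime_two⟩
  set C := centralizer (A : Set G) with hC
  have hAC : A ≤ C := fun a ha => mem_centralizer_iff.2 fun b hb => comm_of_isMulCommutative hA hb ha
  obtain ⟨a, ha, haZ⟩ := SetLike.not_le_iff_exists.1 hAZ
  have haC : ∀ c ∈ C, c * a = a * c := fun c hc => (mem_centralizer_iff.1 hc a ha).symm
  have hCs : Group.IsSolvable C := by
    obtain ⟨S⟩ : Nonempty (Sylow 2 C) := inferInstance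
    set N := normalizer (((S : Subgroup C).map C.subtype : Subgroup G) : Set G)
    have hfr : N ⊔ C = ⊤ := Sylow.normalizer_sup_eq_top S
    by_cases hN : N = ⊤
    · haveI : (S : Subgroup C).Normal := by
        refine ⟨fun x hx g => ?_⟩
        obtain ⟨y, hy, hyx⟩ := ((mem_normalizer_iff.1 (hN ▸ mem_top (g : G) : (g : G) ∈ N) (x : G)).1 ⟨x, hx, rfl⟩ :
          (g : G) * x * (g : G)⁻¹ ∈ (S : Subgroup C).map C.subtype)
        rwa [show g * x * g⁻¹ = y from Subtype.ext hyx.symm]
      haveI := S.isPGroup'.isNilpotent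
      exact isSolvable_of_odd_index (S : Subgroup C) inferInstance
        (Nat.not_even_iff_odd.1 fun he => S.not_dvd_index he.two_dvd)
    have hCN : ∀ c, c ∈ A → c ∈ N := fun c hc => by
      refine mem_normalizer_iff.2 fun y => ?_
      have hfix : ∀ z ∈ (S : Subgroup C).map C.subtype, c * z * c⁻¹ = z := fun z hz =>
        conj_eq_of_comm (mem_centralizer_iff.1 (map_subtype_le _ hz) c hc)
      constructor
      · intro hy
        rwa [hfix y hy]
      · intro hy
        have h1 := hfix _ hy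
        rwa [show y = c * y * c⁻¹ by
          have h2 : c⁻¹ * (c * (c * y * c⁻¹) * c⁻¹) * c = c⁻¹ * (c * y * c⁻¹) * c := by rw [h1]
          simpa [mul_assoc] using h2.symm]
    exact isSolvable_of_burnside S fun n hn => mem_centralizer_iff.2 fun y hy => Subtype.ext <| by
      have hmapN : ∀ m ∈ normalizer ((S : Subgroup C) : Set C), (m : G) ∈ N := fun m hm =>
        le_normalizer_map C.subtype ⟨m, hm, rfl⟩
      obtain ⟨g, hg, hgy⟩ : ∃ g ∈ N, a * g ≠ g * a := by
        by_contra hc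
        push Not at hc
        refine haZ (mem_center_iff.2 fun g => ?_)
        obtain ⟨c, hc', m, hm, rfl⟩ := mem_sup_of_normal_left.1
          ((sup_comm N C).symm.trans (by rfl) ▸ hfr ▸ mem_top g : g ∈ C ⊔ N)
        rw [mul_assoc, ← hc m hm, ← mul_assoc, haC c hc', mul_assoc]
      exact h.comm_of_mem hN (hCN a ha) hg hgy (hmapN y (le_normalizer hy)) (hmapN n hn)
        (haC _ y.2) (haC _ n.2)
  refine ⟨⟨fun c d => Subtype.ext ?_⟩⟩
  obtain ⟨g, hg⟩ : ∃ g : G, a * g ≠ g * a := by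
    by_contra hc
    push Not at hc
    exact haZ (mem_center_iff.2 fun g => (hc g).symm)
  exact h.comm_of_mem (ne_top_of_solvable hns (isSolvable_sup hCs (inferInstance : Group.IsSolvable (zpowers g))))
    (mem_sup_left (hAC ha)) (mem_sup_right (mem_zpowers g)) hg (mem_sup_left c.2) (mem_sup_left d.2)
    (haC _ c.2) (haC _ d.2)

/-- A 2-element fixing a noncentral element of `A` centralises `A`. -/
theorem fix_le (h : SubCA G) (hns : ¬ Group.IsSolvable G) {A : Subgroup G} [A.Normal] (hA : IsMulCommutative A)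
    (hAZ : ¬ A ≤ center G) (hmax : MaxCent A) {x a : G} {k : ℕ} (hx : x ^ 2 ^ k ∈ centralizer (A : Set G))
    (ha : a ∈ A) (hxa : x * a = a * x) (haZ : a ∉ center G) : x ∈ centralizer (A : Set G) := by
  set C := centralizer (A : Set G) with hC
  haveI : C.Normal := inferInstance
  have hCs : Group.IsSolvable C := Group.isSolvable_of_comm fun c d =>
    (abelian_centralizer h hns hA hAZ).is_comm.comm c d
  have key : ∀ t : G, t * t ∈ C → t * a = a * t → t ∈ C := by
    intro t ht hta
    by_contra htC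
    set S : Set G := {u | u * u ∈ C}
    set F := A ⊓ centralizer S with hF
    haveI : F.Normal := by
      refine ⟨fun f hf g => ⟨(inferInstance : A.Normal).conj_mem f hf.1 g, mem_centralizer_iff.2 fun u hu => ?_⟩⟩
      have hu' : g⁻¹ * u * g ∈ S := by
        show g⁻¹ * u * g * (g⁻¹ * u * g) ∈ C
        have := (inferInstance : C.Normal).conj_mem _ hu g⁻¹
        rwa [inv_inv, show g⁻¹ * (u * u) * g = g⁻¹ * u * g * (g⁻¹ * u * g) by group] at this
      have h2 := mem_centralizer_iff.1 hf.2 _ hu'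
      calc u * (g * f * g⁻¹) = g * ((g⁻¹ * u * g) * f) * g⁻¹ := by group
        _ = g * (f * (g⁻¹ * u * g)) * g⁻¹ := by rw [h2]
        _ = g * f * g⁻¹ * u := by group
    have haF : a ∈ F := by
      refine ⟨ha, mem_centralizer_iff.2 fun u hu => Classical.byContradiction fun hua => htC ?_⟩
      set H := (closure ({QuotientGroup.mk' C t, QuotientGroup.mk' C u} : Set (G ⧸ C))).comap (QuotientGroup.mk' C)
      have hHs : Group.IsSolvable H := isSolvable_comap C hCs (isSolvable_pair
        (by rw [← map_mul]; exact (QuotientGroup.eq_one_iff _).2 ht)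
        (by rw [← map_mul]; exact (QuotientGroup.eq_one_iff _).2 hu))
      have hCH : C ≤ H := le_trans (fun c hc => by
        rw [MonoidHom.mem_ker, QuotientGroup.mk'_apply, QuotientGroup.eq_one_iff]; exact hc)
        (MonoidHom.ker_le_comap _ _)
      refine mem_centralizer_iff.2 fun b hb => ?_
      have haC : a ∈ C := mem_centralizer_iff.2 fun b hb => comm_of_isMulCommutative hA hb ha
      exact (h.comm_of_mem (ne_top_of_solvable hns hHs) (hCH haC)
        (mem_comap.2 (subset_closure (Or.inr rfl))) (fun e => hua e.symm)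
        (mem_comap.2 (subset_closure (Or.inl rfl)))
        (hCH (mem_centralizer_iff.2 fun b' hb' => comm_of_isMulCommutative hA hb' hb)) hta
        (comm_of_isMulCommutative hA hb ha)).symm
    have hFZ : ¬ F ≤ center G := fun hle => haZ (hle haF)
    have h1 := hmax F inferInstance ⟨⟨fun f g => Subtype.ext (comm_of_isMulCommutative hA f.2.1 g.2.1)⟩⟩ hFZ
      (centralizer_le inf_le_left)
    refine htC (h1.le (mem_centralizer_iff.2 fun f hf => ?_))
    exact (mem_centralizer_iff.1 hf.2 t ht).symm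
  induction k with
  | zero => rwa [pow_zero, pow_one] at hx
  | succ k ih =>
    refine ih (key _ ?_ ?_)
    · rwa [← pow_add, ← two_mul, ← pow_succ']
    · exact ((show Commute x a from hxa).pow_left _).eq

/-- Abelian normal 2-subgroups are central. -/
theorem two_core_central (h : SubCA G) (hns : ¬ Group.IsSolvable G) {A : Subgroup G} [A.Normal]
    (hA : IsMulCommutative A) (hA2 : IsPGroup 2 A) (hmax : MaxCent A) : A ≤ center G := by
  by_contra hAZ
  haveI : Fact (Nat.Prime 2) := ⟨Nat.prime_two⟩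
  set C := centralizer (A : Set G) with hC
  let V : Subgroup G :=
    { carrier := {c | c ∈ A ∧ c * c ∈ center G}
      one_mem' := ⟨one_mem A, by rw [one_mul]; exact one_mem _⟩
      mul_mem' := by
        rintro c d ⟨hc, hc'⟩ ⟨hd, hd'⟩
        refine ⟨mul_mem hc hd, ?_⟩
        rw [mul_assoc, ← mul_assoc d c d, comm_of_isMulCommutative hA hd hc, mul_assoc c d d, ← mul_assoc]
        exact mul_mem hc' hd'
      inv_mem' := by
        rintro c ⟨hc, hc'⟩
        exact ⟨inv_mem hc, by rw [← mul_inv_rev]; exact inv_mem hc'⟩ }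
  have hVn : V.Normal := ⟨fun c hc g => ⟨(inferInstance : A.Normal).conj_mem c hc.1 g, by
    have := (inferInstance : (center G).Normal).conj_mem _ hc.2 g
    rwa [show g * (c * c) * g⁻¹ = g * c * g⁻¹ * (g * c * g⁻¹) by group] at this⟩⟩
  have hVA : V ≤ A := fun c hc => hc.1
  have hVZ : ¬ V ≤ center G := by
    obtain ⟨a, ha, haZ⟩ := SetLike.not_le_iff_exists.1 hAZ
    obtain ⟨j, hj⟩ := hA2 ⟨a, ha⟩
    have hj' : a ^ 2 ^ j ∈ center G := by
      rw [show a ^ 2 ^ j = 1 from congrArg Subtype.val hj]; exact one_mem _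
    clear hj
    induction j generalizing a with
    | zero => exact absurd (by rwa [pow_zero, pow_one] at hj') haZ
    | succ j ih =>
      by_cases h2 : a * a ∈ center G
      · exact fun hle => haZ (hle ⟨ha, h2⟩)
      · exact ih (a * a) (mul_mem ha ha) h2 (by rwa [← pow_two, ← pow_mul, ← pow_succ'])
  have hVC : centralizer (V : Set G) = C :=
    hmax V hVn ⟨⟨fun c d => Subtype.ext (comm_of_isMulCommutative hA c.2.1 d.2.1)⟩⟩ hVZ (centralizer_le hVA)
  haveI := hVn
  haveI := wmod_normal V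
  have hCs : Group.IsSolvable (centralizer (V : Set G)) := hVC ▸ Group.isSolvable_of_comm fun c d =>
    (abelian_centralizer h hns hA hAZ).is_comm.comm c d
  -- every 2-element lies in `Wmod V`
  have hinvol : ∀ t : G, t * t ∈ C → t ∉ C → t ∈ Wmod V := fun t ht htC => by
    refine mem_Wmod.2 fun c hc => ?_
    have hcA := hVA hc
    have hcA' : t * c * t⁻¹ ∈ A := (inferInstance : A.Normal).conj_mem c hcA t
    have hfix : c * (t * c * t⁻¹) ∈ center G := Classical.byContradiction fun hn => htC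
      (fix_le h hns hA hAZ hmax (k := 1) (by rwa [pow_one, pow_two]) (mul_mem hcA hcA') (by
        have h2 : t * t * c * (t * t)⁻¹ = c := conj_eq_of_comm (mem_centralizer_iff.1 ht c hcA).symm
        refine comm_eq_of_conj ?_
        rw [show t * (c * (t * c * t⁻¹)) * t⁻¹ = t * c * t⁻¹ * (t * t * c * (t * t)⁻¹) by group, h2]
        exact comm_of_isMulCommutative hA hcA' hcA) hn)
    rw [show t * c * t⁻¹ * c⁻¹ = c⁻¹ * (c * (t * c * t⁻¹)) * c⁻¹ by group, mul_assoc,
      ← mem_center_iff.1 hfix c⁻¹, ← mul_assoc, ← mul_inv_rev]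
    exact mul_mem (inv_mem hc.2) hfix
  obtain ⟨q, hqW, hqq, k, hk⟩ := exists_two_element hns (isSolvable_wmod hCs)
  have hqC : q ∉ C := fun hq => hqW (mem_Wmod.2 fun c hc => by
    rw [conj_eq_of_comm (mem_centralizer_iff.1 hq c (hVA hc)).symm, mul_inv_cancel]; exact one_mem _)
  have hqq' : q * q ∉ C := fun hc => hqW (hinvol q hc hqC)
  -- `q` fixes some element of `V` modulo the centre
  obtain ⟨d, hd, hdZ, hdq⟩ : ∃ d ∈ V, d ∉ center G ∧ q * d * q⁻¹ * d⁻¹ ∈ center G := by
    by_contra hc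
    push Not at hc
    refine hqW (mem_Wmod.2 fun c hcV => ?_)
    have hc' : q * c * q⁻¹ ∈ V := hVn.conj_mem c hcV q
    set d := c * (q * c * q⁻¹) with hd
    have hdV : d ∈ V := mul_mem hcV hc'
    by_cases hdZ : d ∈ center G
    · rw [show q * c * q⁻¹ * c⁻¹ = c⁻¹ * d * c⁻¹ by rw [hd]; group, mul_assoc, ← mem_center_iff.1 hdZ c⁻¹,
        ← mul_assoc, ← mul_inv_rev]
      exact mul_mem (inv_mem hcV.2) hdZ
    refine absurd ?_ (hc d hdV hdZ)
    have hq2 := mem_Wmod.1 hqq c hcV
    set z := q * q * c * (q * q)⁻¹ * c⁻¹ with hz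
    rw [show q * d * q⁻¹ * d⁻¹ = q * c * q⁻¹ * (q * q * c * (q * q)⁻¹) * (q * c * q⁻¹)⁻¹ * c⁻¹ by rw [hd]; group,
      show q * q * c * (q * q)⁻¹ = z * c by rw [hz]; group,
      comm_of_isMulCommutative hA (hVA hc') (mul_mem (hVA (mul_mem (hVn.conj_mem c hcV (q * q)) (inv_mem hcV)) ) (hVA hcV))]
    rwa [mul_assoc (z * c), mul_inv_cancel, mul_one, mul_inv_cancel_right]
  -- hence `q²` fixes that element
  refine hqq' (fix_le h hns hA hAZ hmax (k := k) ?_ (hVA hd) ?_ hdZ)
  · rw [← pow_two, ← pow_mul, mul_comm, pow_mul, hk, one_pow]; exact one_mem _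
  · set z := q * d * q⁻¹ * d⁻¹ with hz
    have hzc : ∀ y, y * z = z * y := mem_center_iff.1 hdq
    have e1 : q * d * q⁻¹ = z * d := by rw [hz]; group
    have hz2 : z * z = 1 := by
      have e2 : q * d * q⁻¹ * (q * d * q⁻¹) = d * d := by
        rw [show q * d * q⁻¹ * (q * d * q⁻¹) = q * (d * d) * q⁻¹ by group]
        exact conj_eq_of_comm (mem_center_iff.1 hd.2 q)
      rw [e1, show z * d * (z * d) = z * (d * z) * d by group, hzc d, show z * (z * d) * d = z * z * (d * d) by group]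
        at e2
      exact mul_eq_right.1 e2
    refine comm_eq_of_conj ?_
    rw [show q * q * d * (q * q)⁻¹ = q * (q * d * q⁻¹) * q⁻¹ by group, e1,
      show q * (z * d) * q⁻¹ = q * z * q⁻¹ * (q * d * q⁻¹) by group, conj_eq_of_comm (hzc q), e1, ← mul_assoc, hz2,
      one_mul]

/-- Abelian normal subgroups of odd prime power order are central. -/
theorem odd_core_central (h : SubCA G) (hns : ¬ Group.IsSolvable G) {A : Subgroup G} [A.Normal]
    (hA : IsMulCommutative A) {p : ℕ} (hp : Odd p) (hAp : IsPGroup p A) (hmax : MaxCent A)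
    (hC2 : ∀ c ∈ centralizer (A : Set G), ∀ k : ℕ, c ^ 2 ^ k = 1 → c ∈ center G) : A ≤ center G := by
  by_contra hAZ
  set C := centralizer (A : Set G) with hC
  haveI := wmod_normal A
  have hodd : ∀ a ∈ A, Odd (orderOf a) := fun a ha => by
    obtain ⟨j, hj⟩ := hAp ⟨a, ha⟩
    exact orderOf_odd_of_pow hp (congrArg Subtype.val hj)
  have hW := isSolvable_wmod (P := A) (Group.isSolvable_of_comm fun c d =>
    (abelian_centralizer h hns hA hAZ).is_comm.comm c d)
  have hW2 : ∀ w ∈ Wmod A, ∀ k : ℕ, w ^ 2 ^ k = 1 → w ∈ center G := fun w hw k hk => by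
    refine hC2 w (mem_centralizer_iff.2 fun a ha => (comm_eq_of_conj ?_).symm) k hk
    have hz := mem_Wmod.1 hw a ha
    obtain ⟨j, hj⟩ := hAp ⟨a, ha⟩
    have hj' : a ^ p ^ j = 1 := congrArg Subtype.val hj
    have h1 : (w * a * w⁻¹ * a⁻¹) ^ 2 ^ k = 1 := by
      rw [← jz_pow (mem_Wmod.1 hw a ha : w ∈ Jz a), hk]
      group
    have h2 : (w * a * w⁻¹ * a⁻¹) ^ p ^ j = 1 := by
      have hcm : Commute (w * a * w⁻¹ * a⁻¹) a := (mem_center_iff.1 hz a).symm
      have h3 := hcm.mul_pow (p ^ j)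
      rw [show w * a * w⁻¹ * a⁻¹ * a = w * a * w⁻¹ by group, conj_pow, hj', mul_one, mul_inv_cancel,
        mul_one] at h3
      exact h3.symm
    exact mul_inv_eq_one.1
      (eq_one_of_pow_coprime h1 h2 ((Nat.Coprime.pow _ _) (Nat.coprime_two_left.2 hp)))
  obtain ⟨t, htW, htt, k, hk⟩ := exists_two_element hns hW
  have httZ : t * t ∈ center G := hW2 _ htt k (by
    rw [← pow_two, ← pow_mul, mul_comm, pow_mul, hk, one_pow])
  have htC : t ∉ C := fun ht => htW (mem_Wmod.2 fun a ha => by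
    rw [conj_eq_of_comm (mem_centralizer_iff.1 ht a ha).symm, mul_inv_cancel]; exact one_mem _)
  refine not_inverts h hns (Group.isSolvable_of_comm fun a b => hA.is_comm.comm a b) hW hW2 htW hk httZ
    fun a ha => ?_
  have hta : t * a * t⁻¹ ∈ A := (inferInstance : A.Normal).conj_mem a ha t
  refine Classical.byContradiction fun hn => htC (fix_le h hns hA hAZ hmax (k := k) ?_ (mul_mem hta ha) ?_ hn)
  · rw [hk]; exact one_mem _
  · refine comm_eq_of_conj ?_
    rw [show t * (t * a * t⁻¹ * a) * t⁻¹ = t * t * a * (t * t)⁻¹ * (t * a * t⁻¹) by group,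
      conj_eq_of_comm (mem_center_iff.1 httZ a).symm]
    exact comm_of_isMulCommutative hA ha hta

omit [Finite G] in
/-- The primary part of an abelian subgroup. -/
def pPart (p : ℕ) (A : Subgroup G) (hA : IsMulCommutative A) : Subgroup G where
  carrier := {a | a ∈ A ∧ ∃ k : ℕ, a ^ p ^ k = 1}
  one_mem' := ⟨one_mem A, 0, one_pow _⟩
  mul_mem' := by
    rintro a b ⟨ha, i, hi⟩ ⟨hb, j, hj⟩
    refine ⟨mul_mem ha hb, i + j, ?_⟩
    rw [(show Commute a b from comm_of_isMulCommutative hA ha hb).mul_pow, pow_add, pow_mul, hi, one_pow, one_mul,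
      mul_comm (p ^ i), pow_mul, hj, one_pow]
  inv_mem' := by
    rintro a ⟨ha, i, hi⟩
    exact ⟨inv_mem ha, i, by rw [inv_pow, hi, inv_one]⟩

omit [Finite G] in
theorem pPart_le {p : ℕ} {A : Subgroup G} (hA : IsMulCommutative A) : pPart p A hA ≤ A := fun _ h => h.1

omit [Finite G] in
theorem pPart_normal {p : ℕ} {A : Subgroup G} [hn : A.Normal] (hA : IsMulCommutative A) :
    (pPart p A hA).Normal :=
  ⟨fun a ha g => ⟨hn.conj_mem a ha.1 g, by
    obtain ⟨i, hi⟩ := ha.2
    exact ⟨i, by rw [conj_pow, hi, mul_one, mul_inv_cancel]⟩⟩⟩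

omit [Finite G] in
theorem pPart_isPGroup {p : ℕ} {A : Subgroup G} (hA : IsMulCommutative A) : IsPGroup p (pPart p A hA) :=
  fun a => a.2.2.imp fun i hi => Subtype.ext hi

omit [Finite G] in
theorem pPart_comm {p : ℕ} {A : Subgroup G} (hA : IsMulCommutative A) : IsMulCommutative (pPart p A hA) :=
  ⟨⟨fun a b => Subtype.ext (comm_of_isMulCommutative hA a.2.1 b.2.1)⟩⟩

/-- Abelian normal subgroups are central. -/
theorem abelian_normal_le_center (h : SubCA G) (hns : ¬ Group.IsSolvable G) (A : Subgroup G) [A.Normal]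
    (hA : IsMulCommutative A) : A ≤ center G := by
  classical
  by_contra hAZ
  let α := {B : Subgroup G // B.Normal ∧ IsMulCommutative B ∧ ¬ B ≤ center G}
  haveI : Nonempty α := ⟨⟨A, inferInstance, hA, hAZ⟩⟩
  obtain ⟨⟨A, hAn, hA, hAZ⟩, hbig⟩ := Finite.exists_max fun B : α => Nat.card (centralizer ((B : Subgroup G) : Set G))
  haveI := hAn
  set C := centralizer (A : Set G) with hC
  have hmaxOf : ∀ B : Subgroup G, B.Normal → IsMulCommutative B → ¬ B ≤ center G →
      C ≤ centralizer (B : Set G) → centralizer (B : Set G) = C := fun B h1 h2 h3 hle =>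
    (eq_of_le_of_card_ge hle (hbig ⟨B, h1, h2, h3⟩)).symm
  have hCc := abelian_centralizer h hns hA hAZ
  haveI : C.Normal := inferInstance
  have hCle : C ≤ centralizer (C : Set G) := fun c hc =>
    mem_centralizer_iff.2 fun d hd => comm_of_isMulCommutative hCc hd hc
  haveI := pPart_normal (p := 2) hCc
  by_cases hC2 : pPart 2 C hCc ≤ center G
  · obtain ⟨p, hp, hpZ⟩ : ∃ p : ℕ, p.Prime ∧ ¬ pPart p A hA ≤ center G := by
      by_contra hc
      push Not at hc
      refine hAZ fun a ha => MaxNorm.mem_of_prime_parts _ a fun p k hp hpk => hc p hp ⟨pow_mem ha _, k, ?_⟩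
      rw [← pow_mul, Nat.div_mul_cancel hpk, pow_orderOf_eq_one]
    haveI := pPart_normal (p := p) hA
    have hPC := hmaxOf _ inferInstance (pPart_comm hA) hpZ (centralizer_le (pPart_le hA))
    refine hpZ (odd_core_central h hns (pPart_comm hA) (hp.odd_of_ne_two ?_) (pPart_isPGroup hA) ?_ ?_)
    · rintro rfl
      exact hpZ fun a ha => hC2 ⟨mem_centralizer_iff.2 fun b hb => comm_of_isMulCommutative hA hb ha.1, ha.2⟩
    · intro B h1 h2 h3 hle
      rw [hPC] at hle ⊢
      exact hmaxOf B h1 h2 h3 hle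
    · intro c hc k hk
      rw [hPC] at hc
      exact hC2 ⟨hc, k, hk⟩
  · have hle : C ≤ centralizer ((pPart 2 C hCc : Subgroup G) : Set G) :=
      hCle.trans (centralizer_le (pPart_le hCc))
    have hPC := hmaxOf _ inferInstance (pPart_comm hCc) hC2 hle
    refine hC2 (two_core_central h hns (pPart_comm hCc) (pPart_isPGroup hCc) ?_)
    intro B h1 h2 h3 hle'
    rw [hPC] at hle' ⊢
    exact hmaxOf B h1 h2 h3 hle'

end Cfsg.Agent.Invol.MinNonCA
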