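import Cfsg.Agent.Lib.Invol.MinNonCA.Radical
import Cfsg.Agent.Lib.Grp.Components

/-!
# The component (for S4369)
-/

set_option autoImplicit false
set_option linter.style.haveILetI false

namespace Cfsg.Agent.Invol.MinNonCA

open Subgroup

universe u

variable {G : Type u} [Group G] [Finite G]

/-- A normal quasisimple subgroup with central centraliser. -/
structure Core (D : Subgroup G) : Prop where
  normal : D.Normal
  qs : Cfsg.IsQuasisimple D
  cent : centralizer (D : Set G) ≤ center G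

theorem exists_core (h : SubCA G) (hns : ¬ Group.IsSolvable G) : ∃ D : Subgroup G, Core D := by
  obtain ⟨L, hL⟩ : ∃ L : Subgroup G, Cfsg.IsComponent L := by
    by_contra hc
    push Not at hc
    have he : Cfsg.layer G = ⊥ := le_bot_iff.1 (sSup_le fun K hK => absurd hK (hc K))
    have hF := Grp.centralizer_fitting_le_of_layer_eq_bot he
    haveI := Grp.fittingSubgroup_isNilpotent (G := G)
    have hFZ : Cfsg.fittingSubgroup G ≤ center G := radical_le_center h hns _ inferInstance
    refine hns (Grp.isSolvable_of_injective (topEquiv (G := G)).symm.toMonoidHom (MulEquiv.injective _) ?_)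
    refine Grp.isSolvable_of_le (K := Cfsg.fittingSubgroup G) (fun g _ => hF ?_) inferInstance
    exact mem_centralizer_iff.2 fun y hy => (mem_center_iff.1 (hFZ hy) g).symm
  have hLns := Grp.IsQuasisimple.not_isSolvable hL.2
  obtain ⟨N₀, hN₀L, hN₀s, a, ha, b, hb, hab⟩ := exists_solvable_noncomm L hLns
  have hconj : ∀ g : G, L.map (MulAut.conj g).toMonoidHom = L := by
    intro g
    by_contra hne
    set K := L.map (MulAut.conj g).toMonoidHom with hK
    have hKc : Cfsg.IsComponent K := Grp.IsComponent.map_iso (MulAut.conj g) hL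
    have hKL := Grp.IsComponent.commute hKc hL hne
    have hKns := Grp.IsQuasisimple.not_isSolvable hKc.2
    obtain ⟨N₁, hN₁, -, c, hc, d, hd, hcd⟩ := exists_solvable_noncomm K hKns
    by_cases hH : K ⊔ N₀ = ⊤
    · have hKn : ∀ g : G, g ∈ normalizer (K : Set G) := fun g => by
        refine (sup_le (le_normalizer) (fun n hn => mem_normalizer_iff.2 fun k => ?_) : K ⊔ N₀ ≤ _)
          (hH ▸ mem_top g)
        have hfix : ∀ k ∈ K, n * k * n⁻¹ = k := fun k hk =>
          conj_eq_of_comm (mem_centralizer_iff.1 (hKL hk) n (hN₀L hn))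
        constructor
        · intro hk
          rwa [hfix k hk]
        · intro hk
          have h2 := hfix _ hk
          rwa [show k = n * k * n⁻¹ from (mul_left_cancel (mul_right_cancel h2)).symm]
      refine hne (eq_of_le_of_card_ge ?_ (card_map_of_injective (MulAut.conj g).injective).ge |> fun e => e)
      rintro _ ⟨x, hx, rfl⟩
      show g * x * g⁻¹ ∈ L
      have h1 := (mem_normalizer_iff.1 (hKn g⁻¹) (g * x * g⁻¹)).1 ⟨x, hx, rfl⟩
      obtain ⟨y, hy, hye⟩ := h1
      have e : g * y * g⁻¹ = x := by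
        have : g * y * g⁻¹ = g⁻¹ * (g * x * g⁻¹) * g⁻¹⁻¹ := hye
        rw [this]; group
      exfalso
      -- `x` lies in `K`, so `L` lies in its own centraliser
      have hLK : L ≤ K := fun z hz => by
        have := (mem_normalizer_iff.1 (hKn g⁻¹) (g * z * g⁻¹)).1 ⟨z, hz, rfl⟩
        rwa [show g⁻¹ * (g * z * g⁻¹) * g⁻¹⁻¹ = z by group] at this
      exact hab (mem_centralizer_iff.1 (hKL (hLK (hN₀L hb))) a (hN₀L ha))
    · exact hcd (h.comm_of_mem hH (mem_sup_right ha) (mem_sup_right hb) hab (mem_sup_left (hN₁ hc))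
        (mem_sup_left (hN₁ hd)) (mem_centralizer_iff.1 (hKL (hN₁ hc)) a (hN₀L ha)).symm
        (mem_centralizer_iff.1 (hKL (hN₁ hd)) a (hN₀L ha)).symm)
  haveI hLn : L.Normal := ⟨fun x hx g => (hconj g).le ⟨x, hx, rfl⟩⟩
  refine ⟨L, hLn, hL.2, radical_le_center h hns _ ?_⟩
  by_contra hC
  obtain ⟨N₁, hN₁, hN₁s, c, hc, d, hd, hcd⟩ := exists_solvable_noncomm _ hC
  by_cases hH : L ⊔ N₁ = ⊤
  · refine hC (Grp.isSolvable_of_le (K := (L ⊓ centralizer (L : Set G)) ⊔ N₁) (fun x hx => ?_)
      (isSolvable_sup (Group.isSolvable_of_comm fun a b => Subtype.ext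
        (mem_centralizer_iff.1 b.2.2 (a : G) a.2.1)) hN₁s))
    obtain ⟨l, hl, n, hn, rfl⟩ := mem_sup_of_normal_left.1 (hH ▸ mem_top x : x ∈ L ⊔ N₁)
    exact mul_mem_sup ⟨hl, by
      have := mul_mem hx (inv_mem (hN₁ hn))
      rwa [mul_inv_cancel_right] at this⟩ hn
  · obtain ⟨N₂, hN₂, -, e, he, f, hf, hef⟩ := exists_solvable_noncomm L hLns
    exact hef (h.comm_of_mem hH (mem_sup_right hc) (mem_sup_right hd) hcd (mem_sup_left (hN₂ he))
      (mem_sup_left (hN₂ hf)) (mem_centralizer_iff.1 (hN₁ hc) e (hN₂ he)) (mem_centralizer_iff.1 (hN₁ hc) f (hN₂ hf)))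

namespace Core

variable {D : Subgroup G} (hD : Core D)
include hD

omit [Finite G] in
theorem perfect : ⁅D, D⁆ = D := Subgroup.isPerfect_iff.1 hD.qs.1

omit [Finite G] in
theorem center_of_comm {g : G} (hg : ∀ d ∈ D, g * d * g⁻¹ * d⁻¹ ∈ center G) : g ∈ center G :=
  hD.cent (mem_centralizer_iff.2 fun d hd => by
    exact (commute_of_perfect (D := D) hD.perfect hg hd).symm)

omit [Finite G] in
theorem exists_noncomm {g : G} (hg : g ∉ center G) : ∃ d ∈ D, g * d ≠ d * g := by
  by_contra hc
  push Not at hc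
  exact hg (hD.cent (mem_centralizer_iff.2 fun d hd => (hc d hd).symm))

omit [Finite G] in
theorem jz_ne_top {x : G} (hx : x ∉ center G) : Jz x ≠ ⊤ := fun e => hx (hD.center_of_comm fun d hd => by
  have h1 : d * x * d⁻¹ * x⁻¹ ∈ center G := (e ▸ mem_top d : d ∈ Jz x)
  have h2 := inv_mem h1
  rw [show (d * x * d⁻¹ * x⁻¹)⁻¹ = x * d * x⁻¹ * d⁻¹ by group] at h2
  exact h2)

end Core

/-- In a perfect CA group a maximal abelian subgroup is not its own normaliser. -/
theorem exists_normalizer_outside {E : Type u} [Group E] [Finite E] (hE : CA E) (hperf : commutator E = ⊤) {y : E}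
    (hy : y ∉ center E) :
    ∃ n : E, n * y ≠ y * n ∧ ∀ a : E, a * y = y * a → n * a * n⁻¹ * y = y * (n * a * n⁻¹) := by
  by_contra hc
  push Not at hc
  have hA : ∀ {a b : E}, a * y = y * a → b * y = y * b → a * b = b * a := fun ha hb => hE.comm hy ha hb
  set A := centralizer ({y} : Set E) with hAdef
  obtain ⟨p, hp, a, haA, hak, haZ⟩ : ∃ p : ℕ, p.Prime ∧ ∃ a ∈ A, (∃ k, a ^ p ^ k = 1) ∧ a ∉ center E := by
    by_contra hc'
    push Not at hc'
    refine hy (MaxNorm.mem_of_prime_parts _ y fun p k hp hpk => hc' p hp _ ?_ ⟨k, ?_⟩)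
    · exact pow_mem (mem_centralizer_singleton_iff.2 rfl) _
    · rw [← pow_mul, Nat.div_mul_cancel hpk, pow_orderOf_eq_one]
  haveI := Fact.mk hp
  let R : Subgroup E :=
    { carrier := {a | a ∈ A ∧ ∃ k, a ^ p ^ k = 1}
      one_mem' := ⟨one_mem A, 0, one_pow _⟩
      mul_mem' := by
        rintro a b ⟨ha, i, hi⟩ ⟨hb, j, hj⟩
        refine ⟨mul_mem ha hb, i + j, ?_⟩
        rw [(show Commute a b from hA (mem_centralizer_singleton_iff.1 ha)
          (mem_centralizer_singleton_iff.1 hb)).mul_pow, pow_add, pow_mul, hi, one_pow, one_mul, mul_comm (p ^ i),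
          pow_mul, hj, one_pow]
      inv_mem' := by
        rintro a ⟨ha, i, hi⟩
        exact ⟨inv_mem ha, i, by rw [inv_pow, hi, inv_one]⟩ }
  have hRp : IsPGroup p R := fun a => a.2.2.imp fun i hi => Subtype.ext hi
  obtain ⟨P, hP⟩ := hRp.exists_le_sylow
  have haR : a ∈ R := ⟨haA, hak⟩
  -- the normaliser of `R` lies in `A`
  have hN : ∀ n : E, n * a * n⁻¹ ∈ A → n * y = y * n := by
    intro n hn
    by_contra hny
    obtain ⟨b, hb, hb'⟩ := hc n hny
    refine hb' ?_
    have hna : n * a * n⁻¹ ∉ center E := fun hz => haZ (by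
      have := (inferInstance : (center E).Normal).conj_mem _ hz n⁻¹
      rwa [show n⁻¹ * (n * a * n⁻¹) * n⁻¹⁻¹ = a by group] at this)
    refine hE.comm hna ?_ (mem_centralizer_singleton_iff.1 hn).symm
    have := hA hb (mem_centralizer_singleton_iff.1 haA)
    rw [show n * b * n⁻¹ * (n * a * n⁻¹) = n * (b * a) * n⁻¹ by group, this]
    group
  have hRN : ∀ n ∈ normalizer (R : Set E), n ∈ A := fun n hn =>
    mem_centralizer_singleton_iff.2 (hN n ((mem_normalizer_iff.1 hn a).1 haR).1)
  have hPR : (P : Subgroup E) = R := by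
    by_contra hne
    haveI := P.isPGroup'.isNilpotent
    have hlt : R.subgroupOf (P : Subgroup E) < ⊤ := lt_top_iff_ne_top.2 fun e =>
      hne (le_antisymm (subgroupOf_eq_top.1 e) hP)
    obtain ⟨n, hn, hnR⟩ := SetLike.exists_of_lt
      (Group.normalizerCondition_of_isNilpotent _ hlt)
    refine hnR (mem_subgroupOf.2 ⟨hRN n ?_, ?_⟩)
    · refine mem_normalizer_iff.2 fun x => ?_
      constructor
      · intro hx
        have := (mem_normalizer_iff.1 hn ⟨x, hP hx⟩).1 (mem_subgroupOf.2 hx)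
        exact mem_subgroupOf.1 this
      · intro hx
        have hxP : x ∈ (P : Subgroup E) := by
          have := mul_mem (mul_mem (inv_mem n.2) (hP hx)) n.2
          rwa [show (n : E)⁻¹ * (n * x * (n : E)⁻¹) * n = x by group] at this
        exact mem_subgroupOf.1 ((mem_normalizer_iff.1 hn ⟨x, hxP⟩).2 (mem_subgroupOf.2 hx))
    · obtain ⟨k, hk⟩ := P.isPGroup' n
      exact ⟨k, congrArg Subtype.val hk⟩
  have hB : normalizer ((P : Subgroup E) : Set E) ≤ centralizer ((P : Subgroup E) : Set E) := fun n hn =>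
    mem_centralizer_iff.2 fun x hx => by
      have hn' : n ∈ A := hRN n (hPR ▸ hn)
      have hx' : x ∈ A := (hPR ▸ hx : x ∈ R).1
      exact hA (mem_centralizer_singleton_iff.1 hx') (mem_centralizer_singleton_iff.1 hn')
  letI : CommGroup (P : Subgroup E) :=
    { (inferInstance : Group (P : Subgroup E)) with
      mul_comm := fun x z => Subtype.ext (mem_centralizer_iff.1 (hB (le_normalizer z.2)) x x.2) }
  have hc' := MonoidHom.ker_transferSylow_isComplement' P hB
  have hker : (MonoidHom.transferSylow P hB).ker = ⊤ := top_le_iff.1 (hperf ▸ Abelianization.commutator_subset_ker _)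
  rw [hker, isComplement'_top_left] at hc'
  exact haZ ((mem_bot.1 (hc' ▸ hP haR)) ▸ one_mem _)

end Cfsg.Agent.Invol.MinNonCA
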